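import Groth.Agent.AlgGrp1.Sub
import Groth.Agent.GitQuot.GrpdField

/-!
Over a field every subgroup scheme (monomorphism which is an immersion) is closed; preimages of closed subschemes.
-/

universe u

open CategoryTheory Limits MonoidalCategory CartesianMonoidalCategory MonObj GrpObj AlgebraicGeometry

noncomputable section

namespace Groth.Agf

/-- The preimage of a closed subscheme. -/
theorem exists_preimage {S : Scheme.{u}} {A B Y : Over S} (m : A ⟶ B) (y : Y ⟶ B) [IsClosedImmersion y.left] :
    ∃ (E : Over S) (c : E ⟶ A), IsClosedImmersion c.left ∧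
      ∀ (W : Over S) (x : W ⟶ A), (∃ e : W ⟶ E, e ≫ c = x) ↔ ∃ x' : W ⟶ Y, x ≫ m = x' ≫ y := by
  let E : Over S := Over.mk (pullback.fst m.left y.left ≫ A.hom)
  let c : E ⟶ A := Over.homMk (pullback.fst m.left y.left) rfl
  let d : E ⟶ Y := Over.homMk (pullback.snd m.left y.left) (by
    show pullback.snd m.left y.left ≫ Y.hom = pullback.fst m.left y.left ≫ A.hom
    rw [← Over.w y, ← pullback.condition_assoc, Over.w m])
  have hcd : c ≫ m = d ≫ y := Over.OverMorphism.ext pullback.condition
  refine ⟨E, c, inferInstanceAs (IsClosedImmersion (pullback.fst m.left y.left)), fun W x => ⟨?_, ?_⟩⟩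
  · rintro ⟨e, rfl⟩
    exact ⟨e ≫ d, by rw [Category.assoc, hcd, Category.assoc]⟩
  · rintro ⟨x', hx'⟩
    have h : x.left ≫ m.left = x'.left ≫ y.left := congrArg CommaMorphism.left hx'
    refine ⟨Over.homMk (pullback.lift x.left x'.left h) ?_, Over.OverMorphism.ext (pullback.lift_fst _ _ _)⟩
    show pullback.lift _ _ _ ≫ pullback.fst _ _ ≫ A.hom = W.hom
    rw [pullback.lift_fst_assoc, Over.w]

variable {k : Type u} [Field k] {G H : Over (Spec (CommRingCat.of k))} (h : H ⟶ G) [IsImmersion h.left]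

/-- A field valued point in the range of an immersion factors through it. -/
theorem exists_factor_of_fieldPt {L : Over (Spec (CommRingCat.of k))} [Subsingleton L.left] [IsReduced L.left]
    (f : L ⟶ G) (hf : Set.range f.left ⊆ Set.range h.left) : ∃ g : L ⟶ H, g ≫ h = f := by
  have hs : Surjective (pullback.fst f.left h.left) := ⟨fun t => by
    have : t ∈ Set.range (pullback.fst f.left h.left) := by
      rw [Scheme.Pullback.range_fst]; exact hf ⟨t, rfl⟩
    exact this⟩
  have : IsClosedImmersion (pullback.fst f.left h.left) :=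
    IsClosedImmersion.of_isPreimmersion _ (by rw [hs.surj.range_eq]; exact isClosed_univ)
  have := isIso_of_isClosedImmersion_of_surjective (pullback.fst f.left h.left)
  refine ⟨Over.homMk (inv (pullback.fst f.left h.left) ≫ pullback.snd f.left h.left) ?_, ?_⟩
  · rw [← Over.w h, Category.assoc, ← pullback.condition_assoc, IsIso.inv_hom_id_assoc, Over.w f]
  · ext
    simp [← pullback.condition]

/-- The residue field of a point as an object over `k`. -/
def resObj {X : Over (Spec (CommRingCat.of k))} (q : X.left) : Over (Spec (CommRingCat.of k)) :=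
  Over.mk (X.left.fromSpecResidueField q ≫ X.hom)

/-- The tautological point. -/
def resPt {X : Over (Spec (CommRingCat.of k))} (q : X.left) : resObj q ⟶ X :=
  Over.homMk (X.left.fromSpecResidueField q) rfl

theorem range_resPt {X : Over (Spec (CommRingCat.of k))} (q : X.left) : Set.range (resPt q).left = {q} :=
  X.left.range_fromSpecResidueField q

instance {X : Over (Spec (CommRingCat.of k))} (q : X.left) : Subsingleton (resObj q).left :=
  inferInstanceAs (Subsingleton (Spec (X.left.residueField q)))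

instance {X : Over (Spec (CommRingCat.of k))} (q : X.left) : IsReduced (resObj q).left :=
  inferInstanceAs (IsReduced (Spec (X.left.residueField q)))

instance {X : Over (Spec (CommRingCat.of k))} (q : X.left) : Nonempty (resObj q).left :=
  inferInstanceAs (Nonempty (Spec (X.left.residueField q)))

variable [GrpObj G] [GrpObj H] [IsMonHom h]

/-- **Subgroup schemes over a field are closed.** -/
theorem isClosedImmersion_of_subgroup : IsClosedImmersion h.left := by
  refine IsClosedImmersion.of_isPreimmersion _ (isClosed_of_closure_subset fun x hx => ?_)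
  let R := Set.range h.left
  let C := closure R
  let e : Spec (CommRingCat.of k) ≅ Spec (CommRingCat.of k) := Iso.refl _
  have hmulR : ∀ q : (G ⊗ G).left, (fst G G).left q ∈ R → (snd G G).left q ∈ R → μ[G].left q ∈ R := by
    intro q h1 h2
    obtain ⟨a, ha⟩ := exists_factor_of_fieldPt h (resPt q ≫ fst G G) (by
      rw [Over.comp_left, Scheme.Hom.comp_base, TopCat.coe_comp, Set.range_comp, range_resPt, Set.image_singleton,
        Set.singleton_subset_iff]; exact h1)
    obtain ⟨b, hb⟩ := exists_factor_of_fieldPt h (resPt q ≫ snd G G) (by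
      rw [Over.comp_left, Scheme.Hom.comp_base, TopCat.coe_comp, Set.range_comp, range_resPt, Set.image_singleton,
        Set.singleton_subset_iff]; exact h2)
    have hab : (a * b) ≫ h = resPt q ≫ μ[G] := by
      rw [MonObj.mul_comp, ha, hb, ← MonObj.comp_mul, show fst G G * snd G G = μ[G] from by
        rw [Hom.mul_def, lift_fst_snd, Category.id_comp]]
    obtain ⟨t⟩ := (inferInstance : Nonempty (resObj q).left)
    have ht : (resPt q).left t = q := (range_resPt q).le ⟨t, rfl⟩
    exact ⟨(a * b).left t, by rw [← Scheme.Hom.comp_apply, ← Over.comp_left, hab, Over.comp_left, Scheme.Hom.comp_apply, ht]⟩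
  have hinvR : ∀ r ∈ R, ι[G].left r ∈ R := by
    rintro _ ⟨s, rfl⟩
    refine ⟨ι[H].left s, ?_⟩
    rw [← Scheme.Hom.comp_apply, ← Scheme.Hom.comp_apply, ← Over.comp_left, ← Over.comp_left, GrpObj.inv_hom h]
  have hmulC : ∀ q : (G ⊗ G).left, (fst G G).left q ∈ C → (snd G G).left q ∈ C → μ[G].left q ∈ C := by
    intro q h1 h2
    have hq : q ∈ closure (⇑(fst G G).left ⁻¹' R ∩ ⇑(snd G G).left ⁻¹' R) :=
      Groth.GrpdBasic.mem_closure_pullback k e G.hom G.hom R R h1 h2
    exact map_mem_closure μ[G].left.continuous hq fun p hp => hmulR p hp.1 hp.2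
  have hinvC : ∀ r ∈ C, ι[G].left r ∈ C := fun r hr => map_mem_closure ι[G].left.continuous hr fun p hp => hinvR p hp
  -- translation by the point `x`
  let T := resObj x
  let xT : T ⟶ G := resPt x
  have hxT : ∀ t : T.left, xT.left t = x := fun t => (range_resPt x).le ⟨t, rfl⟩
  let Φ : (T ⟶ G) → (G ⊗ T ⟶ G ⊗ T) := fun y => lift ((snd G T ≫ y) * fst G T) (snd G T)
  have hΦC : ∀ (y : T ⟶ G), (∀ t, y.left t ∈ C) → ∀ z : (G ⊗ T).left, (fst G T).left z ∈ C →
      (fst G T).left ((Φ y).left z) ∈ C := by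
    intro y hy z hz
    rw [← Scheme.Hom.comp_apply, ← Over.comp_left, lift_fst, Hom.mul_def, Over.comp_left, Scheme.Hom.comp_apply]
    refine hmulC _ ?_ ?_
    · rw [← Scheme.Hom.comp_apply, ← Over.comp_left, lift_fst, Over.comp_left, Scheme.Hom.comp_apply]
      exact hy _
    · rw [← Scheme.Hom.comp_apply, ← Over.comp_left, lift_snd]
      exact hz
  have hΦΦ : ∀ y : T ⟶ G, Φ y⁻¹ ≫ Φ y = 𝟙 (G ⊗ T) := by
    intro y
    simp only [Φ, comp_lift, MonObj.comp_mul, lift_fst, lift_snd_assoc, GrpObj.comp_inv, lift_snd,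
      mul_inv_cancel_left, lift_fst_snd]
  have hx' : ∀ t, xT⁻¹.left t ∈ C := fun t => by
    rw [show xT⁻¹ = xT ≫ ι[G] from Hom.inv_def _, Over.comp_left, Scheme.Hom.comp_apply]
    exact hinvC _ (by rw [hxT]; exact hx)
  have hopen : UniversallyOpen (fst G T).left := by
    show UniversallyOpen (pullback.fst G.hom T.hom)
    have := Groth.GrpdBasic.universallyOpen_of_field k e T.hom
    infer_instance
  -- the open dense part and its translate meet
  obtain ⟨W, hW, hRW⟩ : ∃ W : Set G.left, IsOpen W ∧ R = W ∩ C :=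
    ⟨coborder R, (h.left.isLocallyClosed_range).isOpen_coborder, (coborder_inter_closure (s := R)).symm⟩
  obtain ⟨t⟩ := (inferInstance : Nonempty T.left)
  have hne : ∃ r : G.left, r ∈ R := by
    obtain ⟨t'⟩ := (inferInstance : Nonempty (Spec (CommRingCat.of k)))
    exact ⟨h.left ((η : 𝟙_ (Over (Spec (CommRingCat.of k))) ⟶ H).left t'), ⟨_, rfl⟩⟩
  obtain ⟨r, hr⟩ := hne
  obtain ⟨z₀, hz₀, -⟩ : ∃ z : (G ⊗ T).left, (fst G T).left z = r ∧ (snd G T).left z = t :=
    Scheme.Pullback.exists_preimage_pullback (f := G.hom) (g := T.hom) r t (Subsingleton.elim _ _)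
  have hxC : ∀ t, xT.left t ∈ C := fun t => by rw [hxT]; exact hx
  let z₁ := (Φ xT⁻¹).left z₀
  have hz₁C : (fst G T).left z₁ ∈ C := hΦC _ hx' _ (by rw [hz₀]; exact subset_closure hr)
  have hz₁ : (Φ xT).left z₁ = z₀ := by
    rw [← Scheme.Hom.comp_apply, ← Over.comp_left, hΦΦ]
    rfl
  let O : Set (G ⊗ T).left := (fun z => (fst G T).left ((Φ xT).left z)) ⁻¹' W
  have hO : IsOpen O := hW.preimage ((fst G T).left.continuous.comp (Φ xT).left.continuous)
  have hOz : z₁ ∈ O := by
    show (fst G T).left ((Φ xT).left z₁) ∈ W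
    rw [hz₁, hz₀]
    exact (hRW.le hr).1
  obtain ⟨_, hOR, ⟨z₂, hz₂O, rfl⟩⟩ : ((R : Set G.left) ∩ (fst G T).left '' O).Nonempty := by
    rw [Set.inter_comm]
    exact mem_closure_iff.1 hz₁C _ ((fst G T).left.isOpenMap O hO) ⟨z₁, hOz, rfl⟩
  have hz₂R : (fst G T).left ((Φ xT).left z₂) ∈ R := hRW.ge ⟨hz₂O, hΦC _ hxC _ (subset_closure hOR)⟩
  obtain ⟨a, ha⟩ := exists_factor_of_fieldPt h (resPt z₂ ≫ fst G T) (by
    rw [Over.comp_left, Scheme.Hom.comp_base, TopCat.coe_comp, Set.range_comp, range_resPt, Set.image_singleton,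
      Set.singleton_subset_iff]; exact hOR)
  obtain ⟨b, hb⟩ := exists_factor_of_fieldPt h (resPt z₂ ≫ Φ xT ≫ fst G T) (by
    rw [Over.comp_left, Scheme.Hom.comp_base, TopCat.coe_comp, Set.range_comp, range_resPt, Set.image_singleton,
      Set.singleton_subset_iff, Over.comp_left, Scheme.Hom.comp_apply]; exact hz₂R)
  have hab : (b * a⁻¹) ≫ h = resPt z₂ ≫ snd G T ≫ xT := by
    rw [MonObj.mul_comp, GrpObj.inv_comp, ha, hb]
    simp only [Φ, lift_fst, MonObj.comp_mul, mul_inv_cancel_right]
  obtain ⟨u⟩ := (inferInstance : Nonempty (resObj z₂).left)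
  exact ⟨(b * a⁻¹).left u, by
    rw [← Scheme.Hom.comp_apply, ← Over.comp_left, hab, Over.comp_left, Scheme.Hom.comp_apply, Over.comp_left,
      Scheme.Hom.comp_apply, hxT]⟩

end Groth.Agf
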