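import Mathlib.CategoryTheory.Monoidal.Cartesian.Grp
import Mathlib.CategoryTheory.Monoidal.Cartesian.Mon

/-! A subobject whose points form a subgroup is a group object. -/

open CategoryTheory MonoidalCategory CartesianMonoidalCategory MonObj GrpObj

namespace Groth.Agf

variable {C : Type*} [Category C] [CartesianMonoidalCategory C] {N G : C} [GrpObj G]

/-- A monomorphism representing a subgroup of the points is a homomorphism of group objects. -/
theorem exists_grpObj_of_subgroup (n : N ⟶ G) [Mono n] (P : ∀ ⦃T : C⦄, (T ⟶ G) → Prop)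
    (hn : ∀ (T : C) (g : T ⟶ G), (∃ z : T ⟶ N, z ≫ n = g) ↔ P g)
    (h1 : ∀ T : C, P (1 : T ⟶ G)) (hmul : ∀ ⦃T : C⦄ (a b : T ⟶ G), P a → P b → P (a * b))
    (hinv : ∀ ⦃T : C⦄ (a : T ⟶ G), P a → P a⁻¹) :
    ∃ _ : GrpObj N, IsMonHom n := by
  have hP : ∀ {T : C} (z : T ⟶ N), P (z ≫ n) := fun z => (hn _ _).1 ⟨z, rfl⟩
  obtain ⟨o, ho⟩ := (hn _ _).2 (h1 (𝟙_ C))
  obtain ⟨m, hm⟩ := (hn _ _).2 (hmul _ _ (hP (fst N N)) (hP (snd N N)))
  obtain ⟨i, hi⟩ := (hn _ _).2 (hinv _ (hP (𝟙 N)))
  have hm' : ∀ {T : C} (a b : T ⟶ N), lift a b ≫ m ≫ n = (a ≫ n) * (b ≫ n) := fun a b => by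
    rw [hm, MonObj.comp_mul, lift_fst_assoc, lift_snd_assoc]
  rw [Category.id_comp] at hi
  let inst : GrpObj N :=
    { one := o
      mul := m
      one_mul := by
        rw [← cancel_mono n, show o ▷ N = lift (fst _ _ ≫ o) (snd _ _) from by ext <;> simp, Category.assoc, hm',
          Category.assoc, ho, MonObj.comp_one, _root_.one_mul, leftUnitor_hom]
      mul_one := by
        rw [← cancel_mono n, show N ◁ o = lift (fst _ _) (snd _ _ ≫ o) from by ext <;> simp, Category.assoc, hm',
          Category.assoc, ho, MonObj.comp_one, _root_.mul_one, rightUnitor_hom]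
      mul_assoc := by
        rw [← cancel_mono n, show m ▷ N = lift (fst _ _ ≫ m) (snd _ _) from by ext <;> simp, Category.assoc, hm',
          show N ◁ m = lift (fst _ _) (snd _ _ ≫ m) from by ext <;> simp, Category.assoc, Category.assoc, Category.assoc,
          hm', hm, MonObj.comp_mul, _root_.mul_assoc]
        simp [hm, MonObj.comp_mul]
      inv := i
      left_inv := by
        rw [← cancel_mono n, Category.assoc, hm', Category.assoc, hi, Category.id_comp, inv_mul_cancel, ho,
          MonObj.comp_one]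
      right_inv := by
        rw [← cancel_mono n, Category.assoc, hm', Category.assoc, hi, Category.id_comp, mul_inv_cancel, ho,
          MonObj.comp_one] }
  refine ⟨inst, ⟨?_, ?_⟩⟩
  · show o ≫ n = η[G]
    rw [ho, Hom.one_def, toUnit_unit, Category.id_comp]
  · show m ≫ n = (n ⊗ₘ n) ≫ μ[G]
    rw [hm, Hom.mul_def]
    congr 1
    ext <;> simp

end Groth.Agf
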