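import Groth.Agent.AlgGrp2.Basic
import Groth.Agent.Agf.ClosedSubgroup
import Groth.Agent.Agf.SubobjGrp
import Groth.Agent.SchemeMorphisms.Points
import Mathlib.AlgebraicGeometry.Morphisms.SchemeTheoreticallyDominant

/-! The scheme-theoretic image of a quasi-compact homomorphism over a field is a subgroup, and is the image. -/

universe u

open CategoryTheory Limits MonoidalCategory CartesianMonoidalCategory MonObj GrpObj AlgebraicGeometry

noncomputable section

namespace Groth.Agf

variable {k : Type u} [Field k]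

/-- Lift through a closed immersion along a scheme-theoretically dominant map. -/
theorem exists_lift_of_dominant_over {W Y G K : Over (Spec (CommRingCat.of k))} (i : K ⟶ G) [IsClosedImmersion i.left]
    (a : Y ⟶ G) (w : W ⟶ Y) [IsSchemeTheoreticallyDominant w.left] (t : W ⟶ K) (h : t ≫ i = w ≫ a) :
    ∃ b : Y ⟶ K, b ≫ i = a := by
  obtain ⟨E, c, hc, hE⟩ := exists_preimage a i
  obtain ⟨e, he⟩ := (hE W w).2 ⟨t, h.symm⟩
  have hk : c.left.ker = ⊥ := by
    rw [← le_bot_iff, ← w.left.ker_eq_bot, ← he, Over.comp_left]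
    exact e.left.le_ker_comp c.left
  have : IsIso c.left := IsClosedImmersion.isIso_iff_ker_eq_bot.mpr hk
  have : IsIso ((Over.forget _).map c) := this
  have : IsIso c := isIso_of_reflects_iso c (Over.forget _)
  obtain ⟨b, hb⟩ := (hE Y (𝟙 Y)).1 ⟨inv c, IsIso.inv_hom_id c⟩
  exact ⟨b, by rw [← hb, Category.id_comp]⟩

theorem dominant_whiskerRight {X Y : Over (Spec (CommRingCat.of k))} (g : X ⟶ Y) [IsSchemeTheoreticallyDominant g.left]
    [QuasiCompact g.left] (T : Over (Spec (CommRingCat.of k))) :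
    IsSchemeTheoreticallyDominant (g ▷ T).left ∧ QuasiCompact (g ▷ T).left := by
  have sq := AlgGrp2.isPullback_whiskerRight_fst T g
  have : Flat (fst Y T).left := inferInstanceAs (Flat (pullback.fst Y.hom T.hom))
  exact ⟨IsSchemeTheoreticallyDominant.of_isPullback sq.flip, MorphismProperty.of_isPullback sq.flip ‹_›⟩

theorem dominant_whiskerLeft {X Y : Over (Spec (CommRingCat.of k))} (g : X ⟶ Y) [IsSchemeTheoreticallyDominant g.left]
    [QuasiCompact g.left] (T : Over (Spec (CommRingCat.of k))) :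
    IsSchemeTheoreticallyDominant (T ◁ g).left ∧ QuasiCompact (T ◁ g).left := by
  have sq := AlgGrp2.isPullback_whiskerLeft_snd T g
  have : Flat (snd T Y).left := inferInstanceAs (Flat (pullback.snd T.hom Y.hom))
  exact ⟨IsSchemeTheoreticallyDominant.of_isPullback sq.flip, MorphismProperty.of_isPullback sq.flip ‹_›⟩

/-- A point without proper generalisations exists. -/
theorem exists_maximal_point {X : Scheme.{u}} (a : X) : ∃ z : X, ∀ y, y ⤳ z → y = z := by
  have hC : IsIrreducible (irreducibleComponent a) := isIrreducible_irreducibleComponent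
  have hg : IsGenericPoint hC.genericPoint (irreducibleComponent a) := by
    have := hC.isGenericPoint_genericPoint_closure
    rwa [isClosed_irreducibleComponent.closure_eq] at this
  refine ⟨hC.genericPoint, fun y hy => ?_⟩
  have hsub : irreducibleComponent a ⊆ closure {y} := by
    rw [← hg.def]
    exact closure_minimal (by simpa using specializes_iff_mem_closure.1 hy) isClosed_closure
  have heq := eq_irreducibleComponent isIrreducible_singleton.closure.isPreirreducible hsub
  exact IsGenericPoint.eq (heq : closure {y} = irreducibleComponent a) hg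

variable {H G K : Over (Spec (CommRingCat.of k))} [GrpObj H] [GrpObj G] (f : H ⟶ G) [IsMonHom f]
  (i : K ⟶ G) [IsClosedImmersion i.left] (g : H ⟶ K) (hgi : g ≫ i = f) [IsSchemeTheoreticallyDominant g.left]
  [QuasiCompact g.left]

include hgi

/-- The scheme-theoretic image of a homomorphism is a subgroup. -/
theorem exists_grpObj_image : ∃ _ : GrpObj K, IsMonHom i ∧ IsMonHom g := by
  have : Mono i.left := inferInstance
  have : Mono i := Over.mono_of_mono_left i
  obtain ⟨h1, h2⟩ := dominant_whiskerRight g H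
  obtain ⟨h3, h4⟩ := dominant_whiskerLeft g K
  have : IsSchemeTheoreticallyDominant (g ▷ H ≫ K ◁ g).left := by rw [Over.comp_left]; infer_instance
  obtain ⟨m, hm⟩ := exists_lift_of_dominant_over i ((fst K K ≫ i) * (snd K K ≫ i)) (g ▷ H ≫ K ◁ g) (μ[H] ≫ g) (by
    rw [MonObj.comp_mul, Category.assoc, hgi, IsMonHom.mul_hom, Hom.mul_def]
    congr 1
    ext <;> simp [hgi])
  obtain ⟨v, hv⟩ := exists_lift_of_dominant_over i (i ≫ ι[G]) g (ι[H] ≫ g) (by
    rw [Category.assoc, hgi, GrpObj.inv_hom f, ← hgi, Category.assoc])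
  have hmul : ∀ {T : Over (Spec (CommRingCat.of k))} (a b : T ⟶ K), (lift a b ≫ m) ≫ i = (a ≫ i) * (b ≫ i) := fun a b => by
    rw [Category.assoc, hm, MonObj.comp_mul, lift_fst_assoc, lift_snd_assoc]
  obtain ⟨inst, hi⟩ := exists_grpObj_of_subgroup i (fun T x => ∃ z : T ⟶ K, z ≫ i = x) (fun _ _ => Iff.rfl)
    (fun T => ⟨toUnit T ≫ η[H] ≫ g, by rw [Category.assoc, Category.assoc, hgi, IsMonHom.one_hom, Hom.one_def]⟩)
    (fun T a b ⟨x, hx⟩ ⟨y, hy⟩ => ⟨lift x y ≫ m, by rw [hmul, hx, hy]⟩)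
    (fun T a ⟨x, hx⟩ => ⟨x ≫ v, by rw [Category.assoc, hv, ← hx, Hom.inv_def, Category.assoc]⟩)
  refine ⟨inst, hi, ⟨?_, ?_⟩⟩
  · rw [← cancel_mono i, Category.assoc, hgi, IsMonHom.one_hom, IsMonHom.one_hom]
  · rw [← cancel_mono i, Category.assoc, hgi, IsMonHom.mul_hom, Category.assoc, IsMonHom.mul_hom i,
      MonoidalCategory.tensorHom_comp_tensorHom_assoc, hgi]

omit hgi in
/-- A scheme-theoretically dominant quasi-compact homomorphism over a field is surjective. -/
theorem surjective_of_dominant [GrpObj K] [IsMonHom g] : Surjective g.left := by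
  refine ⟨fun x => ?_⟩
  let R := Set.range g.left
  let T := resObj x
  let xT : T ⟶ K := resPt x
  let Φ : K ⊗ T ⟶ K ⊗ T := lift ((snd K T ≫ xT) * (fst K T)⁻¹) (snd K T)
  let Ψ : K ⊗ T ⟶ K ⊗ T := lift ((fst K T)⁻¹ * (snd K T ≫ xT)) (snd K T)
  have hΨΦ : Ψ ≫ Φ = 𝟙 _ := by
    simp only [Φ, Ψ, comp_lift, MonObj.comp_mul, GrpObj.comp_inv, lift_fst, lift_snd_assoc, lift_snd]
    simp [_root_.mul_inv_rev]
  have hΦΨ : Φ ≫ Ψ = 𝟙 _ := by
    simp only [Φ, Ψ, comp_lift, MonObj.comp_mul, GrpObj.comp_inv, lift_fst, lift_snd_assoc, lift_snd]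
    simp [_root_.mul_inv_rev, _root_.mul_assoc]
  obtain ⟨t⟩ := (inferInstance : Nonempty T.left)
  obtain ⟨a₀, -, -⟩ := Scheme.Pullback.exists_preimage_pullback (f := K.hom) (g := T.hom)
    ((η : 𝟙_ (Over (Spec (CommRingCat.of k))) ⟶ K).left (T.hom t)) t (Subsingleton.elim _ _)
  obtain ⟨z, hz⟩ := exists_maximal_point (X := (K ⊗ T).left) a₀
  have hΦz : ∀ y, y ⤳ Φ.left z → y = Φ.left z := fun y hy => by
    have hback : ∀ p, Ψ.left (Φ.left p) = p := fun p => by
      rw [← Scheme.Hom.comp_apply, ← Over.comp_left, hΦΨ]; rfl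
    have := hy.map Ψ.left.continuous
    rw [hback] at this
    have h := hz _ this
    rw [← h, ← Scheme.Hom.comp_apply, ← Over.comp_left, hΨΦ]; rfl
  obtain ⟨hd, hq⟩ := dominant_whiskerRight g T
  have hrange : ∀ z : (K ⊗ T).left, (∀ y, y ⤳ z → y = z) → (fst K T).left z ∈ R := fun z hz => by
    obtain ⟨a, ha⟩ := SchemeMorphisms.exists_specializes_of_mem_closure_range (g ▷ T).left
      (s := z) (by rw [(g ▷ T).left.denseRange.closure_range]; trivial)
    refine ⟨(fst H T).left a, ?_⟩
    rw [← hz _ ha, ← Scheme.Hom.comp_apply, ← Scheme.Hom.comp_apply, ← Over.comp_left, ← Over.comp_left,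
      whiskerRight_fst]
  let q := (lift (Φ ≫ fst K T) (fst K T)).left z
  have hq1 : (fst K K).left q ∈ R := by
    rw [← Scheme.Hom.comp_apply, ← Over.comp_left, lift_fst, Over.comp_left, Scheme.Hom.comp_apply]
    exact hrange _ hΦz
  have hq2 : (snd K K).left q ∈ R := by
    rw [← Scheme.Hom.comp_apply, ← Over.comp_left, lift_snd]
    exact hrange _ hz
  obtain ⟨a, ha⟩ := hq1
  obtain ⟨p, hp, -⟩ := Scheme.exists_preimage_of_isPullback (AlgGrp2.isPullback_whiskerRight_fst K g) q a ha.symm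
  obtain ⟨b, hb⟩ := hq2
  have hpb : (snd H K).left p = g.left b := by
    rw [hb, ← hp, ← Scheme.Hom.comp_apply, ← Over.comp_left, whiskerRight_snd]
  obtain ⟨r, hr, -⟩ := Scheme.exists_preimage_of_isPullback (AlgGrp2.isPullback_whiskerLeft_snd H g) p b hpb
  refine ⟨μ[H].left r, ?_⟩
  have hmu : g.left (μ[H].left r) = μ[K].left q := by
    rw [← hp, ← hr, ← Scheme.Hom.comp_apply, ← Scheme.Hom.comp_apply, ← Scheme.Hom.comp_apply, ← Over.comp_left,
      ← Over.comp_left, ← Over.comp_left, IsMonHom.mul_hom, tensorHom_def', Category.assoc]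
  rw [hmu, ← Scheme.Hom.comp_apply, ← Over.comp_left, show lift (Φ ≫ fst K T) (fst K T) ≫ μ[K] = snd K T ≫ xT from by
    rw [← Hom.mul_def]; simp [Φ]]
  rw [Over.comp_left, Scheme.Hom.comp_apply]
  exact range_resPt x |>.le ⟨_, rfl⟩

end Groth.Agf
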