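import Groth.Agent.Ega2Proj.FieldNormalization
import Groth.Agent.Calg1.NagataTheorem
import Mathlib

/-! Normalization of an integral curve in a finite extension of its function field. -/

set_option autoImplicit false
universe u

open CategoryTheory CategoryTheory.Limits AlgebraicGeometry IsLocalRing TopologicalSpace

namespace Groth.Agf.CurveNormalization

theorem isNagata_field (k : Type u) [Field k] : CAlg.IsNagata k := by
  refine ⟨inferInstance, fun p _ => ?_⟩
  have hp : p = ⊥ := (Ideal.eq_bot_or_top p).resolve_right (Ideal.IsPrime.ne_top inferInstance)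
  haveI : p.IsMaximal := hp ▸ Ideal.bot_isMaximal
  letI := Ideal.Quotient.field p
  intro L _ _ _ _ hfin
  haveI : Module.Finite (k ⧸ p) (FractionRing (k ⧸ p)) :=
    Module.Finite.of_surjective (Algebra.linearMap (k ⧸ p) (FractionRing (k ⧸ p)))
      (IsFractionRing.surjective_iff_isField.2 (Field.toIsField _))
  haveI : Module.Finite (k ⧸ p) L := Module.Finite.trans (FractionRing (k ⧸ p)) L
  infer_instance

theorem height_eq_one_of_comap {A B : Type u} [CommRing A] [IsDomain A] [CommRing B] [IsDomain B]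
    [Algebra A B] [Algebra.IsIntegral A B] (hinj : Function.Injective (algebraMap A B))
    (q : Ideal B) [q.IsPrime]
    (h : (q.comap (algebraMap A B)).height = 1) : q.height = 1 := by
  have hbot : ∀ I : Ideal A, I.IsPrime → I.height = 0 → I = ⊥ := by
    intro I hI h0
    by_contra hne
    have := Ideal.height_add_one_le_of_lt_of_isPrime (I := (⊥ : Ideal A)) (J := I) (bot_lt_iff_ne_bot.2 hne)
    rw [h0] at this
    simp at this
  have hq : q ≠ ⊥ := by
    rintro rfl
    rw [Ideal.comap_bot_of_injective _ hinj, Ideal.height_bot] at h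
    exact zero_ne_one h
  refine le_antisymm ?_ ?_
  · rw [show (1 : ℕ∞) = ((1 : ℕ) : ℕ∞) from rfl, Ideal.height_le_iff]
    intro J hJ hlt
    have hlt' : J.comap (algebraMap A B) < q.comap (algebraMap A B) :=
      Ideal.IsIntegral.comap_lt_comap hlt
    have h1 := Ideal.height_add_one_le_of_lt_of_isPrime hlt'
    rw [h] at h1
    have h2 : (J.comap (algebraMap A B)).height = 0 := by
      exact nonpos_iff_eq_zero.1 ((ENat.add_le_add_iff_right ENat.one_ne_top).1 (by simpa using h1))
    have := Ideal.eq_bot_of_comap_eq_bot (hbot _ inferInstance h2)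
    subst this
    simp
  · have := Ideal.height_add_one_le_of_lt_of_isPrime
      (I := (⊥ : Ideal B)) (J := q) (bot_lt_iff_ne_bot.2 hq)
    rwa [Ideal.height_bot, zero_add] at this

variable (X : Scheme.{u}) [IsIntegral X] (K : Type u) [Field K] (φ : X.functionField →+* K)
  (g : Spec (CommRingCat.of K) ⟶ X)
  (hg : g = Spec.map (CommRingCat.ofHom φ) ≫ X.fromSpecStalk (genericPoint X))
  [QuasiCompact g] [QuasiSeparated g]

include hg

/-- The map from sections of the normalization into `K`. -/
theorem exists_injective_hom {U : X.Opens} (hU : IsAffineOpen U) (hξ : genericPoint X ∈ U) :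
    ∃ k : Γ(g.normalization, g.fromNormalization ⁻¹ᵁ U) →+* K, Function.Injective k ∧
      (∀ y, y ∈ Set.range k ↔ (φ.comp (X.presheaf.germ U (genericPoint X) hξ).hom).IsIntegralElem y) ∧
      k.comp (g.fromNormalization.app U).hom = φ.comp (X.presheaf.germ U (genericPoint X) hξ).hom := by
  haveI : Nonempty ((g.fromNormalization ⁻¹ᵁ U : g.normalization.Opens) : Scheme.{u}) :=
    ⟨⟨_, Groth.Ega2Proj.mem_preimage X K φ g hg hξ⟩⟩
  refine ⟨(g.normalization.presheaf.germ (g.fromNormalization ⁻¹ᵁ U)
    (g.toNormalization.base (closedPoint K)) (Groth.Ega2Proj.mem_preimage X K φ g hg hξ) ≫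
    Scheme.stalkClosedPointTo g.toNormalization).hom,
    (Groth.Ega2Proj.stalkClosedPointTo_toNormalization_injective X K g).comp
      (germ_injective_of_isIntegral g.normalization _ _),
    Groth.Ega2Proj.exists_sections_equiv X K φ g hg hU hξ, ?_⟩
  have hcomp : g.fromNormalization.app U ≫
      g.normalization.presheaf.germ (g.fromNormalization ⁻¹ᵁ U)
        (g.toNormalization.base (closedPoint K)) (Groth.Ega2Proj.mem_preimage X K φ g hg hξ) ≫
      Scheme.stalkClosedPointTo g.toNormalization =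
      X.presheaf.germ U (genericPoint X) hξ ≫ CommRingCat.ofHom φ := by
    refine (Scheme.Hom.germ_stalkMap_assoc g.fromNormalization U (g.toNormalization.base (closedPoint K))
      (Groth.Ega2Proj.mem_preimage X K φ g hg hξ) (Scheme.stalkClosedPointTo g.toNormalization)).symm.trans ?_
    refine Groth.Ega2Proj.germ_comp_eq_of_SpecMap_eq
      (Groth.Ega2Proj.fromNormalization_toNormalization_closedPoint X K φ g hg) _ _ ?_ U _ hξ
    rw [Spec.map_comp, Category.assoc, Scheme.SpecMap_stalkMap_fromSpecStalk,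
      Scheme.Spec_stalkClosedPointTo_fromSpecStalk_assoc, g.toNormalization_fromNormalization]
    exact hg
  exact congrArg CommRingCat.Hom.hom hcomp

theorem isFinite_fromNormalization (hφ : φ.Finite)
    (hN2 : ∀ U : X.Opens, IsAffineOpen U → (hne : Nonempty (U : Scheme.{u})) →
      CAlg.IsNagata Γ(X, U)) :
    IsFinite g.fromNormalization := by
  refine ⟨fun U hU => ?_⟩
  by_cases hne : Nonempty (U : Scheme.{u})
  swap
  · have hbot : U = ⊥ := by
      ext z
      exact ⟨fun hz => (hne ⟨⟨z, hz⟩⟩).elim, fun hz => hz.elim⟩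
    subst hbot
    haveI : Subsingleton Γ(g.normalization, g.fromNormalization ⁻¹ᵁ ⊥) := by
      rw [show g.fromNormalization ⁻¹ᵁ ⊥ = ⊥ from rfl]; infer_instance
    exact RingHom.Finite.of_surjective _ fun x => ⟨0, Subsingleton.elim _ _⟩
  obtain ⟨⟨z, hz⟩⟩ := id hne
  have hξ : genericPoint X ∈ U := ((genericPoint_spec X).specializes trivial).mem_open U.2 hz
  obtain ⟨k, hinj, hrange, hcomp⟩ := exists_injective_hom X K φ g hg hU hξ
  haveI := functionField_isFractionRing_of_isAffineOpen X U hU
  letI aF : Algebra X.functionField K := φ.toAlgebra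
  letI aA : Algebra Γ(X, U) K := (φ.comp (X.presheaf.germ U (genericPoint X) hξ).hom).toAlgebra
  haveI : IsScalarTower Γ(X, U) X.functionField K := IsScalarTower.of_algebraMap_eq fun _ => rfl
  haveI : Module.Finite X.functionField K := hφ
  haveI hfin : Module.Finite Γ(X, U) (integralClosure Γ(X, U) K) :=
    Groth.Calg4.finite_ic_of_isN2 (Groth.Calg1.isN2_self_of_isNagata (hN2 U hU hne)) X.functionField K
  letI := (g.fromNormalization.app U).hom.toAlgebra
  let e : integralClosure Γ(X, U) K →ₐ[Γ(X, U)] K := (integralClosure Γ(X, U) K).val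
  let k' : Γ(g.normalization, g.fromNormalization ⁻¹ᵁ U) →ₐ[Γ(X, U)] K :=
    { k with commutes' := fun a => congrArg (fun (h : Γ(X, U) →+* K) => h a) hcomp }
  let k'' : Γ(g.normalization, g.fromNormalization ⁻¹ᵁ U) →ₐ[Γ(X, U)] integralClosure Γ(X, U) K :=
    k'.codRestrict _ fun x => (hrange _).1 ⟨x, rfl⟩
  have hbij : Function.Bijective k'' := ⟨fun a b h => hinj (congrArg Subtype.val h), fun y => by
    obtain ⟨b, hb⟩ := (hrange y.1).2 y.2
    exact ⟨b, Subtype.ext hb⟩⟩
  exact Module.Finite.equiv (AlgEquiv.ofBijective k'' hbij).symm.toLinearEquiv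

omit hg in
theorem stalk_dim_one {Y X : Scheme.{u}} [IsIntegral X] [IsIntegral Y] (f : Y ⟶ X) [IsIntegralHom f]
    (hf : ∀ U : X.Opens, Nonempty (U : Scheme.{u}) → Function.Injective (f.app U).hom)
    (y : Y) (h : ringKrullDim (X.presheaf.stalk (f y)) = 1) :
    ringKrullDim (Y.presheaf.stalk y) = 1 := by
  obtain ⟨U, hU, hyU, -⟩ := exists_isAffineOpen_mem_and_subset (x := f y) (U := (⊤ : X.Opens)) trivial
  have hV : IsAffineOpen (f ⁻¹ᵁ U) := hU.preimage f
  haveI : Nonempty (U : Scheme.{u}) := ⟨⟨f y, hyU⟩⟩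
  haveI : Nonempty ((f ⁻¹ᵁ U : Y.Opens) : Scheme.{u}) := ⟨⟨y, hyU⟩⟩
  letI := (f.app U).hom.toAlgebra
  haveI : Algebra.IsIntegral Γ(X, U) Γ(Y, f ⁻¹ᵁ U) := ⟨IsIntegralHom.isIntegral_app (f := f) U hU⟩
  have hco := IsAffineOpen.comap_primeIdealOf_appLE (f := f) U hU _ hV le_rfl hyU
  rw [← Scheme.Hom.app_eq_appLE] at hco
  letI := TopCat.Presheaf.algebra_section_stalk Y.presheaf (⟨y, hyU⟩ : (f ⁻¹ᵁ U : Y.Opens))
  haveI := hV.isLocalization_stalk ⟨y, hyU⟩
  letI := TopCat.Presheaf.algebra_section_stalk X.presheaf (⟨f y, hyU⟩ : U)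
  haveI := hU.isLocalization_stalk ⟨f y, hyU⟩
  rw [IsLocalization.AtPrime.ringKrullDim_eq_height (hV.primeIdealOf ⟨y, hyU⟩).asIdeal]
  rw [IsLocalization.AtPrime.ringKrullDim_eq_height (hU.primeIdealOf ⟨f y, hyU⟩).asIdeal] at h
  norm_cast at h ⊢
  exact height_eq_one_of_comap (hf U inferInstance) _ ((congrArg (fun p => p.asIdeal.height) hco).trans h)

end Groth.Agf.CurveNormalization
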