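import Groth.Prelude.Def_AGF
import Mathlib.AlgebraicGeometry.Sites.Fpqc
import Mathlib.AlgebraicGeometry.Noetherian
import Mathlib.CategoryTheory.Limits.Constructions.Over.Connected

/-! Orbit maps, quotients by stabilisers, fppf covers of schemes over a field. -/

set_option autoImplicit false
universe u v w

open CategoryTheory MonoidalCategory CartesianMonoidalCategory MonObj GrpObj AlgebraicGeometry

namespace Groth.Agf

section Generic

variable {C : Type v} [Category.{w} C] [CartesianMonoidalCategory C]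

theorem isPullback_whiskerLeft_snd (G : C) {A B : C} (f : A ⟶ B) :
    IsPullback (G ◁ f) (snd G A) (snd G B) f := by
  refine ⟨⟨by simp⟩, ⟨Limits.PullbackCone.IsLimit.mk (by simp)
    (fun s => lift (s.fst ≫ fst G B) s.snd) (fun s => ?_) (fun s => by simp) (fun s m h₁ h₂ => ?_)⟩⟩
  · apply CartesianMonoidalCategory.hom_ext
    · simp
    · simp [s.condition]
  · apply CartesianMonoidalCategory.hom_ext
    · simp [← h₁]
    · simp [← h₂]

end Generic

section Actions

variable {S : Scheme.{u}} {G X : Over S} [GrpObj G] (a : AlgGrp.Action G X)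

theorem lift_one_act {T : Over S} (x : T ⟶ X) : lift (1 : T ⟶ G) x ≫ a.act = x := by
  have h := congrArg (fun f => lift (toUnit T) x ≫ f) a.one_act
  simpa [Hom.one_def] using h

theorem lift_mul_act {T : Over S} (g h : T ⟶ G) (x : T ⟶ X) :
    lift (g * h) x ≫ a.act = lift g (lift h x ≫ a.act) ≫ a.act := by
  have e := congrArg (fun f => lift (lift g h) x ≫ f) a.mul_act
  simpa [Hom.mul_def] using e

theorem comp_orbitMap {T : Over S} (g : T ⟶ G) (o : 𝟙_ (Over S) ⟶ X) :
    g ≫ a.orbitMap o = lift g (toUnit T ≫ o) ≫ a.act := by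
  simp [AlgGrp.Action.orbitMap, comp_lift_assoc]

theorem isPullback_of_stabilizer {Go : Over S} [GrpObj Go] (o : 𝟙_ (Over S) ⟶ X) (i : Go ⟶ G)
    [IsMonHom i] (hGo : IsPullback i (toUnit Go) (a.orbitMap o) o) :
    IsPullback (fst G Go) ((G ◁ i) ≫ μ[G]) (a.orbitMap o) (a.orbitMap o) := by
  have hμ : (G ◁ i) ≫ μ[G] = fst G Go * (snd G Go ≫ i) := by
    rw [Hom.mul_def]; congr 1
  have hmono : Mono i := by
    constructor
    intro T f g h
    exact hGo.hom_ext h (toUnit_unique _ _)
  have w : fst G Go ≫ a.orbitMap o = ((G ◁ i) ≫ μ[G]) ≫ a.orbitMap o := by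
    rw [hμ, comp_orbitMap, comp_orbitMap, lift_mul_act, ← comp_orbitMap a (snd G Go ≫ i), Category.assoc, hGo.w]
    simp
  refine ⟨⟨w⟩, ⟨Limits.PullbackCone.IsLimit.mk w ?_ ?_ ?_ ?_⟩⟩
  · intro s
    refine lift s.fst (hGo.lift (s.fst⁻¹ * s.snd) (toUnit s.pt) ?_)
    rw [comp_orbitMap, lift_mul_act, ← comp_orbitMap a s.snd, ← s.condition, comp_orbitMap,
      ← lift_mul_act, inv_mul_cancel, lift_one_act]
  · intro s; simp
  · intro s
    rw [hμ, MonObj.comp_mul]
    simp
  · intro s m h₁ h₂
    apply CartesianMonoidalCategory.hom_ext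
    · simpa using h₁
    · rw [lift_snd, ← cancel_mono i, IsPullback.lift_fst, ← h₂, hμ, MonObj.comp_mul, h₁]
      simp

theorem eq_of_comp_orbitMap_eq {H : Over S} [GrpObj H] {i : H ⟶ G} (o : 𝟙_ (Over S) ⟶ X)
    (hq : IsPullback (fst G H) ((G ◁ i) ≫ μ[G]) (a.orbitMap o) (a.orbitMap o)) {T : Over S} (s t : T ⟶ G)
    (hst : s ≫ a.orbitMap o = t ≫ a.orbitMap o) : ∃ h : T ⟶ H, t = s * (h ≫ i) := by
  refine ⟨hq.lift s t hst ≫ snd G H, ?_⟩
  have e2 := hq.lift_snd s t hst
  have e1 := hq.lift_fst s t hst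
  conv_lhs => rw [← e2]
  have hμ : (G ◁ i) ≫ μ[G] = fst G H * (snd G H ≫ i) := by
    rw [Hom.mul_def]; congr 1
  generalize hq.lift s t hst = m at e1 e2 ⊢
  rw [hμ, MonObj.comp_mul, e1, Category.assoc]

end Actions

section Field

variable {k : Type u} [Field k]

theorem lfp_of_lft {A B : Over (Spec (CommRingCat.of k))} [LocallyOfFiniteType A.hom]
    [LocallyOfFiniteType B.hom] (f : A ⟶ B) : LocallyOfFinitePresentation f.left := by
  have : IsLocallyNoetherian B.left := LocallyOfFiniteType.isLocallyNoetherian B.hom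
  have : LocallyOfFiniteType f.left := by
    have : LocallyOfFiniteType (f.left ≫ B.hom) := by rw [Over.w]; infer_instance
    exact locallyOfFiniteType_of_comp f.left B.hom
  infer_instance

theorem epi_of_fppf {A B : Over (Spec (CommRingCat.of k))} (f : A ⟶ B) [Flat f.left] [Surjective f.left]
    [LocallyOfFinitePresentation f.left] : Epi f :=
  (Over.forget _).epi_of_epi_map (inferInstance : Epi f.left)

theorem epi_whiskerLeft_of_fppf (G : Over (Spec (CommRingCat.of k))) {A B : Over (Spec (CommRingCat.of k))}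
    (f : A ⟶ B) [Flat f.left] [Surjective f.left] [LocallyOfFinitePresentation f.left] : Epi (G ◁ f) := by
  have h := (isPullback_whiskerLeft_snd G f).map (Over.forget _)
  have : Flat (G ◁ f).left := MorphismProperty.of_isPullback h.flip ‹Flat f.left›
  have : Surjective (G ◁ f).left := MorphismProperty.of_isPullback h.flip ‹Surjective f.left›
  have : LocallyOfFinitePresentation (G ◁ f).left :=
    MorphismProperty.of_isPullback h.flip ‹LocallyOfFinitePresentation f.left›
  exact epi_of_fppf _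

theorem exists_desc_of_fppf {A B C : Over (Spec (CommRingCat.of k))} (f : A ⟶ B) [Flat f.left] [Surjective f.left]
    [LocallyOfFinitePresentation f.left] {P : Over (Spec (CommRingCat.of k))} (p₁ p₂ : P ⟶ A)
    (hP : IsPullback p₁ p₂ f f) (g : A ⟶ C) (hg : p₁ ≫ g = p₂ ≫ g) : ∃ d : B ⟶ C, f ≫ d = g := by
  obtain ⟨d, hd⟩ := IsRegularEpi.exists_of_isKernelPair f.left (hP.map (Over.forget _)) g.left
    (congrArg (fun t => t.left) hg)
  refine ⟨Over.homMk d ?_, Over.OverMorphism.ext hd⟩
  rw [← cancel_epi f.left, ← Category.assoc, hd, Over.w, Over.w]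

end Field

end Groth.Agf

namespace Groth.Agf

section Actions

variable {S : Scheme.{u}} {G X : Over S} [GrpObj G] (a : AlgGrp.Action G X)

theorem whiskerLeft_orbitMap_act (o : 𝟙_ (Over S) ⟶ X) :
    (G ◁ a.orbitMap o) ≫ a.act = μ[G] ≫ a.orbitMap o := by
  have h1 : (G ◁ a.orbitMap o) = lift (fst G G) (snd G G ≫ a.orbitMap o) := by ext <;> simp
  have h2 : μ[G] = fst G G * snd G G := by simp [Hom.mul_def]
  rw [h1, h2, comp_orbitMap a (fst G G * snd G G), lift_mul_act, comp_orbitMap]

end Actions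

end Groth.Agf
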