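import Groth.Agent.Agf.TensorLemmas
import Mathlib.AlgebraicGeometry.Geometrically.Reduced
import Mathlib.AlgebraicGeometry.Morphisms.Flat
import Mathlib.CategoryTheory.Monoidal.Cartesian.Over

/-! Geometric reducedness of images and of closures of sets of rational points. -/

universe u

open CategoryTheory Limits MonoidalCategory CartesianMonoidalCategory AlgebraicGeometry
open scoped TensorProduct

noncomputable section

namespace Groth.Agf

variable {k : Type u} [Field k]

/-- A scheme-theoretically dominated scheme over a field is geometrically reduced if the source is. -/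
theorem geometricallyReduced_of_dominant {X Y : Scheme.{u}} (g : X ⟶ Y) (p : Y ⟶ Spec (CommRingCat.of k))
    [IsSchemeTheoreticallyDominant g] [QuasiCompact g] [hX : GeometricallyReduced (g ≫ p)] :
    GeometricallyReduced p := by
  constructor
  intro L _ y Z a b hZ
  have : Flat a := MorphismProperty.of_isPullback hZ.flip (inferInstanceAs (Flat y))
  have sq := (IsPullback.of_hasPullback g a).paste_vert hZ.flip.flip
  have : IsReduced (pullback g a) := hX.geometrically_isReduced y _ _ ((IsPullback.of_hasPullback g a).paste_vert hZ)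
  have : IsSchemeTheoreticallyDominant (pullback.snd g a) := inferInstance
  exact IsSchemeTheoreticallyDominant.isReduced (pullback.snd g a)

/-- A reduced scheme with dense rational points is geometrically reduced. -/
theorem geometricallyReduced_of_dense_points (X : Over (Spec (CommRingCat.of k))) [IsReduced X.left]
    (hD : Dense {p : X.left | ∃ s : 𝟙_ (Over (Spec (CommRingCat.of k))) ⟶ X, p ∈ Set.range s.left}) :
    GeometricallyReduced X.hom := by
  rw [GeometricallyReduced.eq_geometrically, geometrically_iff_of_commRing_of_isClosedUnderIsomorphisms]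
  intro K _ _
  let 𝒰 := X.left.affineCover
  apply +allowSynthFailures @IsReduced.of_openCover
    (𝒰 := Scheme.Pullback.openCoverOfLeft 𝒰 X.hom (Spec.map (CommRingCat.ofHom (algebraMap k K))))
  intro i
  obtain ⟨A, hA⟩ : ∃ A : CommRingCat.{u}, 𝒰.X i = Spec A := ⟨_, rfl⟩
  show IsReduced (pullback (𝒰.f i ≫ X.hom) (Spec.map (CommRingCat.ofHom (algebraMap k K))))
  suffices key : ∀ (A : CommRingCat.{u}) (ψ : Spec A ⟶ X.left) [IsOpenImmersion ψ],
      IsReduced (pullback (ψ ≫ X.hom) (Spec.map (CommRingCat.ofHom (algebraMap k K)))) by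
    have : IsOpenImmersion (𝒰.f i) := 𝒰.map_prop i
    exact @key _ (𝒰.f i) this
  intro A ψ _
  obtain ⟨φ, hφ⟩ := Spec.map_surjective (ψ ≫ X.hom)
  let : Algebra k A := φ.hom.toAlgebra
  have : IsReduced (Spec A) := isReduced_of_isOpenImmersion ψ
  have : _root_.IsReduced A := by rwa [← affine_isReduced_iff]
  have hred : _root_.IsReduced (K ⊗[k] A) := by
    refine isReduced_tensor_of_separating (Set.univ : Set (A →ₐ[k] k)) fun a ha => ?_
    by_contra hne
    have hopen : (PrimeSpectrum.basicOpen a : Set (PrimeSpectrum A)).Nonempty := by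
      by_contra h
      rw [Set.not_nonempty_iff_eq_empty, TopologicalSpace.Opens.coe_eq_empty, PrimeSpectrum.basicOpen_eq_bot_iff] at h
      exact hne h.eq_zero
    obtain ⟨_, ⟨q, hq, rfl⟩, s, t, ht⟩ := hD.inter_open_nonempty _
      (ψ.isOpenEmbedding.isOpenMap _ (PrimeSpectrum.basicOpen a).isOpen) (hopen.image _)
    have hsub : Set.range s.left ⊆ Set.range ψ := by
      rintro _ ⟨t', rfl⟩
      have : Subsingleton (Spec (CommRingCat.of k)) := inferInstance
      exact ⟨q, ht.symm.trans (congrArg s.left (Subsingleton.elim (α := Spec (CommRingCat.of k)) t t'))⟩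
    obtain ⟨σ, hσ⟩ := Spec.map_surjective (IsOpenImmersion.lift ψ s.left hsub : Spec (CommRingCat.of k) ⟶ Spec A)
    have hfac : Spec.map σ ≫ ψ = s.left := by rw [hσ]; exact IsOpenImmersion.lift_fac _ _ _
    have hk : φ ≫ σ = 𝟙 _ := Spec.map_injective (by
      rw [Spec.map_comp, hφ, ← Category.assoc, hfac, Spec.map_id]
      exact Over.w s)
    let σ' : A →ₐ[k] k := { σ.hom with commutes' := fun c => congrArg (fun m : CommRingCat.of k ⟶ CommRingCat.of k => m.hom c) hk }
    have hqt : Spec.map σ t = q := ψ.isOpenEmbedding.injective (by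
      rw [← Scheme.Hom.comp_apply, hfac]; exact ht)
    rw [← hqt] at hq
    refine hq ?_
    show σ.hom a ∈ (t : PrimeSpectrum k).asIdeal
    rw [show σ.hom a = 0 from ha σ' trivial]
    exact zero_mem _
  have : IsReduced (Spec (CommRingCat.of (A ⊗[k] K))) := by
    have : _root_.IsReduced (A ⊗[k] K) :=
      isReduced_of_injective (Algebra.TensorProduct.comm k A K).toRingEquiv.toRingHom (Algebra.TensorProduct.comm k A K).injective
    exact affine_isReduced_iff (CommRingCat.of (A ⊗[k] K)) |>.2 this
  rw [← hφ]
  exact isReduced_of_isOpenImmersion (pullbackSpecIso k A K).hom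

end Groth.Agf
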