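import Mathlib.AlgebraicGeometry.Morphisms.Smooth
import Mathlib.AlgebraicGeometry.Morphisms.Flat
import Mathlib.AlgebraicGeometry.AlgClosed.Basic
import Mathlib.RingTheory.Unramified.Field
import Mathlib.RingTheory.Etale.Basic
import Mathlib.RingTheory.RingHom.StandardSmooth

/-! Smooth schemes over a field are reduced; descent of reducedness; homogeneous schemes are smooth. -/

set_option autoImplicit false
universe u

open CategoryTheory AlgebraicGeometry
open scoped TensorProduct

namespace Groth.Agf

theorem isReduced_of_etale_domain (D R : Type u) [CommRing D] [IsDomain D] [CommRing R] [Algebra D R]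
    [Algebra.Etale D R] : _root_.IsReduced R := by
  let F := FractionRing D
  have : _root_.IsReduced (F ⊗[D] R) := Algebra.FormallyUnramified.isReduced_of_field F _
  have hinj : Function.Injective (Algebra.TensorProduct.includeRight : R →ₐ[D] F ⊗[D] R) :=
    Algebra.TensorProduct.includeRight_injective (IsFractionRing.injective D F)
  exact isReduced_of_injective _ hinj

theorem isReduced_of_isStandardSmooth_field {k R : Type u} [CommRing k] [CommRing R] (hk : IsField k)
    {f : k →+* R} (hf : f.IsStandardSmooth) : _root_.IsReduced R := by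
  have : IsDomain k := hk.isDomain
  obtain ⟨n, g, -, hg⟩ := hf.exists_etale_mvPolynomial
  let := g.toAlgebra
  have : Algebra.Etale (MvPolynomial (Fin n) k) R := hg
  exact isReduced_of_etale_domain (MvPolynomial (Fin n) k) R

theorem isReduced_of_smooth {k : Type u} [Field k] {X : Scheme.{u}} (f : X ⟶ Spec (CommRingCat.of k))
    [Smooth f] : IsReduced X := by
  have : ∀ x : X, _root_.IsReduced (X.presheaf.stalk x) := by
    intro x
    obtain ⟨U, hU, V, hV, hxV, e, hsm⟩ := Smooth.exists_isStandardSmooth f x
    have hUtop : U = ⊤ := by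
      ext z
      have : z = f x := Subsingleton.elim _ _
      subst this
      simpa using e hxV
    subst hUtop
    have hk : IsField Γ(Spec (CommRingCat.of k), ⊤) :=
      MulEquiv.isField (Semifield.toIsField k)
        (Scheme.ΓSpecIso (CommRingCat.of k)).commRingCatIsoToRingEquiv.toMulEquiv
    have := isReduced_of_isStandardSmooth_field hk hsm
    have : IsAffine (V : Scheme) := hV
    have : _root_.IsReduced Γ((V : Scheme), ⊤) :=
      isReduced_of_injective V.topIso.commRingCatIsoToRingEquiv.toRingHom
        V.topIso.commRingCatIsoToRingEquiv.injective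
    have : IsReduced (V : Scheme) := isReduced_of_isAffine_isReduced _
    exact isReduced_of_injective (V.stalkIso ⟨x, hxV⟩).commRingCatIsoToRingEquiv.symm.toRingHom
      (V.stalkIso ⟨x, hxV⟩).commRingCatIsoToRingEquiv.symm.injective
  exact isReduced_of_isReduced_stalk X

theorem stalkMap_injective {X Y : Scheme.{u}} (f : X ⟶ Y) [Flat f] (x : X) :
    Function.Injective (f.stalkMap x).hom := by
  algebraize [(f.stalkMap x).hom]
  have : Module.FaithfullyFlat (Y.presheaf.stalk (f x)) (X.presheaf.stalk x) :=
    @Module.FaithfullyFlat.of_flat_of_isLocalHom _ _ _ _ _ _ _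
      (Flat.stalkMap f x) (f.toLRSHom.prop x)
  exact ‹RingHom.FaithfullyFlat _›.injective

theorem isReduced_of_flat_surjective {X Y : Scheme.{u}} (f : X ⟶ Y) [Flat f] [Surjective f] [IsReduced X] :
    IsReduced Y := by
  have : ∀ y : Y, _root_.IsReduced (Y.presheaf.stalk y) := by
    intro y
    obtain ⟨x, rfl⟩ := f.surjective y
    exact isReduced_of_injective _ (stalkMap_injective f x)
  exact isReduced_of_isReduced_stalk Y

theorem smooth_of_homogeneous {K : Type u} [Field K] [IsAlgClosed K] {Y : Scheme.{u}}
    (f : Y ⟶ Spec (CommRingCat.of K)) [LocallyOfFiniteType f] [IsReduced Y]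
    (h : ∀ x y : Y, IsClosed {x} → IsClosed {y} → ∃ φ : Y ≅ Y, φ.hom ≫ f = f ∧ φ.hom x = y) : Smooth f := by
  have := LocallyOfFiniteType.jacobsonSpace f
  rw [← Scheme.Hom.smoothLocus_eq_top_iff, ← TopologicalSpace.Opens.coe_eq_univ,
    ← not_ne_iff, ← Set.nonempty_compl]
  intro H
  obtain ⟨x, hx, hxc⟩ :=
    nonempty_inter_closedPoints H f.smoothLocus.2.isClosed_compl.isLocallyClosed
  have hne : (f.smoothLocus : Set Y).Nonempty := by
    have : Nonempty Y := ⟨x⟩
    exact f.dense_smoothLocus_of_perfectField.nonempty
  obtain ⟨y, hy : y ∈ f.smoothLocus, hyc⟩ := nonempty_inter_closedPoints hne f.smoothLocus.2.isLocallyClosed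
  obtain ⟨φ, hφ, hxy⟩ := h x y hxc hyc
  rw [← hxy, ← φ.hom.mem_preimage, Scheme.Hom.preimage_smoothLocus_eq] at hy
  rw! [hφ] at hy
  exact hx hy

end Groth.Agf
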