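import Groth.Agent.Calg4.RegularFlat
import Groth.Agent.CMMor.Criterion
import Groth.Agent.Ega4Algebra2.SchemeFibre
import Groth.Agent.Ega4Algebra1.RegularLocal

/-! Regular points: generisation, smooth morphisms. -/

set_option autoImplicit false
universe u

open AlgebraicGeometry CategoryTheory IsLocalRing

namespace Groth.Agf.RegularPoints

theorem isRegularLocalRing_atPrime_of_le {A S T : Type u} [CommRing A] [CommRing S] [CommRing T]
    [Algebra A S] [Algebra A T] (p q : Ideal A) [p.IsPrime] [q.IsPrime] (hpq : p ≤ q)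
    [IsLocalization.AtPrime S q] [IsLocalization.AtPrime T p] [IsRegularLocalRing S] :
    IsRegularLocalRing T := by
  let S' := Localization.AtPrime q
  have : IsRegularLocalRing S' := IsRegularLocalRing.of_ringEquiv
    (IsLocalization.algEquiv q.primeCompl S S').toRingEquiv
  have hd : Disjoint (q.primeCompl : Set A) p := Set.disjoint_left.2 fun a ha hp => ha (hpq hp)
  let P := p.map (algebraMap A S')
  have : P.IsPrime := IsLocalization.isPrime_of_isPrime_disjoint q.primeCompl S' p inferInstance hd
  have hP : P.comap (algebraMap A S') = p :=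
    IsLocalization.under_map_of_isPrime_disjoint q.primeCompl S' inferInstance hd
  have := Groth.Ega4Algebra1.isRegularLocalRing_localization_atPrime S' P
  have : IsLocalization.AtPrime (Localization.AtPrime P) p := by
    have h := IsLocalization.isLocalization_atPrime_localization_atPrime q.primeCompl P
    convert h using 2
    exact hP.symm
  exact IsRegularLocalRing.of_ringEquiv
    (IsLocalization.algEquiv p.primeCompl (Localization.AtPrime P) T).toRingEquiv

variable {X Y : Scheme.{u}}

theorem isRegularLocalRing_stalk_of_specializes {x y : X} (h : x ⤳ y)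
    [IsRegularLocalRing (X.presheaf.stalk y)] : IsRegularLocalRing (X.presheaf.stalk x) := by
  obtain ⟨U, hU, hyU, -⟩ := exists_isAffineOpen_mem_and_subset (x := y) (U := ⊤) trivial
  have hxU : x ∈ U := h.mem_open U.2 hyU
  let _ := TopCat.Presheaf.algebra_section_stalk X.presheaf (⟨x, hxU⟩ : U)
  let _ := TopCat.Presheaf.algebra_section_stalk X.presheaf (⟨y, hyU⟩ : U)
  have := hU.isLocalization_stalk ⟨x, hxU⟩
  have := hU.isLocalization_stalk ⟨y, hyU⟩
  refine isRegularLocalRing_atPrime_of_le (S := X.presheaf.stalk y) (hU.primeIdealOf ⟨x, hxU⟩).asIdeal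
    (hU.primeIdealOf ⟨y, hyU⟩).asIdeal ?_
  refine (PrimeSpectrum.le_iff_specializes _ _).2 ?_
  refine hU.fromSpec.isOpenEmbedding.isInducing.specializes_iff.1 ?_
  rw [hU.fromSpec_primeIdealOf, hU.fromSpec_primeIdealOf]
  exact h

/-- Smooth morphisms preserve regularity (EGA IV 17.5.8). -/
theorem isRegularLocalRing_stalk_of_smooth [IsLocallyNoetherian Y] (f : X ⟶ Y) [Smooth f] (x : X)
    [IsRegularLocalRing (Y.presheaf.stalk (f x))] : IsRegularLocalRing (X.presheaf.stalk x) := by
  have : IsLocallyNoetherian X := LocallyOfFiniteType.isLocallyNoetherian f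
  let _ := (f.stalkMap x).hom.toAlgebra
  have : IsLocalHom (algebraMap (Y.presheaf.stalk (f x)) (X.presheaf.stalk x)) :=
    inferInstanceAs (IsLocalHom (f.stalkMap x).hom)
  have : Module.Flat (Y.presheaf.stalk (f x)) (X.presheaf.stalk x) := Flat.stalkMap f x
  obtain ⟨e⟩ := Groth.Ega4b.nonempty_fiberStalk_equiv f x
  have : IsRegularLocalRing (CInt.fiberStalk f x) :=
    Groth.CMMor.isRegularLocalRing_stalk_fiber f (f x) (f.asFiber x)
  have : IsRegularLocalRing (X.presheaf.stalk x ⧸ (maximalIdeal (Y.presheaf.stalk (f x))).map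
      (algebraMap (Y.presheaf.stalk (f x)) (X.presheaf.stalk x))) := IsRegularLocalRing.of_ringEquiv e.symm
  exact Groth.Calg4.isRegularLocalRing_of_flat_of_quotient (Y.presheaf.stalk (f x)) (X.presheaf.stalk x)

theorem isRegularLocalRing_stalk_of_smooth' [IsLocallyNoetherian Y] (f : X ⟶ Y) [Smooth f] (x : X)
    [IsRegularLocalRing (X.presheaf.stalk x)] : IsRegularLocalRing (Y.presheaf.stalk (f x)) := by
  let _ := (f.stalkMap x).hom.toAlgebra
  have : IsLocalHom (algebraMap (Y.presheaf.stalk (f x)) (X.presheaf.stalk x)) :=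
    inferInstanceAs (IsLocalHom (f.stalkMap x).hom)
  have : Module.Flat (Y.presheaf.stalk (f x)) (X.presheaf.stalk x) := Flat.stalkMap f x
  exact Groth.Ega4Algebra1.isRegularLocalRing_of_flat (Y.presheaf.stalk (f x)) (X.presheaf.stalk x)

end Groth.Agf.RegularPoints
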