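import Groth.Agent.Agf.Fn
import Mathlib.LinearAlgebra.TensorProduct.Basis
import Mathlib.LinearAlgebra.TensorProduct.RightExactness
import Mathlib.LinearAlgebra.Dual.Lemmas

/-! Rational modules of affine groups through their coactions. -/

set_option autoImplicit false
universe u

open CategoryTheory MonoidalCategory CartesianMonoidalCategory MonObj GrpObj AlgebraicGeometry
open scoped TensorProduct

noncomputable section

namespace Groth.Agf

variable {k : Type u} [Field k]

section Coef

variable {B B' : Type u} [CommRing B] [Algebra k B] [CommRing B'] [Algebra k B']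
  {M : Type u} [AddCommGroup M] [Module k M]

/-- Contract `B ⊗ M` with a functional. -/
def contract (ψ : M →ₗ[k] k) (B : Type u) [CommRing B] [Algebra k B] : B ⊗[k] M →ₗ[k] B :=
  (TensorProduct.rid k B).toLinearMap ∘ₗ ψ.lTensor B

@[simp] theorem contract_tmul (ψ : M →ₗ[k] k) (b : B) (m : M) : contract ψ B (b ⊗ₜ m) = ψ m • b := by
  simp [contract]

theorem contract_smul (ψ : M →ₗ[k] k) (b : B) (x : B ⊗[k] M) : contract ψ B (b • x) = b * contract ψ B x := by
  induction x using TensorProduct.induction_on with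
  | zero => simp
  | tmul c m => simp [TensorProduct.smul_tmul']
  | add x y hx hy => simp [hx, hy, mul_add]

theorem contract_Wmap (ψ : M →ₗ[k] k) (φ : B →ₐ[k] B') (x : B ⊗[k] M) :
    contract ψ B' (VecGrp.Wmap φ x) = φ (contract ψ B x) := by
  induction x using TensorProduct.induction_on with
  | zero => simp
  | tmul c m => simp
  | add x y hx hy => simp [hx, hy]

theorem eq_zero_of_contract (x : B ⊗[k] M) (h : ∀ ψ : M →ₗ[k] k, contract ψ B x = 0) : x = 0 := by
  classical
  let b := Module.Free.chooseBasis k M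
  obtain ⟨c, rfl⟩ := TensorProduct.eq_repr_basis_right b x
  refine Finset.sum_eq_zero fun i hi => ?_
  have h1 := h (b.coord i)
  simp only [Finsupp.sum, map_sum, contract_tmul, Module.Basis.coord_apply, Module.Basis.repr_self,
    Finsupp.single_apply, ite_smul, one_smul, zero_smul, Finset.sum_ite_eq', hi, if_true] at h1
  simp [h1]

theorem eq_of_contract {x y : B ⊗[k] M} (h : ∀ ψ : M →ₗ[k] k, contract ψ B x = contract ψ B y) : x = y :=
  sub_eq_zero.1 (eq_zero_of_contract _ fun ψ => by simp [h ψ])

variable {W : Submodule k M}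

theorem mem_baseChange_iff {x : B ⊗[k] M} :
    x ∈ W.baseChange B ↔ ∀ ψ : M →ₗ[k] k, (∀ w ∈ W, ψ w = 0) → contract ψ B x = 0 := by
  constructor
  · intro hx ψ hψ
    rw [Submodule.baseChange_eq_span] at hx
    refine Submodule.span_induction ?_ ?_ ?_ ?_ hx
    · rintro _ ⟨w, hw, rfl⟩
      simp [hψ w hw]
    · simp
    · intro a b _ _ ha hb; simp [ha, hb]
    · intro c a _ ha; rw [contract_smul, ha, mul_zero]
  · intro h
    have h0 : W.mkQ.lTensor B x = 0 := by
      refine eq_zero_of_contract _ fun ψ => ?_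
      have := h (ψ ∘ₗ W.mkQ) (fun w hw => by simp [(Submodule.Quotient.mk_eq_zero W).2 hw])
      rw [← this]
      simp [contract, LinearMap.lTensor_comp]
    obtain ⟨z, hz⟩ := (lTensor_exact B (LinearMap.exact_subtype_mkQ W) (Submodule.mkQ_surjective W) x).1 h0
    rw [← hz]
    clear hz h0
    induction z using TensorProduct.induction_on with
    | zero => simp
    | tmul c w =>
      rw [LinearMap.lTensor_tmul,
        show c ⊗ₜ[k] (W.subtype w) = c • ((1 : B) ⊗ₜ[k] (W.subtype w)) by simp [TensorProduct.smul_tmul']]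
      exact Submodule.smul_mem _ c (Submodule.tmul_mem_baseChange_of_mem _ w.2)
    | add a b ha hb => rw [map_add]; exact add_mem ha hb

theorem incl_injective (B : Type u) [CommRing B] [Algebra k B] (W : Submodule k M) :
    Function.Injective (W.subtype.baseChange B) :=
  Module.Flat.lTensor_preserves_injective_linearMap _ W.injective_subtype

theorem range_incl (B : Type u) [CommRing B] [Algebra k B] (W : Submodule k M) :
    LinearMap.range (W.subtype.baseChange B) = W.baseChange B := rfl

end Coef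

section Coaction

variable {G H : Over (Spec (CommRingCat.of k))} [GrpObj G]
  {M : Type u} [AddCommGroup M] [Module k M] (ρ : VecGrp.GMod G M)

/-- The coaction of a rational module of an affine group. -/
def coact [IsAffine G.left] (m : M) : Fn G ⊗[k] M := ρ.ρ (Fn G) (univ G) ((1 : Fn G) ⊗ₜ[k] m)

theorem rho_one_tmul [IsAffine G.left] {B : Type u} [CommRing B] [Algebra k B] (g : VecGrp.pt k B ⟶ G) (m : M) :
    ρ.ρ B g ((1 : B) ⊗ₜ[k] m) = VecGrp.Wmap (evalPt g) (coact ρ m) := by
  rw [coact, ρ.naturality, ptMap_univ, VecGrp.Wmap_tmul, map_one]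

theorem rho_tmul {B : Type u} [CommRing B] [Algebra k B] (g : VecGrp.pt k B ⟶ G) (b : B) (m : M) :
    ρ.ρ B g (b ⊗ₜ[k] m) = b • ρ.ρ B g ((1 : B) ⊗ₜ[k] m) := by
  rw [← map_smul, TensorProduct.smul_tmul', smul_eq_mul, _root_.mul_one]

theorem rho_mul_apply {B : Type u} [CommRing B] [Algebra k B] (g h : VecGrp.pt k B ⟶ G) (x : B ⊗[k] M) :
    ρ.ρ B (g * h) x = ρ.ρ B g (ρ.ρ B h x) := by rw [map_mul]; rfl

/-- A matrix coefficient. -/
def coeffFn [IsAffine G.left] (ψ : M →ₗ[k] k) (m : M) : Fn G := contract ψ (Fn G) (coact ρ m)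

theorem evalPt_coeffFn [IsAffine G.left] {B : Type u} [CommRing B] [Algebra k B] (g : VecGrp.pt k B ⟶ G)
    (ψ : M →ₗ[k] k) (m : M) :
    evalPt g (coeffFn ρ ψ m) = contract ψ B (ρ.ρ B g ((1 : B) ⊗ₜ[k] m)) := by
  rw [rho_one_tmul, contract_Wmap]; rfl

theorem coeffFn_isRTransInv [IsAffine G.left] [GrpObj H] [IsAffine H.left] (i : H ⟶ G) (ψ : M →ₗ[k] k) {m : M}
    (hm : m ∈ ρ.fixedUnder i) : AGF.IsRTransInv i (coeffFn ρ ψ m) := by
  rw [isRTransInv_iff]
  intro B _ _ x t
  rw [evalPt_coeffFn, evalPt_coeffFn, rho_mul_apply, hm B t]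

theorem fixed_of_fixes_invariants [IsAffine G.left] [GrpObj H] [IsAffine H.left] (i : H ⟶ G)
    (g : VecGrp.pt k k ⟶ G) (hg : ∀ f : Fn G, AGF.IsRTransInv i f → AGF.IsRTransInv g f)
    {m : M} (hm : m ∈ ρ.fixedUnder i) : ρ.ρ k g ((1 : k) ⊗ₜ[k] m) = (1 : k) ⊗ₜ[k] m := by
  refine eq_of_contract fun ψ => ?_
  have h := evalPt_one_of_isRTransInv (hg _ (coeffFn_isRTransInv ρ i ψ hm))
  rw [evalPt_coeffFn, evalPt_coeffFn, map_one] at h
  exact h

/-- Invariance under a reduced subgroup can be tested on rational points. -/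
theorem mem_fixedUnder_of_ratPts [IsAlgClosed k] [GrpObj H] [IsAffine G.left] [IsAffine H.left]
    [LocallyOfFiniteType H.hom] [IsReduced H.left] (i : H ⟶ G) {m : M}
    (h : ∀ t : VecGrp.pt k k ⟶ H, ρ.ρ k (t ≫ i) ((1 : k) ⊗ₜ[k] m) = (1 : k) ⊗ₜ[k] m) : m ∈ ρ.fixedUnder i := by
  intro B _ _ t
  have key : ∀ ψ : M →ₗ[k] k, pull i (coeffFn ρ ψ m) = algebraMap k (Fn H) (ψ m) := by
    intro ψ
    refine fn_ext_ratPts H fun t => ?_
    rw [← evalPt_comp_apply, evalPt_coeffFn, h t]
    simp
  refine eq_of_contract fun ψ => ?_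
  rw [← evalPt_coeffFn, evalPt_comp_apply, key, contract_tmul, AlgHom.commutes, Algebra.algebraMap_eq_smul_one]

section Sub

variable {W : Submodule k M} (hW : ρ.IsStable (𝟙 G) W)

include hW in
theorem rho_incl_mem {B : Type u} [CommRing B] [Algebra k B] (g : VecGrp.pt k B ⟶ G) (x : B ⊗[k] W) :
    ρ.ρ B g (W.subtype.baseChange B x) ∈ LinearMap.range (W.subtype.baseChange B) := by
  rw [range_incl]
  induction x using TensorProduct.induction_on with
  | zero => simp
  | tmul b w =>
    rw [LinearMap.baseChange_tmul, rho_tmul]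
    have := hW B g w w.2
    rw [Category.comp_id] at this
    exact Submodule.smul_mem _ b this
  | add a b ha hb => rw [map_add, map_add]; exact add_mem ha hb

/-- The action on a stable subspace, as a linear map. -/
def subFun {B : Type u} [CommRing B] [Algebra k B] (g : VecGrp.pt k B ⟶ G) : B ⊗[k] W →ₗ[B] B ⊗[k] W :=
  (LinearEquiv.ofInjective (W.subtype.baseChange B) (incl_injective B W)).symm.toLinearMap ∘ₗ
    (((ρ.ρ B g).toLinearMap ∘ₗ W.subtype.baseChange B).codRestrict _ (rho_incl_mem ρ hW g))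

theorem incl_subFun {B : Type u} [CommRing B] [Algebra k B] (g : VecGrp.pt k B ⟶ G) (x : B ⊗[k] W) :
    W.subtype.baseChange B (subFun ρ hW g x) = ρ.ρ B g (W.subtype.baseChange B x) := by
  show ((LinearEquiv.ofInjective _ (incl_injective B W)) (subFun ρ hW g x) : B ⊗[k] M) = _
  simp [subFun]

/-- The submodule of a rational module given by a stable subspace. -/
def subGMod : VecGrp.GMod G W where
  ρ B _ _ :=
    { toFun := fun g => LinearEquiv.ofLinear (subFun ρ hW g) (subFun ρ hW g⁻¹)
        (LinearMap.ext fun x => incl_injective B W (by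
          simp [incl_subFun, ← rho_mul_apply]))
        (LinearMap.ext fun x => incl_injective B W (by
          simp [incl_subFun, ← rho_mul_apply]))
      map_one' := LinearEquiv.ext fun x => incl_injective B W (by simp [incl_subFun])
      map_mul' := fun g h => LinearEquiv.ext fun x => incl_injective B W (by
          simp [incl_subFun, rho_mul_apply]) }
  naturality {B B'} _ _ _ _ φ g x := incl_injective B' W (by
    show W.subtype.baseChange B' (VecGrp.Wmap φ (subFun ρ hW g x)) =
      W.subtype.baseChange B' (subFun ρ hW (VecGrp.ptMap φ ≫ g) (VecGrp.Wmap φ x))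
    rw [incl_subFun, ← VecGrp.baseChange_natural, incl_subFun, ρ.naturality, VecGrp.baseChange_natural])

theorem subGMod_incl {B : Type u} [CommRing B] [Algebra k B] (g : VecGrp.pt k B ⟶ G) (x : B ⊗[k] W) :
    W.subtype.baseChange B ((subGMod ρ hW).ρ B g x) = ρ.ρ B g (W.subtype.baseChange B x) :=
  incl_subFun ρ hW g x

end Sub

/-- Local finiteness of rational modules of affine groups. -/
theorem exists_finite_stable [IsAffine G.left] (S : Finset M) :
    ∃ W : Submodule k M, Module.Finite k W ∧ ↑S ⊆ (W : Set M) ∧ ρ.IsStable (𝟙 G) W := by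
  classical
  let b := Module.Free.chooseBasis k (Fn G)
  choose c hc using fun m : M => TensorProduct.eq_repr_basis_left b (coact ρ m)
  let W : Submodule k M := Submodule.span k ↑(S.biUnion fun m => (c m).support.image (c m))
  refine ⟨W, Module.Finite.span_of_finite k (Finset.finite_toSet _), fun m hm => ?_, ?_⟩
  · -- `m` is the value at the identity
    have h1 : ρ.ρ k 1 ((1 : k) ⊗ₜ[k] m) = (1 : k) ⊗ₜ[k] m := by simp
    rw [rho_one_tmul, ← hc m] at h1
    have h2 := congrArg (TensorProduct.lid k M) h1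
    simp only [Finsupp.sum, map_sum, VecGrp.Wmap_tmul, TensorProduct.lid_tmul, one_smul] at h2
    rw [← h2]
    refine Submodule.sum_mem _ fun i hi => Submodule.smul_mem _ _ (Submodule.subset_span ?_)
    simp only [Finset.coe_biUnion, Set.mem_iUnion, Finset.coe_image, Finset.mem_coe]
    exact ⟨m, hm, i, hi, rfl⟩
  · intro B _ _ g x hx
    rw [Category.comp_id]
    induction hx using Submodule.span_induction with
    | zero => simp
    | add a a' _ _ ha ha' => rw [TensorProduct.tmul_add, map_add]; exact add_mem ha ha'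
    | smul r a _ ha =>
      rw [TensorProduct.tmul_smul, ← algebraMap_smul B r, map_smul]
      exact Submodule.smul_mem _ _ ha
    | mem a ha =>
      simp only [Finset.coe_biUnion, Set.mem_iUnion, Finset.coe_image, Finset.mem_coe] at ha
      obtain ⟨m, hm, j, hj, rfl⟩ := ha
      rw [mem_baseChange_iff]
      intro ψ hψ
      rw [← evalPt_coeffFn]
      suffices coeffFn ρ ψ (c m j) = 0 by rw [this, map_zero]
      let A := Fn G
      let g₁ : VecGrp.pt k (A ⊗[k] A) ⟶ G :=
        VecGrp.ptMap (Algebra.TensorProduct.includeLeft : A →ₐ[k] A ⊗[k] A) ≫ univ G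
      let g₂ : VecGrp.pt k (A ⊗[k] A) ⟶ G :=
        VecGrp.ptMap (Algebra.TensorProduct.includeRight : A →ₐ[k] A ⊗[k] A) ≫ univ G
      have key : contract ψ (A ⊗[k] A) (ρ.ρ _ (g₁ * g₂) ((1 : A ⊗[k] A) ⊗ₜ[k] m)) = 0 := by
        rw [rho_one_tmul, contract_Wmap]
        have h0 : contract ψ A (coact ρ m) = 0 := by
          rw [← hc m]
          simp only [Finsupp.sum, map_sum, contract_tmul]
          refine Finset.sum_eq_zero fun i hi => ?_
          rw [hψ, zero_smul]
          refine Submodule.subset_span ?_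
          simp only [Finset.coe_biUnion, Set.mem_iUnion, Finset.coe_image, Finset.mem_coe]
          exact ⟨m, hm, i, hi, rfl⟩
        rw [h0, map_zero]
      have e1 : evalPt g₁ = Algebra.TensorProduct.includeLeft := by simp [g₁, A, evalPt_ptMap]
      have e2 : evalPt g₂ = Algebra.TensorProduct.includeRight := by simp [g₂, A, evalPt_ptMap]
      have key2 : (c m).sum (fun i mi => coeffFn ρ ψ mi ⊗ₜ[k] b i) = 0 := by
        rw [← key, rho_mul_apply, rho_one_tmul ρ g₂ m, ← hc m]
        simp only [Finsupp.sum, map_sum, VecGrp.Wmap_tmul]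
        refine Finset.sum_congr rfl fun i _ => ?_
        rw [rho_tmul, contract_smul, ← evalPt_coeffFn, e1, e2]
        simp [A]
      have h3 := congrArg (fun t => contract (b.coord j) (Fn G) t) key2
      simp only [Finsupp.sum, map_sum, contract_tmul, map_zero, Module.Basis.coord_apply, Module.Basis.repr_self,
        Finsupp.single_apply, ite_smul, one_smul, zero_smul, Finset.sum_ite_eq'] at h3
      have hj' : j ∈ (c m).support := hj
      simp only [hj', if_true] at h3
      exact h3

end Coaction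

section Regular

variable (G : Over (Spec (CommRingCat.of k))) [GrpObj G] [IsAffine G.left]

variable {G} in
/-- `f ↦ f (· g)` at a `B`-point `g`. -/
def rTransAlg {B : Type u} [CommRing B] [Algebra k B] (g : VecGrp.pt k B ⟶ G) : Fn G →ₐ[k] B ⊗[k] Fn G :=
  evalPt ((VecGrp.ptMap (Algebra.TensorProduct.includeRight : Fn G →ₐ[k] B ⊗[k] Fn G) ≫ univ G) *
    (VecGrp.ptMap (Algebra.TensorProduct.includeLeft : B →ₐ[k] B ⊗[k] Fn G) ≫ g))

variable {G} in
/-- `f ↦ f (· g)`, extended linearly. -/
def rTransLift {B : Type u} [CommRing B] [Algebra k B] (g : VecGrp.pt k B ⟶ G) :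
    B ⊗[k] Fn G →ₐ[B] B ⊗[k] Fn G :=
  Algebra.TensorProduct.lift (Algebra.ofId B (B ⊗[k] Fn G)) (rTransAlg g) fun _ _ => Commute.all _ _

variable {G}

theorem rTransLift_tmul {B : Type u} [CommRing B] [Algebra k B] (g : VecGrp.pt k B ⟶ G) (b : B) (f : Fn G) :
    rTransLift g (b ⊗ₜ[k] f) = b • rTransAlg g f := by
  rw [rTransLift, Algebra.TensorProduct.lift_tmul, Algebra.smul_def]; rfl

theorem rTransLift_one {B : Type u} [CommRing B] [Algebra k B] :
    rTransLift (1 : VecGrp.pt k B ⟶ G) = AlgHom.id B (B ⊗[k] Fn G) := by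
  refine AlgHom.toLinearMap_injective ?_
  refine TensorProduct.AlgebraTensorModule.ext fun b f => ?_
  simp only [AlgHom.toLinearMap_apply, AlgHom.id_apply]
  rw [rTransLift_tmul, rTransAlg, MonObj.comp_one, _root_.mul_one, evalPt_ptMap, evalPt_univ]
  simp [TensorProduct.smul_tmul']

theorem rTransLift_mul {B : Type u} [CommRing B] [Algebra k B] (g h : VecGrp.pt k B ⟶ G) :
    (rTransLift g).comp (rTransLift h) = rTransLift (g * h) := by
  refine AlgHom.toLinearMap_injective ?_
  refine TensorProduct.AlgebraTensorModule.ext fun b f => ?_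
  simp only [AlgHom.toLinearMap_apply, AlgHom.comp_apply, rTransLift_tmul, map_smul]
  congr 1
  show ((rTransLift g).restrictScalars k) (rTransAlg h f) = _
  rw [rTransAlg, ← AlgHom.comp_apply, ← evalPt_ptMap, MonObj.comp_mul]
  have e1 : ((rTransLift g).restrictScalars k).comp
      (Algebra.TensorProduct.includeLeft : B →ₐ[k] B ⊗[k] Fn G) = Algebra.TensorProduct.includeLeft := by
    refine AlgHom.ext fun c => ?_
    simp [rTransLift_tmul, TensorProduct.smul_tmul', Algebra.TensorProduct.one_def]
  have e2 : VecGrp.ptMap ((rTransLift g).restrictScalars k) ≫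
      VecGrp.ptMap (Algebra.TensorProduct.includeRight : Fn G →ₐ[k] B ⊗[k] Fn G) ≫ univ G =
      (VecGrp.ptMap (Algebra.TensorProduct.includeRight : Fn G →ₐ[k] B ⊗[k] Fn G) ≫ univ G) *
        (VecGrp.ptMap (Algebra.TensorProduct.includeLeft : B →ₐ[k] B ⊗[k] Fn G) ≫ g) := by
    apply pt_ext
    rw [evalPt_ptMap, evalPt_ptMap, evalPt_univ, AlgHom.comp_id]
    refine AlgHom.ext fun a => ?_
    simp [rTransLift_tmul]
    rfl
  have e3 : VecGrp.ptMap ((rTransLift g).restrictScalars k) ≫
      VecGrp.ptMap (Algebra.TensorProduct.includeLeft : B →ₐ[k] B ⊗[k] Fn G) ≫ h =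
      VecGrp.ptMap (Algebra.TensorProduct.includeLeft : B →ₐ[k] B ⊗[k] Fn G) ≫ h := by
    apply pt_ext
    rw [evalPt_ptMap, evalPt_ptMap, ← AlgHom.comp_assoc, e1]
  rw [e2, e3, rTransAlg, MonObj.comp_mul, _root_.mul_assoc]

variable (G)

/-- The right regular representation. -/
def regRep : VecGrp.GMod G (Fn G) where
  ρ B _ _ :=
    { toFun := fun g => LinearEquiv.ofLinear (rTransLift g).toLinearMap (rTransLift g⁻¹).toLinearMap
        (by rw [← AlgHom.comp_toLinearMap, rTransLift_mul, mul_inv_cancel, rTransLift_one]; rfl)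
        (by rw [← AlgHom.comp_toLinearMap, rTransLift_mul, inv_mul_cancel, rTransLift_one]; rfl)
      map_one' := LinearEquiv.ext fun x => by simp [rTransLift_one]
      map_mul' := fun g h => LinearEquiv.ext fun x => by
        show rTransLift (g * h) x = rTransLift g (rTransLift h x)
        rw [← rTransLift_mul]; rfl }
  naturality {B B'} _ _ _ _ φ g x := by
    show VecGrp.Wmap φ (rTransLift g x) = rTransLift (VecGrp.ptMap φ ≫ g) (VecGrp.Wmap φ x)
    induction x using TensorProduct.induction_on with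
    | zero => simp
    | tmul b f =>
      rw [rTransLift_tmul, VecGrp.Wmap_smul, VecGrp.Wmap_tmul, rTransLift_tmul]
      congr 1
      let Φ : B ⊗[k] Fn G →ₐ[k] B' ⊗[k] Fn G := Algebra.TensorProduct.map φ (AlgHom.id k _)
      have hΦ : ∀ z, VecGrp.Wmap φ z = Φ z := by
        intro z
        induction z using TensorProduct.induction_on with
        | zero => simp
        | tmul c a => simp [Φ]
        | add p q hp hq => simp [hp, hq]
      rw [hΦ, rTransAlg, rTransAlg, ← AlgHom.comp_apply, ← evalPt_ptMap, MonObj.comp_mul]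
      congr 3
      · apply pt_ext
        simp [evalPt_ptMap, Φ, ← AlgHom.comp_assoc]
      · apply pt_ext
        simp [evalPt_ptMap, Φ, ← AlgHom.comp_assoc]
    | add p q hp hq => simp only [map_add, hp, hq]

variable {G}

theorem regRep_apply {B : Type u} [CommRing B] [Algebra k B] (g : VecGrp.pt k B ⟶ G) (f : Fn G) :
    (regRep G).ρ B g ((1 : B) ⊗ₜ[k] f) = rTransAlg g f := by
  show rTransLift g _ = _
  rw [rTransLift_tmul, one_smul]

/-- A function is fixed under right translation by `g` iff it is fixed in the regular representation. -/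
theorem regRep_fixed_iff (g : VecGrp.pt k k ⟶ G) (f : Fn G) :
    (regRep G).ρ k g ((1 : k) ⊗ₜ[k] f) = (1 : k) ⊗ₜ[k] f ↔ AGF.IsRTransInv g f := by
  rw [regRep_apply, isRTransInv_ratPt_iff]
  constructor
  · intro h B _ _ x
    let Φ : k ⊗[k] Fn G →ₐ[k] B := Algebra.TensorProduct.lift (Algebra.ofId k B) (evalPt x) fun _ _ => Commute.all _ _
    have e := congrArg Φ h
    rw [rTransAlg, ← AlgHom.comp_apply, ← evalPt_ptMap, MonObj.comp_mul] at e
    have e1 : VecGrp.ptMap Φ ≫ VecGrp.ptMap (Algebra.TensorProduct.includeRight : Fn G →ₐ[k] k ⊗[k] Fn G) ≫ univ G = x := by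
      apply pt_ext
      rw [evalPt_ptMap, evalPt_ptMap, evalPt_univ, AlgHom.comp_id]
      refine AlgHom.ext fun a => ?_
      simp [Φ]
    have e2 : VecGrp.ptMap Φ ≫ VecGrp.ptMap (Algebra.TensorProduct.includeLeft : k →ₐ[k] k ⊗[k] Fn G) ≫ g = cst g := by
      apply pt_ext
      rw [evalPt_ptMap, evalPt_ptMap, cst, evalPt_ptMap, ← AlgHom.comp_assoc]
      congr 1
      exact Subsingleton.elim _ _
    rw [e1, e2] at e
    simpa [Φ] using e
  · intro h
    rw [rTransAlg]
    have e2 : VecGrp.ptMap (Algebra.TensorProduct.includeLeft : k →ₐ[k] k ⊗[k] Fn G) ≫ g = cst g := by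
      rw [cst]; congr 2
    rw [e2, h, evalPt_ptMap, evalPt_univ]
    rfl

end Regular

section PiMod

variable {G : Over (Spec (CommRingCat.of k))} [GrpObj G] {J : Type u} [Fintype J] [DecidableEq J]
  {M : Type u} [AddCommGroup M] [Module k M]

theorem piRight_Wmap {B B' : Type u} [CommRing B] [Algebra k B] [CommRing B'] [Algebra k B'] (φ : B →ₐ[k] B')
    (x : B ⊗[k] (J → M)) (j : J) :
    TensorProduct.piRight k B' B' (fun _ => M) (VecGrp.Wmap φ x) j =
      VecGrp.Wmap φ (TensorProduct.piRight k B B (fun _ => M) x j) := by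
  induction x using TensorProduct.induction_on with
  | zero => simp
  | tmul b m => simp
  | add p q hp hq => simp only [map_add, Pi.add_apply, hp, hq]

/-- A finite power of a rational module. -/
def piGMod (ρ : VecGrp.GMod G M) : VecGrp.GMod G (J → M) where
  ρ B _ _ :=
    { toFun := fun g => (TensorProduct.piRight k B B (fun _ : J => M)) ≪≫ₗ
        (LinearEquiv.piCongrRight fun _ => ρ.ρ B g) ≪≫ₗ (TensorProduct.piRight k B B (fun _ : J => M)).symm
      map_one' := LinearEquiv.ext fun x => by
        apply (TensorProduct.piRight k B B (fun _ : J => M)).injective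
        funext j
        simp
      map_mul' := fun g h => LinearEquiv.ext fun x => by
        apply (TensorProduct.piRight k B B (fun _ : J => M)).injective
        funext j
        simp }
  naturality {B B'} _ _ _ _ φ g x := by
    apply (TensorProduct.piRight k B' B' (fun _ : J => M)).injective
    funext j
    simp [piRight_Wmap, ρ.naturality]
    exact (piRight_Wmap φ x j).symm

theorem piGMod_apply (ρ : VecGrp.GMod G M) {B : Type u} [CommRing B] [Algebra k B] (g : VecGrp.pt k B ⟶ G)
    (x : B ⊗[k] (J → M)) (j : J) :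
    TensorProduct.piRight k B B (fun _ => M) ((piGMod ρ).ρ B g x) j =
      ρ.ρ B g (TensorProduct.piRight k B B (fun _ => M) x j) := by
  simp [piGMod]

theorem piGMod_fixed_iff (ρ : VecGrp.GMod G M) {B : Type u} [CommRing B] [Algebra k B] (g : VecGrp.pt k B ⟶ G)
    (v : J → M) :
    (piGMod ρ).ρ B g ((1 : B) ⊗ₜ[k] v) = (1 : B) ⊗ₜ[k] v ↔
      ∀ j, ρ.ρ B g ((1 : B) ⊗ₜ[k] v j) = (1 : B) ⊗ₜ[k] v j := by
  rw [← (TensorProduct.piRight k B B (fun _ : J => M)).injective.eq_iff, funext_iff]
  simp [piGMod_apply]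

end PiMod

end Groth.Agf
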