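import Mathlib

/-!
# Invariant algebras of complementary subgroups generate

For a finite group acting on a domain `A` with invariants `R`, and a prime of `R` above which the
inertia groups lie in `N`, the subalgebra `A ^ N` has Galois coordinates there, so
`A = A ^ N · A ^ M` for a complement `M`.
-/

set_option autoImplicit false
universe u v w

open Polynomial TensorProduct

namespace Groth.Agf.AbelianGen

variable {R : Type u} [CommRing R] {A : Type v} [CommRing A] [Algebra R A]
  {H : Type w} [Group H] [MulSemiringAction H A] [SMulCommClass H R A]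

/-- The invariants of a subgroup. -/
abbrev Fix (R : Type u) [CommRing R] (A : Type v) [CommRing A] [Algebra R A] {H : Type w} [Group H]
    [MulSemiringAction H A] [SMulCommClass H R A] (N : Subgroup H) : Subalgebra R A :=
  FixedPoints.subalgebra R A ↥N

lemma mem_fix {N : Subgroup H} {a : A} : a ∈ Fix R A N ↔ ∀ n ∈ N, n • a = a :=
  ⟨fun h n hn => h ⟨n, hn⟩, fun h n => h n.1 n.2⟩

variable [Finite H] [Module.Finite R A]

/-- An element not in `N · I_q` is detected modulo `q` by an `N`-invariant element. -/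
theorem exists_sub_notMem (N : Subgroup H) (q : Ideal A) [q.IsPrime] (g : H)
    (hg : ∀ k ∈ N, g * k⁻¹ ∉ q.inertia H) : ∃ c ∈ Fix R A N, g • c - c ∉ q := by
  classical
  by_contra! hc
  haveI : Fintype N := Fintype.ofFinite _
  obtain ⟨m, a, ha⟩ := Module.Finite.exists_fin (R := R) (M := A)
  let f : MvPolynomial (Fin m) A := ∑ l, MvPolynomial.C (a l) * MvPolynomial.X l
  let φ : H → MvPolynomial (Fin m) A →+* MvPolynomial (Fin m) A := fun k =>
    MvPolynomial.map (MulSemiringAction.toRingHom H A k)
  have hφ : ∀ k k' (z : MvPolynomial (Fin m) A), φ k (φ k' z) = φ (k * k') z := fun k k' z => by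
    have : (MulSemiringAction.toRingHom H A k).comp (MulSemiringAction.toRingHom H A k') =
        MulSemiringAction.toRingHom H A (k * k') := RingHom.ext fun x => (mul_smul k k' x).symm
    simp only [φ, MvPolynomial.map_map, this]
  have hφ1 : ∀ z, φ 1 z = z := fun z => by
    have : MulSemiringAction.toRingHom H A (1 : H) = RingHom.id A := RingHom.ext fun x => one_smul H x
    simp only [φ, this, MvPolynomial.map_id]
  let π : MvPolynomial (Fin m) A →+* MvPolynomial (Fin m) (A ⧸ q) := MvPolynomial.map (Ideal.Quotient.mk q)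
  let F : Polynomial (MvPolynomial (Fin m) A) := ∏ k : N, (X - Polynomial.C (φ k.1 f))
  have hF : ∀ n : N, F.map (φ n.1) = F := fun n => by
    simp only [F, Polynomial.map_prod, Polynomial.map_sub, map_X, map_C, hφ]
    exact Fintype.prod_equiv (Equiv.mulLeft n) _ _ fun k => rfl
  have hFg : (F.map (φ g)).map π = F.map π := by
    ext i d
    simp only [Polynomial.coeff_map, φ, π, MvPolynomial.coeff_map]
    refine Ideal.Quotient.eq.2 (hc _ (mem_fix.2 fun n hn => ?_))
    have h := congrArg (fun P : Polynomial (MvPolynomial (Fin m) A) => (P.coeff i).coeff d) (hF ⟨n, hn⟩)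
    simp only [Polynomial.coeff_map, φ, MvPolynomial.coeff_map] at h
    exact h
  have h0 : ((F.map (φ g)).map π).eval (π (φ g f)) = 0 := by
    simp only [F, Polynomial.map_prod, Polynomial.map_sub, map_X, map_C, eval_prod]
    exact Finset.prod_eq_zero (i := (1 : N)) (Finset.mem_univ _) (by simp [hφ])
  rw [hFg] at h0
  simp only [F, Polynomial.map_prod, Polynomial.map_sub, map_X, map_C, eval_prod, eval_sub, eval_X,
    eval_C, Finset.prod_eq_zero_iff, Finset.mem_univ, true_and, sub_eq_zero] at h0
  obtain ⟨k, hk⟩ := h0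
  have hl : ∀ l, g • a l - k.1 • a l ∈ q := fun l => by
    have h := congrArg (MvPolynomial.coeff (Finsupp.single l 1)) hk
    simp only [π, φ, f, map_sum, map_mul, MvPolynomial.map_C, MvPolynomial.map_X, MvPolynomial.coeff_sum,
      MvPolynomial.coeff_C_mul, MvPolynomial.coeff_X'] at h
    simp only [Finsupp.single_left_inj one_ne_zero, mul_ite, mul_one, mul_zero, Finset.sum_ite_eq',
      Finset.mem_univ, if_true] at h
    exact Ideal.Quotient.eq.1 h
  have hall : ∀ x : A, g • x - k.1 • x ∈ q := fun x => by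
    have hx : x ∈ Submodule.span R (Set.range a) := ha ▸ Submodule.mem_top
    induction hx using Submodule.span_induction with
    | mem x hx => obtain ⟨l, rfl⟩ := hx; exact hl l
    | zero => simp
    | add x y _ _ hx hy => rw [smul_add, smul_add, add_sub_add_comm]; exact add_mem hx hy
    | smul r x _ hx =>
      rw [smul_comm g, smul_comm k.1, ← smul_sub, Algebra.smul_def]
      exact q.mul_mem_left _ hx
  refine hg k.1 k.2 fun x => ?_
  have := hall (k.1⁻¹ • x)
  rw [smul_inv_smul] at this
  rw [mul_smul]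
  exact this

omit [Finite H] [Module.Finite R A] in
/-- Evaluation of `u ⊗ v` at `τ`. -/
noncomputable def ev (C : Subalgebra R A) (τ : H) : C ⊗[R] C →ₐ[R] A :=
  Algebra.TensorProduct.lift C.val ((MulSemiringAction.toAlgHom R A τ).comp C.val) fun _ _ => Commute.all _ _

omit [Finite H] [Module.Finite R A] in
lemma ev_tmul (C : Subalgebra R A) (τ : H) (u v : C) : ev C τ (u ⊗ₜ v) = (u : A) * τ • (v : A) := by
  simp [ev]

/-- Galois coordinates of `A ^ N` above a prime `P` of `R`. -/
theorem exists_coord [IsDomain A] (hcomm : ∀ g h : H, g * h = h * g) (N : Subgroup H) (P : Ideal R)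
    [P.IsPrime] (hinj : Function.Injective (algebraMap R A))
    (S : Finset H) (hS : ∀ g ∈ S, ∀ q : Ideal A, q.IsPrime → q.under R = P → ∀ k ∈ N, g * k⁻¹ ∉ q.inertia H) :
    ∃ s ∉ P, ∃ e : Fix R A N ⊗[R] Fix R A N, ev (Fix R A N) (1 : H) e = algebraMap R A s ∧
      ∀ g ∈ S, ev (Fix R A N) g e = 0 := by
  classical
  have : Algebra.IsIntegral R A := Algebra.IsIntegral.of_finite R A
  induction S using Finset.induction with
  | empty => exact ⟨1, P.one_notMem, 1, by simp, by simp⟩
  | insert g S hg ih =>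
    obtain ⟨s, hs, e, he1, he⟩ := ih fun g' hg' => hS g' (Finset.mem_insert_of_mem hg')
    let C := Fix R A N
    let J : Ideal C :=
      { carrier := {r | ∃ e : C ⊗[R] C, ev C (1 : H) e = (r : A) ∧ ev C g e = 0}
        zero_mem' := ⟨0, by simp, by simp⟩
        add_mem' := fun {r r'} ⟨e, h1, h2⟩ ⟨e', h1', h2'⟩ =>
          ⟨e + e', by simp [h1, h1'], by simp [h2, h2']⟩
        smul_mem' := fun c r ⟨e, h1, h2⟩ => ⟨c ⊗ₜ 1 * e, by simp [h1, ev_tmul], by simp [h2]⟩ }
    obtain ⟨t, ht, htJ⟩ : ∃ t, t ∉ P ∧ algebraMap R C t ∈ J := by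
      have : P.IsPrime := inferInstance
      by_contra! hcon
      have : Algebra.IsIntegral R C := Algebra.IsIntegral.of_injective C.val Subtype.val_injective
      obtain ⟨Q, hJQ, hQ, hQP⟩ := Ideal.exists_ideal_over_prime_of_isIntegral P J
        fun t ht => by_contra fun h => hcon t h ht
      have : Algebra.IsIntegral C A := Algebra.IsIntegral.tower_top (R := R)
      obtain ⟨q, -, hq, hqQ⟩ := Ideal.exists_ideal_over_prime_of_isIntegral Q (⊥ : Ideal A) (fun z hz => by
        rw [Ideal.mem_comap, Ideal.mem_bot] at hz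
        rw [show z = 0 from Subtype.ext hz]; exact Q.zero_mem)
      have hqP : q.under R = P := by
        rw [← hQP, ← hqQ, Ideal.under_def, Ideal.comap_comap]
        rfl
      obtain ⟨c, hc, hcq⟩ := exists_sub_notMem (R := R) N q g (hS g (Finset.mem_insert_self _ _) q hq hqP)
      have hgc : g • c ∈ C := mem_fix.2 fun n hn => by
        rw [smul_smul, hcomm, ← smul_smul, mem_fix.1 hc n hn]
      have hmem : (⟨c, hc⟩ : C) - ⟨g • c, hgc⟩ ∈ J :=
        ⟨(1 : C) ⊗ₜ ⟨c, hc⟩ - ⟨g • c, hgc⟩ ⊗ₜ 1, by simp [ev_tmul], by simp [ev_tmul]⟩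
      have h2 := hJQ hmem
      rw [← hqQ, Ideal.mem_comap] at h2
      refine hcq ?_
      rw [← neg_sub]
      exact neg_mem h2
    obtain ⟨e', h1', h2'⟩ := htJ
    refine ⟨s * t, fun h => (Ideal.IsPrime.mem_or_mem ‹_› h).elim hs ht, e * e', ?_, ?_⟩
    · rw [map_mul, he1, h1', map_mul]; rfl
    · intro g' hg'
      rw [map_mul]
      rcases Finset.mem_insert.1 hg' with rfl | hg'
      · rw [h2', mul_zero]
      · rw [he g' hg', zero_mul]

omit [Module.Finite R A] in
/-- The sum over a subgroup. -/
noncomputable def tr (R : Type u) [CommRing R] {A : Type v} [CommRing A] [Algebra R A] {H : Type w}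
    [Group H] [MulSemiringAction H A] [SMulCommClass H R A] [Finite H] (M : Subgroup H) : A →ₗ[R] A :=
  haveI := Fintype.ofFinite M
  ∑ τ : M, (MulSemiringAction.toAlgHom R A τ.1).toLinearMap

omit [Module.Finite R A] in
lemma tr_apply (M : Subgroup H) [Fintype M] (a : A) : tr R M a = ∑ τ : M, τ.1 • a := by
  simp only [tr, LinearMap.sum_apply]
  rw [Subsingleton.elim (Fintype.ofFinite M) ‹Fintype M›]
  rfl

omit [Module.Finite R A] in
lemma smul_tr (M : Subgroup H) (m : H) (hm : m ∈ M) (a : A) : m • tr R M a = tr R M a := by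
  haveI := Fintype.ofFinite M
  rw [tr_apply, Finset.smul_sum]
  exact Fintype.sum_equiv (Equiv.mulLeft (⟨m, hm⟩ : M)) _ _ fun τ => (mul_smul m τ.1 a).symm

omit [Module.Finite R A] in
lemma smul_tr_of_fixed (hcomm : ∀ g h : H, g * h = h * g) (M : Subgroup H) (g : H) (a : A)
    (ha : g • a = a) : g • tr R M a = tr R M a := by
  haveI := Fintype.ofFinite M
  rw [tr_apply, Finset.smul_sum]
  exact Finset.sum_congr rfl fun τ _ => by rw [smul_smul, hcomm, ← smul_smul, ha]

omit [Module.Finite R A] in
/-- Expansion in Galois coordinates. -/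
theorem smul_eq_sum (C : Subalgebra R A) (M : Subgroup H) {s : R} {e : C ⊗[R] C} (he1 : ev C (1 : H) e = algebraMap R A s)
    (he : ∀ g ∈ M, g ≠ 1 → ev C g e = 0) (a : A) :
    TensorProduct.lift ((LinearMap.mul R A).compl₁₂ C.val.toLinearMap
      (tr R M ∘ₗ LinearMap.mulRight R a ∘ₗ C.val.toLinearMap)) e = s • a := by
  haveI := Fintype.ofFinite M
  have key : ∀ e : C ⊗[R] C, TensorProduct.lift ((LinearMap.mul R A).compl₁₂ C.val.toLinearMap
      (tr R M ∘ₗ LinearMap.mulRight R a ∘ₗ C.val.toLinearMap)) e = ∑ τ : M, ev C τ.1 e * τ.1 • a := by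
    intro e
    induction e using TensorProduct.induction_on with
    | zero => simp
    | tmul u v =>
      simp [tr_apply, ev_tmul, Finset.mul_sum, smul_mul', mul_assoc]
    | add x y hx hy => simp [hx, hy, add_mul, Finset.sum_add_distrib]
  rw [key, Finset.sum_eq_single (1 : M) (fun τ _ hτ => by
    rw [he τ.1 τ.2 fun h => hτ (Subtype.ext h), zero_mul]) (fun h => absurd (Finset.mem_univ _) h)]
  rw [OneMemClass.coe_one, he1, one_smul, Algebra.smul_def]

omit [Module.Finite R A] in
theorem smul_mem_of_coord (N M : Subgroup H) {s : R} {e : Fix R A N ⊗[R] Fix R A N}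
    (he1 : ev (Fix R A N) (1 : H) e = algebraMap R A s) (he : ∀ g ∈ M, g ≠ 1 → ev (Fix R A N) g e = 0)
    (a : A) (T : Subalgebra R A) (hN : Fix R A N ≤ T) (ht : ∀ v ∈ Fix R A N, tr R M (v * a) ∈ T) :
    s • a ∈ T := by
  rw [← smul_eq_sum (Fix R A N) M he1 he a]
  clear he1 he
  induction e using TensorProduct.induction_on with
  | zero => simp
  | tmul u v => simpa using mul_mem (hN u.2) (ht v.1 v.2)
  | add x y hx hy => rw [map_add]; exact add_mem hx hy

omit [Module.Finite R A] in
/-- The multiplication map `A ^ N ⊗ T → A` is injective for `T` fixed by a complement of `N`. -/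
theorem productMap_injective [IsDomain R] (hcomm : ∀ g h : H, g * h = h * g)
    (hinj : Function.Injective (algebraMap R A))
    (hfix : ∀ a : A, (∀ h : H, h • a = a) → a ∈ Set.range (algebraMap R A))
    (N M : Subgroup H) (hNM : N ⊔ M = ⊤) {s : R} (hs : s ≠ 0) {e : Fix R A N ⊗[R] Fix R A N}
    (he1 : ev (Fix R A N) (1 : H) e = algebraMap R A s) (he : ∀ g ∈ M, g ≠ 1 → ev (Fix R A N) g e = 0)
    (T : Subalgebra R A) (hT : T ≤ Fix R A M) [Module.Free R (Fix R A N)] [Module.Free R T] :
    Function.Injective (Algebra.TensorProduct.productMap (Fix R A N).val T.val) := by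
  classical
  haveI := Fintype.ofFinite M
  have hrange : ∀ v b : (Fix R A N), tr R M (v.1 * b.1) ∈ LinearMap.range (Algebra.linearMap R A) := fun v b => by
    refine hfix _ fun h => ?_
    have hle : N ⊔ M ≤ MulAction.stabilizer H (tr R M (v.1 * b.1)) := sup_le
      (fun n hn => smul_tr_of_fixed hcomm M n _ (by rw [smul_mul', mem_fix.1 v.2 n hn, mem_fix.1 b.2 n hn]))
      (fun m hm => smul_tr M m hm _)
    exact hle (hNM ▸ Subgroup.mem_top h)
  let r : (Fix R A N) → (Fix R A N) →ₗ[R] R := fun v => (LinearEquiv.ofInjective (Algebra.linearMap R A) hinj).symm.toLinearMap ∘ₗ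
    LinearMap.codRestrict (LinearMap.range (Algebra.linearMap R A))
      (tr R M ∘ₗ LinearMap.mulLeft R v.1 ∘ₗ (Fix R A N).val.toLinearMap) (hrange v)
  have hr : ∀ v b : (Fix R A N), algebraMap R A (r v b) = tr R M (v.1 * b.1) := fun v b =>
    LinearEquiv.ofInjective_symm_apply (f := Algebra.linearMap R A) (h := hinj) ⟨_, hrange v b⟩
  let Lv : (Fix R A N) → (Fix R A N) ⊗[R] T →ₗ[R] T := fun v => (TensorProduct.lid R T).toLinearMap ∘ₗ (r v).rTensor T
  have hL : ∀ v z, (Lv v z : A) = tr R M (v.1 * Algebra.TensorProduct.productMap (Fix R A N).val T.val z) := by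
    intro v z
    induction z using TensorProduct.induction_on with
    | zero => simp
    | tmul b t =>
      simp only [Lv, LinearMap.comp_apply, LinearMap.rTensor_tmul, LinearEquiv.coe_coe, lid_tmul,
        Algebra.TensorProduct.productMap_apply_tmul, Subalgebra.coe_val, SetLike.val_smul]
      rw [Algebra.smul_def, hr, tr_apply, tr_apply, Finset.sum_mul]
      refine Finset.sum_congr rfl fun τ _ => ?_
      rw [← mul_assoc, smul_mul' τ.1 (v.1 * b.1), mem_fix.1 (hT t.2) τ.1 τ.2]
    | add x y hx hy => simp [hx, hy, mul_add]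
  obtain ⟨S, hS⟩ := TensorProduct.exists_finset e
  refine (injective_iff_map_eq_zero _).2 fun z hz => ?_
  have hexp : ∀ z : (Fix R A N) ⊗[R] T, ∑ p ∈ S, p.1 ⊗ₜ[R] Lv p.2 z = s • z := by
    intro z
    induction z using TensorProduct.induction_on with
    | zero => simp
    | tmul b t =>
      have hb : ∑ p ∈ S, r p.2 b • p.1 = s • b := Subtype.ext (by
        have h := smul_eq_sum (Fix R A N) M he1 he b.1
        rw [hS, map_sum] at h
        simp only [AddSubmonoidClass.coe_finsetSum, Algebra.smul_def, MulMemClass.coe_mul, Subalgebra.coe_algebraMap, hr]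
        rw [Algebra.smul_def] at h
        simpa [mul_comm] using h)
      simp only [Lv, LinearMap.comp_apply, LinearMap.rTensor_tmul, LinearEquiv.coe_coe, lid_tmul]
      rw [TensorProduct.smul_tmul', ← hb, TensorProduct.sum_tmul]
      exact Finset.sum_congr rfl fun p _ => (TensorProduct.smul_tmul _ _ _).symm
    | add x y hx hy => simp [hx, hy, tmul_add, Finset.sum_add_distrib]
  have hsz : s • z = 0 := by
    rw [← hexp z]
    refine Finset.sum_eq_zero fun p _ => ?_
    rw [show Lv p.2 z = 0 from Subtype.ext (by rw [hL, hz, mul_zero, map_zero]; rfl), tmul_zero]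
  let b := Module.Free.chooseBasis R ((Fix R A N) ⊗[R] T)
  apply b.repr.injective
  rw [map_zero]
  ext i
  have := DFunLike.congr_fun (congrArg b.repr hsz) i
  simpa [hs] using this

end Groth.Agf.AbelianGen
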