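import Groth.Agent.Agf.BlowUpRegular
import Groth.Agent.BlowUpBasics.AtlasOf
import Groth.Agent.BlowUpBasics.SheafOf
import Groth.Agent.BlowUpBasics.IdealComap
import Mathlib

/-! The exceptional divisor of a blow-up of `Spec A` along a regular sequence is smooth. -/

set_option autoImplicit false
universe u

open CategoryTheory CategoryTheory.Limits AlgebraicGeometry
open Groth.BlowUpBasics
open scoped TensorProduct

namespace Groth.Agf.BlowUpExceptional

/-- The kernel of `Spec φ`. -/
theorem ker_SpecMap {A B : Type u} [CommRing A] [CommRing B] (φ : A →+* B) :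
    (Spec.map (CommRingCat.ofHom φ)).ker = sheafOf (RingHom.ker φ) := by
  rw [Scheme.ker_of_isAffine, sheafOf]
  congr 1
  have hb := (ConcreteCategory.bijective_of_isIso (Scheme.ΓSpecIso (CommRingCat.of A)).inv)
  have hb' := (ConcreteCategory.bijective_of_isIso (Scheme.ΓSpecIso (CommRingCat.of B)).inv)
  rw [← Ideal.map_comap_of_surjective _ hb.2 (RingHom.ker (Spec.map (CommRingCat.ofHom φ)).appTop.hom),
    RingHom.comap_ker, ← CommRingCat.hom_comp, ← Scheme.ΓSpecIso_inv_naturality, CommRingCat.hom_comp,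
    RingHom.ker_comp_of_injective _ hb'.1]
  rfl

variable {A : Type u} [CommRing A] {c : ℕ}

/-- The charts at the generators cover every chart. -/
theorem frac_mem_false (f : Fin c → A) (I : Ideal A) (hI : I = Ideal.span (Set.range f)) (a' : A) (ha' : a' ∈ I)
    (p : Ideal (BlowUp.affineAlgebra A I a')) (hp : p ≠ ⊤) (hf : ∀ k, f k ∈ I)
    (hall : ∀ k, frac I a' (f k) (hf k) ∈ p) : False := by
  have hle : I.map (algebraMap A _) ≤
      p * Ideal.span {algebraMap A (BlowUp.affineAlgebra A I a') a'} := by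
    rw [Ideal.map_le_iff_le_comap]
    refine hI.le.trans ?_
    rw [Ideal.span_le]
    rintro _ ⟨k, rfl⟩
    rw [SetLike.mem_coe, Ideal.mem_comap, Ideal.mem_mul_span_singleton]
    exact ⟨_, hall k, frac_mul_algebraMap _ _⟩
  have hm := hle (Ideal.mem_map_of_mem _ ha')
  rw [Ideal.mem_mul_span_singleton] at hm
  obtain ⟨z, hz, hz'⟩ := hm
  have h1 : z = 1 := by
    refine (mul_cancel_right_mem_nonZeroDivisors (algebraMap_self_mem_nonZeroDivisors (I := I) (a := a'))).1 ?_
    rw [hz', one_mul]
  rw [h1] at hz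
  exact hp ((Ideal.eq_top_iff_one _).2 hz)

/-- The exceptional divisor of the blow-up along a regular sequence is smooth over the centre. -/
theorem smooth_snd (f : Fin c → A) (hf : RingTheory.Sequence.IsWeaklyRegular A (List.ofFn f))
    {P Z : Scheme.{u}} (b : P ⟶ Spec (CommRingCat.of A))
    (hb : BlowUp.IsBlowUp b (sheafOf (Ideal.span (Set.range f))))
    (j : Z ⟶ Spec (CommRingCat.of A)) [IsClosedImmersion j]
    (hj : j.ker = sheafOf (Ideal.span (Set.range f))) :
    Smooth (pullback.snd b j) := by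
  set I := Ideal.span (Set.range f) with hI
  obtain ⟨T⟩ := nonempty_atlas_of_isBlowUp hb
  let a : Fin c → I := fun k => ⟨f k, Ideal.subset_span ⟨k, rfl⟩⟩
  have hcov : ∀ x : P, ∃ k, x ∈ Set.range (T.j (a k)) := by
    intro x
    obtain ⟨a', y, rfl⟩ := T.covers x
    obtain ⟨k, hk⟩ : ∃ k, frac I (a' : A) (f k) (a k).2 ∉ y.asIdeal := by
      by_contra! hall
      exact frac_mem_false f I rfl _ a'.2 _ y.isPrime.ne_top (fun k => (a k).2) hall
    exact ⟨k, T.overlap (a k) a' y hk⟩
  let 𝒰 : P.OpenCover := Scheme.Cover.mkOfCovers (Fin c) _ (fun k => T.j (a k))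
    (fun x => let ⟨k, hk⟩ := hcov x; ⟨k, hk⟩) (fun k => T.isOpenImmersion (a k))
  obtain ⟨I', e, he⟩ := IsClosedImmersion.Spec_iff.1 ‹IsClosedImmersion j›
  obtain rfl : I = (I' : Ideal A) := by
    refine sheafOf_injective ?_
    rw [← hj, he, Scheme.Hom.ker_comp_of_isIso]
    exact (ker_SpecMap (A := A) (Ideal.Quotient.mk I')).trans (congrArg sheafOf (Ideal.mk_ker (I := I')))
  rw [IsZariskiLocalAtSource.iff_of_openCover (P := @Smooth) (𝒰.pullback₁ (pullback.fst b j))]
  intro k
  change Smooth (pullback.fst (pullback.fst b j) (T.j (a k)) ≫ pullback.snd b j)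
  let j' : Spec (CommRingCat.of (A ⧸ I)) ⟶ Spec (CommRingCat.of A) :=
    Spec.map (CommRingCat.ofHom (Ideal.Quotient.mk I))
  let B := BlowUp.affineAlgebra A I (f k)
  have h1 : IsPullback (pullback.snd (pullback.fst b j) (T.j (a k)))
      (pullback.fst (pullback.fst b j) (T.j (a k)) ≫ pullback.snd b j) (chartBase I (f k)) j := by
    rw [← T.fac (a k)]
    exact ((IsPullback.of_hasPullback (pullback.fst b j) (T.j (a k))).flip).paste_vert
      (IsPullback.of_hasPullback b j)
  let q := pullback.snd (pullback.fst b j) (T.j (a k))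
  let p := pullback.fst (pullback.fst b j) (T.j (a k)) ≫ pullback.snd b j
  have h2 : IsPullback q (p ≫ e.hom) (chartBase I (f k)) j' :=
    h1.of_iso (Iso.refl _) (Iso.refl _) e (Iso.refl _) (by simp [q]) (by simp [p]) (by simp)
      (by simpa [j'] using he)
  have h3 : Smooth (pullback.snd (chartBase I (f k)) j') := by
    have hsm : Smooth (Spec.map (CommRingCat.ofHom (R := A ⧸ I) (S := B ⊗[A] (A ⧸ I))
        (Algebra.TensorProduct.includeRight (R := A) (A := B) (B := A ⧸ I)).toRingHom)) :=
      (HasRingHomProperty.Spec_iff (P := @Smooth)).2 (BlowUpRegular.smooth_chart f k hf)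
    have e3 := pullbackSpecIso_hom_snd A B (A ⧸ I)
    have h4 := (MorphismProperty.cancel_left_of_respectsIso @Smooth (pullbackSpecIso A B (A ⧸ I)).hom _).2 hsm
    exact e3 ▸ h4
  have h5 : Smooth (p ≫ e.hom) := by
    rw [← h2.isoPullback_hom_snd]
    exact (MorphismProperty.cancel_left_of_respectsIso @Smooth _ _).2 h3
  exact (MorphismProperty.cancel_right_of_respectsIso @Smooth p e.hom).1 h5

end Groth.Agf.BlowUpExceptional
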