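import Groth.Agent.BlowUpBasics.AffineAlgebra
import Groth.Agent.EGA41Two.QuasiRegular
import Mathlib

/-! Charts of the blow-up along a regular sequence: the exceptional divisor is an affine space. -/

set_option autoImplicit false
universe u

open scoped TensorProduct
open MvPolynomial RingTheory.Sequence Groth.BlowUpBasics

namespace Groth.Agf.BlowUpRegular

variable {A : Type u} [CommRing A] {c : ℕ}

/-- Every element of `A[I/a]` becomes an element of `I ^ m` after multiplying by `a ^ m`. -/
theorem exists_pow_eq {I : Ideal A} {a : A} (ha : a ∈ I) (q : BlowUp.affineAlgebra A I a) :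
    ∃ (m : ℕ) (y : A), y ∈ I ^ m ∧
      (q : Localization.Away a) * algebraMap A (Localization.Away a) (a ^ m) = algebraMap A _ y := by
  obtain ⟨q, hq⟩ := q
  induction hq using Algebra.adjoin_induction with
  | mem q hq =>
    obtain ⟨x, hx, rfl⟩ := hq
    exact ⟨1, x, by rwa [pow_one], by rw [pow_one]; exact IsLocalization.mk'_spec (Localization.Away a) x _⟩
  | algebraMap r => exact ⟨0, r, by simp, by simp⟩
  | add q q' _ _ h h' =>
    obtain ⟨m, y, hy, e⟩ := h
    obtain ⟨m', y', hy', e'⟩ := h'
    refine ⟨m + m', y * a ^ m' + y' * a ^ m, ?_, ?_⟩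
    · rw [pow_add]
      refine add_mem (Ideal.mul_mem_mul hy (Ideal.pow_mem_pow ha _)) ?_
      rw [mul_comm (I ^ m)]
      exact Ideal.mul_mem_mul hy' (Ideal.pow_mem_pow ha _)
    · simp only [map_add, map_mul, pow_add] at e e' ⊢
      linear_combination (algebraMap A (Localization.Away a) (a ^ m')) * e +
        (algebraMap A (Localization.Away a) (a ^ m)) * e'
  | mul q q' _ _ h h' =>
    obtain ⟨m, y, hy, e⟩ := h
    obtain ⟨m', y', hy', e'⟩ := h'
    refine ⟨m + m', y * y', by rw [pow_add]; exact Ideal.mul_mem_mul hy hy', ?_⟩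
    simp only [map_mul, pow_add] at e e' ⊢
    linear_combination (q' * algebraMap A (Localization.Away a) (a ^ m')) * e +
      algebraMap A (Localization.Away a) y * e'

variable (f : Fin c → A) (i : Fin c)

/-- The exponent of the homogenised monomial. -/
noncomputable def hexp (N : ℕ) (d : {j : Fin c // j ≠ i} →₀ ℕ) : Fin c →₀ ℕ :=
  d.mapDomain Subtype.val + Finsupp.single i (N - d.degree)

lemma hexp_apply (N : ℕ) (d : {j : Fin c // j ≠ i} →₀ ℕ) (j : {j : Fin c // j ≠ i}) :
    hexp i N d j.1 = d j := by
  rw [hexp, Finsupp.add_apply, Finsupp.mapDomain_apply Subtype.val_injective,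
    Finsupp.single_eq_of_ne j.2, add_zero]

lemma hexp_injective (N : ℕ) : Function.Injective (hexp i N) := fun d d' h => by
  ext j; rw [← hexp_apply i N d j, h, hexp_apply]

lemma degree_hexp {N : ℕ} {d : {j : Fin c // j ≠ i} →₀ ℕ} (h : d.degree ≤ N) :
    (hexp i N d).degree = N := by
  rw [hexp, map_add, Finsupp.degree_mapDomain, Finsupp.degree_single]
  omega

variable {f i}

/-- On the chart `A[I/f_i]`, a polynomial in the `f_j / f_i` lies in `I A[I/f_i]` only if all its
coefficients lie in `I`. -/
theorem coeff_mem (hf : IsWeaklyRegular A (List.ofFn f))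
    (P : MvPolynomial {j : Fin c // j ≠ i} A)
    (hP : MvPolynomial.eval₂ (algebraMap A (BlowUp.affineAlgebra A (Ideal.span (Set.range f)) (f i)))
        (fun j => frac (Ideal.span (Set.range f)) (f i) (f j.1) (Ideal.subset_span ⟨_, rfl⟩)) P ∈
      (Ideal.span (Set.range f)).map (algebraMap A (BlowUp.affineAlgebra A (Ideal.span (Set.range f)) (f i)))) :
    ∀ d, P.coeff d ∈ Ideal.span (Set.range f) := by
  classical
  set I := Ideal.span (Set.range f) with hI
  have hi : f i ∈ I := Ideal.subset_span ⟨i, rfl⟩
  rw [map_eq_span hi, Ideal.mem_span_singleton'] at hP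
  obtain ⟨q, hq⟩ := hP
  obtain ⟨m, y, hy, hqy⟩ := exists_pow_eq hi q
  set N := P.totalDegree with hN
  set Q : MvPolynomial (Fin c) A := ∑ d ∈ P.support, monomial (hexp i N d) (P.coeff d) with hQ
  have hdeg : ∀ d ∈ P.support, d.degree ≤ N := fun d hd => by
    rw [hN, Finsupp.degree_apply]; exact le_totalDegree hd
  have hQh : Q.IsHomogeneous N := IsHomogeneous.sum _ _ _ fun d hd =>
    isHomogeneous_monomial _ (degree_hexp i (hdeg d hd))
  set L := Localization.Away (f i)
  have heval : ((MvPolynomial.eval₂ (algebraMap A (BlowUp.affineAlgebra A I (f i)))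
      (fun j : {j : Fin c // j ≠ i} => frac I (f i) (f j.1) (Ideal.subset_span ⟨_, rfl⟩)) P :
        BlowUp.affineAlgebra A I (f i)) : L) *
      algebraMap A L (f i ^ N) = algebraMap A L (eval f Q) := by
    rw [eval₂_eq, hQ, map_sum, map_sum, AddSubmonoidClass.coe_finsetSum, Finset.sum_mul]
    refine Finset.sum_congr rfl fun d hd => ?_
    rw [eval_monomial, hexp, Finsupp.prod_add_index' (fun _ => pow_zero _) (fun _ _ _ => pow_add _ _ _),
      Finsupp.prod_mapDomain_index_inj Subtype.val_injective,
      Finsupp.prod_single_index (h := fun j x => f j ^ x) (pow_zero _), Finsupp.prod, map_mul, map_mul, map_pow (algebraMap A L) (f i),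
      MulMemClass.coe_mul, SubmonoidClass.coe_finsetProd, map_prod]
    have hd' : N = d.degree + (N - d.degree) := by have := hdeg d hd; omega
    conv_lhs => rw [hd', pow_add, Finsupp.degree_apply, ← Finset.prod_pow_eq_pow_sum]
    simp only [SubmonoidClass.coe_pow, coe_frac, map_pow]
    rw [Subalgebra.coe_algebraMap]
    rw [show ∀ x z w v : L, x * z * (w * v) = x * ((z * w) * v) from fun x z w v => by ring,
      ← Finset.prod_mul_distrib]
    refine congrArg₂ (· * ·) rfl (congrArg₂ (· * ·) (Finset.prod_congr rfl fun j _ => ?_) rfl)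
    rw [← mul_pow, IsLocalization.mk'_spec]
  have hloc : algebraMap A L (f i ^ m * eval f Q) = algebraMap A L (f i ^ (N + 1) * y) := by
    rw [map_mul, map_mul, ← heval, ← hq, ← hqy, MulMemClass.coe_mul, Subalgebra.coe_algebraMap,
      pow_succ, map_mul]
    ring
  obtain ⟨⟨_, e, rfl⟩, he⟩ :=
    (IsLocalization.eq_iff_exists (Submonoid.powers (f i)) L).1 hloc
  dsimp only at he
  have hmem : eval f (Q * X i ^ (m + e)) ∈ I ^ ((N + (m + e)) + 1) := by
    rw [map_mul, map_pow, eval_X,
      show eval f Q * f i ^ (m + e) = f i ^ e * (f i ^ (N + 1) * y) by rw [← he]; ring,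
      show N + (m + e) + 1 = e + ((N + 1) + m) by ring, pow_add I e, pow_add I (N + 1)]
    exact Ideal.mul_mem_mul (Ideal.pow_mem_pow hi _) (Ideal.mul_mem_mul (Ideal.pow_mem_pow hi _) hy)
  have hqr := Groth.EGA41Two.isQuasiRegular_of_isWeaklyRegular f hf (N + (m + e)) (Q * X i ^ (m + e))
    (hQh.mul (by simpa using (isHomogeneous_X A i).pow (m + e))) hmem
  intro d
  by_cases hd : d ∈ P.support
  swap
  · rw [notMem_support_iff.1 hd]; exact zero_mem _
  have := hqr (hexp i N d + Finsupp.single i (m + e))
  rw [X_pow_eq_monomial, coeff_mul_monomial, mul_one, hQ, coeff_sum] at this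
  rw [Finset.sum_eq_single d (fun d' _ hne => by rw [coeff_monomial, if_neg fun h => hne (hexp_injective i N h)])
    (fun h => absurd hd h), coeff_monomial, if_pos rfl] at this
  exact this

variable (f i)

/-- `A / I → A[I/f_i] ⊗ A / I` is smooth. -/
theorem smooth_chart (hf : IsWeaklyRegular A (List.ofFn f)) :
    RingHom.Smooth (R := A ⧸ Ideal.span (Set.range f))
      (S := BlowUp.affineAlgebra A (Ideal.span (Set.range f)) (f i) ⊗[A] (A ⧸ Ideal.span (Set.range f)))
      Algebra.TensorProduct.includeRight.toRingHom := by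
  classical
  set I := Ideal.span (Set.range f) with hI
  set B := BlowUp.affineAlgebra A I (f i)
  let iR : A ⧸ I →+* B ⊗[A] (A ⧸ I) := Algebra.TensorProduct.includeRight.toRingHom
  let fr : {j : Fin c // j ≠ i} → B := fun j => frac I (f i) (f j.1) (Ideal.subset_span ⟨_, rfl⟩)
  let Φ : MvPolynomial {j : Fin c // j ≠ i} (A ⧸ I) →+* B ⊗[A] (A ⧸ I) :=
    eval₂Hom iR fun j => fr j ⊗ₜ[A] 1
  have hC : Φ.comp C = iR := RingHom.ext fun r => eval₂Hom_C _ _ r
  have hmk : ∀ P : MvPolynomial {j : Fin c // j ≠ i} A,
      Φ (MvPolynomial.map (Ideal.Quotient.mk I) P) = (eval₂ (algebraMap A B) fr P) ⊗ₜ[A] 1 := by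
    intro P
    induction P using MvPolynomial.induction_on with
    | C r =>
      rw [map_C, eval₂_C, eval₂Hom_C]
      change (1 : B) ⊗ₜ[A] Ideal.Quotient.mk I r = _
      rw [Algebra.algebraMap_eq_smul_one, TensorProduct.smul_tmul, ← Ideal.Quotient.algebraMap_eq,
        Algebra.algebraMap_eq_smul_one]
    | add p q hp hq => rw [map_add, map_add, hp, hq, eval₂_add, TensorProduct.add_tmul]
    | mul_X p j hp =>
      rw [map_mul, map_mul, hp, map_X, eval₂Hom_X', eval₂_mul, eval₂_X,
        Algebra.TensorProduct.tmul_mul_tmul, one_mul]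
  have hinj : Function.Injective Φ := by
    rw [injective_iff_map_eq_zero]
    intro P hP
    obtain ⟨P, rfl⟩ := MvPolynomial.map_surjective _ Ideal.Quotient.mk_surjective P
    rw [hmk, ← Algebra.TensorProduct.quotIdealMapEquivTensorQuot_mk, map_eq_zero_iff _
      (Algebra.TensorProduct.quotIdealMapEquivTensorQuot B I).injective,
      Ideal.Quotient.eq_zero_iff_mem] at hP
    have := coeff_mem hf P hP
    ext d
    rw [coeff_map, coeff_zero, Ideal.Quotient.eq_zero_iff_mem]
    exact this d
  have hsurj : Function.Surjective Φ := by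
    suffices h : ∀ q : B, ∃ P : MvPolynomial {j : Fin c // j ≠ i} A, eval₂ (algebraMap A B) fr P = q by
      intro z
      induction z using TensorProduct.induction_on with
      | zero => exact ⟨0, map_zero _⟩
      | tmul q r =>
        obtain ⟨P, rfl⟩ := h q
        exact ⟨MvPolynomial.map (Ideal.Quotient.mk I) P * C r, by
          rw [map_mul, hmk, ← RingHom.comp_apply Φ C, hC]
          change _ * ((1 : B) ⊗ₜ[A] r) = _
          rw [Algebra.TensorProduct.tmul_mul_tmul, mul_one, one_mul]⟩
      | add x y hx hy =>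
        obtain ⟨P, rfl⟩ := hx
        obtain ⟨Q, rfl⟩ := hy
        exact ⟨P + Q, map_add _ _ _⟩
    let S := (MvPolynomial.eval₂Hom (algebraMap A B) fr).range
    suffices h : ∀ q : B, q ∈ S from fun q => h q
    have hfr : ∀ x, ∀ hx : x ∈ I, frac I (f i) x hx ∈ S := by
      intro x hx
      have hx' : x ∈ Ideal.span (Set.range f) := hx
      induction hx' using Submodule.span_induction with
      | mem x hx' =>
        obtain ⟨j, rfl⟩ := hx'
        by_cases hj : j = i
        · subst hj
          have : frac I (f j) (f j) hx = 1 := Subtype.ext (by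
            rw [coe_frac, OneMemClass.coe_one]; exact IsLocalization.mk'_self _ _)
          rw [this]; exact one_mem _
        · exact ⟨X ⟨j, hj⟩, eval₂_X _ _ _⟩
      | zero =>
        have : frac I (f i) 0 hx = 0 := Subtype.ext (by
          rw [coe_frac, IsLocalization.mk'_zero, ZeroMemClass.coe_zero])
        rw [this]; exact zero_mem _
      | add x x' h h' ih ih' =>
        have : frac I (f i) (x + x') hx = frac I (f i) x h + frac I (f i) x' h' := Subtype.ext (by
          rw [AddMemClass.coe_add, coe_frac, coe_frac, coe_frac, IsLocalization.mk'_eq_mul_mk'_one (x := x + x'),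
            map_add, add_mul, ← IsLocalization.mk'_eq_mul_mk'_one, ← IsLocalization.mk'_eq_mul_mk'_one])
        rw [this]; exact add_mem (ih h) (ih' h')
      | smul r x h ih =>
        have : frac I (f i) (r • x) hx = algebraMap A B r * frac I (f i) x h := Subtype.ext (by
          rw [MulMemClass.coe_mul, Subalgebra.coe_algebraMap, coe_frac, coe_frac, smul_eq_mul,
            IsLocalization.mk'_eq_mul_mk'_one (x := r * x), map_mul, mul_assoc,
            ← IsLocalization.mk'_eq_mul_mk'_one])
        rw [this]; exact mul_mem ⟨C r, eval₂_C _ _ _⟩ (ih h)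
    rintro ⟨q, hq⟩
    induction hq using Algebra.adjoin_induction with
    | mem q hq =>
      obtain ⟨x, hx, rfl⟩ := hq
      exact hfr x hx
    | algebraMap r => exact ⟨C r, eval₂_C _ _ _⟩
    | add q q' hq hq' h h' => exact add_mem h h'
    | mul q q' hq hq' h h' => exact mul_mem h h'
  have h1 : (C : A ⧸ I →+* MvPolynomial {j : Fin c // j ≠ i} (A ⧸ I)).Smooth :=
    RingHom.smooth_algebraMap.2 ⟨inferInstance, inferInstance⟩
  rw [show Algebra.TensorProduct.includeRight.toRingHom = Φ.comp C from hC.symm]
  exact h1.comp (RingHom.Smooth.of_bijective ⟨hinj, hsurj⟩)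

end Groth.Agf.BlowUpRegular
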