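import Groth.Prelude.Def_SGA3y
import Mathlib

/-! Connected cocommutative bialgebras in characteristic zero are enveloping algebras
(Cartier–Milnor–Moore), by convolution with a projection to the primitive elements. -/

set_option autoImplicit false
universe u
open TensorProduct Coalgebra WithConv
attribute [local instance] LieRing.ofAssociativeRing

namespace Groth.Agf.CMM

variable {k H : Type u} [Field k] [Ring H] [Bialgebra k H]

local notation "Rd" => WithConv (H →ₗ[k] k)

/-- A tensor whose slices are all killed by `g` is killed by `id ⊗ g`. -/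
theorem lTensor_eq_zero {M N P : Type u} [AddCommGroup M] [Module k M] [AddCommGroup N] [Module k N]
    [AddCommGroup P] [Module k P] (g : N →ₗ[k] P) (z : M ⊗[k] N)
    (h : ∀ φ : M →ₗ[k] k, g (TensorProduct.lid k N (φ.rTensor N z)) = 0) : g.lTensor M z = 0 := by
  classical
  let b := Module.Free.chooseBasis k M
  have key : ∀ (w : M ⊗[k] N) i, (TensorProduct.equivFinsuppOfBasisLeft b) (g.lTensor M w) i =
      g (TensorProduct.lid k N ((b.coord i).rTensor N w)) := by
    intro w i
    induction w using TensorProduct.induction_on with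
    | zero => simp
    | tmul m n => simp
    | add x y hx hy => simp [hx, hy]
  apply (TensorProduct.equivFinsuppOfBasisLeft (N := P) b).injective
  ext i
  rw [key, h, map_zero, Finsupp.zero_apply]

/-- A tensor all of whose evaluations vanish is zero. -/
theorem eq_zero_of_slices {M N : Type u} [AddCommGroup M] [Module k M] [AddCommGroup N] [Module k N]
    (z : M ⊗[k] N) (h : ∀ φ : M →ₗ[k] k, TensorProduct.lid k N (φ.rTensor N z) = 0) : z = 0 := by
  simpa using lTensor_eq_zero LinearMap.id z h

/-- The slice operator of a functional. -/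
noncomputable def L (φ : Rd) : H →ₗ[k] H :=
  (TensorProduct.lid k H).toLinearMap ∘ₗ φ.ofConv.rTensor H ∘ₗ comul

theorem L_apply (φ : Rd) (x : H) :
    L φ x = TensorProduct.lid k H (φ.ofConv.rTensor H (comul x)) := rfl

theorem apply_L (φ ψ : Rd) (x : H) : ψ.ofConv (L φ x) = (φ * ψ).ofConv x := by
  change _ = LinearMap.mul' k k (TensorProduct.map φ.ofConv ψ.ofConv (comul x))
  rw [L_apply]
  generalize comul (R := k) x = z
  induction z using TensorProduct.induction_on with
  | zero => simp
  | tmul a b => simp
  | add a b ha hb => simp [ha, hb]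

theorem L_one_apply (φ : Rd) : L φ (1 : H) = φ.ofConv 1 • (1 : H) := by
  rw [L_apply, Bialgebra.comul_one, Algebra.TensorProduct.one_def]
  simp

theorem comul_L (φ : Rd) (x : H) : comul (L φ x) = (L φ).rTensor H (comul x) := by
  let Ψ : H ⊗[k] (H ⊗[k] H) →ₗ[k] H ⊗[k] H :=
    (TensorProduct.lid k _).toLinearMap ∘ₗ φ.ofConv.rTensor _
  have h1 : ∀ z : H ⊗[k] H, comul (TensorProduct.lid k H (φ.ofConv.rTensor H z)) =
      Ψ ((comul (R := k) (A := H)).lTensor H z) := by
    intro z
    induction z using TensorProduct.induction_on with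
    | zero => simp
    | tmul a b => simp [Ψ]
    | add a b ha hb => simp only [map_add, ha, hb]
  have h2 : ∀ z : H ⊗[k] H, (L φ).rTensor H z =
      Ψ (TensorProduct.assoc k H H H ((comul (R := k) (A := H)).rTensor H z)) := by
    intro z
    induction z using TensorProduct.induction_on with
    | zero => simp
    | tmul a b =>
      simp only [LinearMap.rTensor_tmul, L_apply]
      generalize comul (R := k) a = w
      induction w using TensorProduct.induction_on with
      | zero => simp
      | tmul c d => simp [Ψ, smul_tmul']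
      | add c d hc hd => simp only [map_add, TensorProduct.add_tmul, hc, hd]
    | add a b ha hb => simp only [map_add, ha, hb]
  rw [h2, Coalgebra.coassoc_apply, L_apply, h1]

theorem L_mul (φ ψ : Rd) (x : H) : L ψ (L φ x) = L (φ * ψ) x := by
  rw [L_apply ψ, comul_L, L_apply (φ * ψ)]
  generalize comul (R := k) x = z
  induction z using TensorProduct.induction_on with
  | zero => simp
  | tmul a b => simp [apply_L]
  | add a b ha hb => simp only [map_add, ha, hb]

theorem L_one (x : H) : L (1 : Rd) x = x := by
  rw [L_apply, show ((1 : Rd).ofConv : H →ₗ[k] k) = counit from LinearMap.ext fun _ => rfl,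
    rTensor_counit_comul]
  simp

variable [Coalgebra.IsCocomm k H]

/-- Functionals act on `H` by slices. -/
noncomputable def act : Rd →+* Module.End k H where
  toFun := L
  map_one' := LinearMap.ext L_one
  map_mul' φ ψ := LinearMap.ext fun x => by rw [mul_comm φ ψ]; exact (L_mul ψ φ x).symm
  map_zero' := LinearMap.ext fun x => by simp [L_apply]
  map_add' φ ψ := LinearMap.ext fun x => by simp [L_apply, LinearMap.rTensor_add]

/-- Evaluation at `1`. -/
noncomputable def ev1 : Rd →+* k where
  toFun φ := φ.ofConv 1
  map_one' := by simp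
  map_mul' φ ψ := by
    rw [LinearMap.convMul_apply, Bialgebra.comul_one, Algebra.TensorProduct.one_def]; simp
  map_zero' := rfl
  map_add' _ _ := rfl

variable (k H) in
/-- Functionals vanishing at `1`. -/
noncomputable def aug : Ideal Rd := RingHom.ker (ev1 : Rd →+* k)

theorem mem_aug {φ : Rd} : φ ∈ aug k H ↔ φ.ofConv 1 = 0 := RingHom.mem_ker

variable (k H) in
/-- `dg n`: the elements killed by the products of `n` functionals vanishing at `1`. -/
noncomputable def dg (n : ℕ) : Submodule k H where
  carrier := {h | ∀ ψ ∈ (aug k H) ^ n, ψ.ofConv h = 0}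
  add_mem' ha hb ψ hψ := by rw [map_add, ha ψ hψ, hb ψ hψ, add_zero]
  zero_mem' ψ _ := map_zero _
  smul_mem' c x hx ψ hψ := by rw [map_smul, hx ψ hψ, smul_zero]

theorem mem_dg {n : ℕ} {h : H} : h ∈ dg k H n ↔ ∀ ψ ∈ (aug k H) ^ n, ψ.ofConv h = 0 := Iff.rfl

theorem mul_mem_pow_succ {n : ℕ} {φ ψ : Rd} (hψ : ψ ∈ (aug k H) ^ n) (hφ : φ ∈ aug k H) :
    ψ * φ ∈ (aug k H) ^ (n + 1) :=
  (pow_succ (M := Ideal Rd) (aug k H) n).symm ▸ Ideal.mul_mem_mul hψ hφ

theorem pow_succ_le (n : ℕ) : (aug k H) ^ (n + 1) ≤ (aug k H) * (aug k H) ^ n :=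
  (pow_succ' (M := Ideal Rd) (aug k H) n).le

theorem L_mem_dg {n : ℕ} {h : H} (hh : h ∈ dg k H (n + 1)) {φ : Rd} (hφ : φ ∈ aug k H) :
    L φ h ∈ dg k H n := fun ψ hψ => by
  rw [apply_L, mul_comm]
  exact hh _ (mul_mem_pow_succ hψ hφ)

/-- Connectedness makes the slice action locally nilpotent. -/
theorem exists_mem_dg (hconn : SGA3y.IsConnectedCoalg k H) (h : H) : ∃ n, h ∈ dg k H n := by
  classical
  letI : Module Rd H := Module.compHom H (act (k := k) (H := H))
  have hsmul : ∀ (φ : Rd) (x : H), φ • x = L φ x := fun _ _ => rfl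
  have : IsScalarTower k Rd H := IsScalarTower.of_algebraMap_smul fun c x => by
    rw [hsmul, L_apply,
      show ((algebraMap k Rd c).ofConv : H →ₗ[k] k) = c • counit from LinearMap.ext fun _ => rfl,
      LinearMap.rTensor_smul, LinearMap.smul_apply, rTensor_counit_comul]
    simp
  set C : Submodule Rd H := Submodule.span Rd {h} with hC
  have : FiniteDimensional k C := by
    obtain ⟨s, hs⟩ := TensorProduct.exists_finset (comul (R := k) h)
    let V := Submodule.span k (Set.range fun i : s => i.1.2)
    have hV : C.restrictScalars k ≤ V := by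
      intro x hx
      obtain ⟨φ, rfl⟩ := Submodule.mem_span_singleton.1 hx
      rw [hsmul, L_apply, hs, map_sum, map_sum]
      exact Submodule.sum_mem _ fun i hi => by
        rw [LinearMap.rTensor_tmul, TensorProduct.lid_tmul]
        exact Submodule.smul_mem _ _ (Submodule.subset_span ⟨⟨i, hi⟩, rfl⟩)
    have : FiniteDimensional k V := FiniteDimensional.span_of_finite k (Set.finite_range _)
    exact Submodule.finiteDimensional_of_le hV
  have : Module.Finite k (C.restrictScalars k) := ‹FiniteDimensional k C›
  have : IsArtinian k C := (inferInstance : IsArtinian k (C.restrictScalars k))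
  have : IsArtinian Rd C := isArtinian_of_tower k ‹_›
  have : Module.Finite Rd C := Module.Finite.of_restrictScalars_finite k Rd C
  let J : ℕ →o (Submodule Rd C)ᵒᵈ := ⟨fun n => OrderDual.toDual ((aug k H) ^ n • ⊤), fun m n hmn =>
    Submodule.smul_mono_left (Ideal.pow_le_pow_right hmn)⟩
  obtain ⟨N, hN⟩ := IsArtinian.monotone_stabilizes J
  set E : Submodule Rd C := (aug k H) ^ N • ⊤ with hE
  have hEle : E ≤ aug k H • E := by
    rw [hE, ← Submodule.mul_smul]
    exact (OrderDual.toDual.injective (hN (N + 1) N.le_succ)).le.trans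
      (Submodule.smul_mono_left (pow_succ_le N))
  have hfg : E.FG := by
    have : IsNoetherian k C := (inferInstance : IsNoetherian k (C.restrictScalars k))
    have : IsNoetherian Rd C := isNoetherian_of_tower k ‹_›
    exact IsNoetherian.noetherian E
  obtain ⟨r, hr, hrE⟩ := @Submodule.exists_sub_one_mem_and_smul_eq_zero_of_fg_of_le_smul Rd _ C _ _ (aug k H) E hfg hEle
  have hEbot : E = ⊥ := by
    by_contra hne
    set D : Submodule k H := (E.map C.subtype).restrictScalars k
    have h1 : (1 : H) ∈ D := by
      refine hconn D (fun d hd => ?_) ?_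
      · obtain ⟨p, hp⟩ := D.subtype.exists_leftInverse_of_injective (Submodule.ker_subtype D)
        set q : H →ₗ[k] H := D.subtype ∘ₗ p
        have hq : ∀ x ∈ D, q x = x := fun x hx => congrArg Subtype.val (LinearMap.congr_fun hp ⟨x, hx⟩)
        have hl : q.lTensor H (comul d) = comul d := by
          refine sub_eq_zero.1 ?_
          have := lTensor_eq_zero (q - LinearMap.id) (comul (R := k) d) fun φ => by
            rw [← L_apply (toConv φ), LinearMap.sub_apply, LinearMap.id_apply, sub_eq_zero]
            exact hq _ ((E.map C.subtype).smul_mem (toConv φ) hd)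
          simpa [LinearMap.lTensor_sub] using this
        have hr' : q.rTensor H (comul d) = comul d := by
          have := congrArg (TensorProduct.comm k H H) hl
          rw [Coalgebra.comm_comul] at this
          refine Eq.trans ?_ this
          conv_lhs => rw [← Coalgebra.comm_comul (R := k) d]
          generalize comul (R := k) d = z
          induction z using TensorProduct.induction_on with
          | zero => simp
          | tmul a b => simp
          | add a b ha hb => simp only [map_add, ha, hb]
        refine ⟨TensorProduct.map p p (comul d), ?_⟩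
        rw [← LinearMap.comp_apply, ← TensorProduct.map_comp]
        change TensorProduct.map q q (comul d) = _
        rw [← LinearMap.lTensor_comp_rTensor, LinearMap.comp_apply, hr', hl]
      · intro hD
        refine hne ((Submodule.eq_bot_iff _).2 fun x hx => Subtype.ext ?_)
        exact (Submodule.eq_bot_iff _).1 hD x (Submodule.mem_map_of_mem hx)
    obtain ⟨y, hy, hy1⟩ := h1
    have h0 : r • (1 : H) = 0 := by
      rw [← hy1, Submodule.subtype_apply, ← Submodule.coe_smul, hrE y hy, Submodule.coe_zero]
    rw [hsmul, L_one_apply] at h0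
    have hr1 : r.ofConv 1 = 1 := by
      have := mem_aug.1 hr
      rwa [WithConv.ofConv_sub, LinearMap.sub_apply, sub_eq_zero, show ((1 : Rd).ofConv 1) = 1 by simp] at this
    rw [hr1, one_smul] at h0
    have := congrArg (counit (R := k)) h0
    simp at this
  refine ⟨N, fun ψ hψ => ?_⟩
  have hmem : (⟨h, Submodule.mem_span_singleton_self h⟩ : C) ∈ (⊤ : Submodule Rd C) := trivial
  have hz := (Submodule.eq_bot_iff _).1 hEbot _ (Submodule.smul_mem_smul hψ hmem)
  have hz' : L ψ h = 0 := congrArg Subtype.val hz
  have := apply_L ψ 1 h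
  rwa [mul_one, hz', map_zero, eq_comm] at this

/-- The projection killing `1`. -/
noncomputable def q : H →ₗ[k] H := LinearMap.id - (Algebra.linearMap k H) ∘ₗ counit

theorem q_apply (x : H) : q (k := k) x = x - counit (R := k) x • (1 : H) := by
  simp [q, Algebra.smul_def]

theorem apply_q {φ : Rd} (hφ : φ ∈ aug k H) (x : H) : φ.ofConv (q (k := k) x) = φ.ofConv x := by
  rw [q_apply, map_sub, map_smul, mem_aug.1 hφ, smul_zero, sub_zero]

theorem q_one : q (k := k) (1 : H) = 0 := by simp [q_apply]

theorem counit_q (x : H) : counit (R := k) (q (k := k) x) = 0 := by simp [q_apply]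

/-- The elements of degree at most one have primitive reduction. -/
theorem q_mem_primLie {y : H} (hy : y ∈ dg k H 2) : q (k := k) y ∈ SGA3y.primLie k H := by
  set y' := q (k := k) y with hy'
  have hy2 : y' ∈ dg k H 2 := by
    intro ψ hψ
    rw [hy', apply_q (Ideal.pow_le_self two_ne_zero hψ)]
    exact hy ψ hψ
  change comul (R := k) y' = y' ⊗ₜ[k] (1 : H) + (1 : H) ⊗ₜ[k] y'
  rw [← sub_eq_zero]
  refine eq_zero_of_slices _ fun φ => ?_
  refine (Module.forall_dual_apply_eq_zero_iff k _).1 fun ψ => ?_
  simp only [map_sub, map_add, LinearMap.rTensor_tmul, TensorProduct.lid_tmul, map_smul]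
  rw [← L_apply (toConv φ), show ψ (L (toConv φ) y') = _ from apply_L (toConv φ) (toConv ψ) y']
  set φ' : Rd := toConv φ - φ 1 • 1
  set ψ' : Rd := toConv ψ - ψ 1 • 1
  have h0 : (φ' * ψ').ofConv y' = 0 := hy2 _ (by
    exact (pow_two (M := Ideal Rd) (aug k H)).symm ▸ Ideal.mul_mem_mul (mem_aug.2 (by simp [φ'])) (mem_aug.2 (by simp [ψ'])))
  have hε : (1 : Rd).ofConv y' = 0 := counit_q y
  simp only [φ', ψ', sub_mul, mul_sub, smul_mul_assoc, mul_smul_comm, one_mul, mul_one,
    WithConv.ofConv_sub, WithConv.ofConv_smul, LinearMap.sub_apply, LinearMap.smul_apply, hε,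
    WithConv.ofConv_toConv, smul_eq_mul] at h0
  simp only [smul_eq_mul]
  linear_combination h0

variable (k H) in
/-- A linear projection onto the primitive elements. -/
noncomputable def proj : H →ₗ[k] SGA3y.primLie k H :=
  Classical.choose ((SGA3y.primLie k H).toSubmodule.subtype.exists_leftInverse_of_injective
    (Submodule.ker_subtype _))

theorem proj_coe (x : SGA3y.primLie k H) : proj k H (x : H) = x :=
  LinearMap.congr_fun (Classical.choose_spec ((SGA3y.primLie k H).toSubmodule.subtype.exists_leftInverse_of_injective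
    (Submodule.ker_subtype _))) x

theorem counit_prim (x : SGA3y.primLie k H) : counit (R := k) (x : H) = 0 := by
  have h : comul (R := k) (x : H) = (x : H) ⊗ₜ[k] (1 : H) + (1 : H) ⊗ₜ[k] (x : H) := x.2
  have h' := congrArg (fun z => TensorProduct.lid k k (TensorProduct.map (counit (R := k)) counit z)) h
  have hc : TensorProduct.lid k k (TensorProduct.map (counit (R := k) (A := H)) counit (comul (x : H))) =
      counit (x : H) := by
    rw [← LinearMap.lTensor_comp_rTensor, LinearMap.comp_apply, rTensor_counit_comul]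
    simp
  simp only [hc, map_add, TensorProduct.map_tmul, Bialgebra.counit_one, TensorProduct.lid_tmul,
    smul_eq_mul, mul_one, one_mul] at h'
  linear_combination -h'

local notation "Ue" => UniversalEnvelopingAlgebra k (SGA3y.primLie k H)
local notation "ιU" => UniversalEnvelopingAlgebra.ι k (L := SGA3y.primLie k H)
set_option quotPrecheck false in
local notation "Fl" => UniversalEnvelopingAlgebra.lift k (SGA3y.primLie k H).incl

/-- Projection to the primitive elements, in the enveloping algebra. -/
noncomputable def eU : WithConv (H →ₗ[k] Ue) :=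
  toConv ((ιU).toLinearMap ∘ₗ proj k H ∘ₗ q)

/-- The same with values in `H`. -/
noncomputable def eH : WithConv (H →ₗ[k] H) :=
  toConv ((Fl).toLinearMap ∘ₗ (eU (k := k) (H := H)).ofConv)

theorem eU_one : (eU (k := k) (H := H)).ofConv 1 = 0 := by simp [eU, q_one]

theorem eU_prim (x : SGA3y.primLie k H) : (eU (k := k) (H := H)).ofConv (x : H) = ιU x := by
  simp [eU, q_apply, counit_prim, proj_coe]

theorem eH_apply (y : H) : (eH (k := k) (H := H)).ofConv y = proj k H (q (k := k) y) := by
  simp [eH, eU]

theorem eH_of_mem {y : H} (hy : y ∈ dg k H 2) : (eH (k := k) (H := H)).ofConv y = q (k := k) y := by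
  rw [eH_apply]
  exact congrArg Subtype.val (proj_coe ⟨_, q_mem_primLie hy⟩)

theorem eH_mem (y : H) : (eH (k := k) (H := H)).ofConv y ∈ SGA3y.primLie k H := by
  rw [eH_apply]; exact (proj k H _).2

theorem eH_pow (n : ℕ) (h : H) : ((eH (k := k) (H := H)) ^ n).ofConv h = Fl ((eU ^ n).ofConv h) := by
  induction n generalizing h with
  | zero => simp
  | succ n ih =>
    rw [pow_succ', pow_succ']
    have := LinearMap.congr_fun (LinearMap.algHom_comp_convMul_distrib (Fl) (eU (k := k) (H := H)) (eU ^ n)) h
    refine Eq.trans ?_ this.symm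
    rw [show toConv ((Fl).toLinearMap.comp ((eU (k := k) (H := H)) ^ n).ofConv) = eH ^ n from
      WithConv.ofConv_injective (LinearMap.ext fun y => (ih y).symm)]
    rfl

/-- Composition of a functional with a power of the projection. -/
noncomputable def K (n : ℕ) (φ : Rd) : Rd := toConv (φ.ofConv ∘ₗ ((eH (k := k) (H := H)) ^ n).ofConv)

theorem K_mul (n : ℕ) (φ ψ : Rd) :
    K n (φ * ψ) = ∑ j ∈ Finset.range (n + 1), n.choose j • (K j φ * K (n - j) ψ) := by
  let Δ : H →ₐ[k] H ⊗[k] H := Bialgebra.comulAlgHom k H
  let il : H →ₐ[k] H ⊗[k] H := Algebra.TensorProduct.includeLeft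
  let ir : H →ₐ[k] H ⊗[k] H := Algebra.TensorProduct.includeRight
  let post : (H →ₐ[k] H ⊗[k] H) → (WithConv (H →ₗ[k] H) →+* WithConv (H →ₗ[k] H ⊗[k] H)) := fun h =>
    { toFun := fun f => toConv (h.toLinearMap ∘ₗ f.ofConv)
      map_one' := WithConv.ofConv_injective (LinearMap.ext fun x => by simp)
      map_mul' := fun f g => WithConv.ofConv_injective (LinearMap.algHom_comp_convMul_distrib h f g)
      map_zero' := WithConv.ofConv_injective (LinearMap.comp_zero _)
      map_add' := fun f g => WithConv.ofConv_injective (LinearMap.comp_add _ _ _) }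
  have hlr : ∀ a b : WithConv (H →ₗ[k] H),
      (post il a * post ir b).ofConv = TensorProduct.map a.ofConv b.ofConv ∘ₗ comul := by
    intro a b
    refine LinearMap.ext fun x => ?_
    rw [LinearMap.convMul_apply, LinearMap.comp_apply]
    generalize comul (R := k) x = z
    induction z using TensorProduct.induction_on with
    | zero => simp
    | tmul c d => simp [post, il, ir]
    | add c d hc hd => simp only [map_add, hc, hd]
  have hrl : ∀ a b : WithConv (H →ₗ[k] H), Commute (post il a) (post ir b) := by
    intro a b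
    refine WithConv.ofConv_injective (LinearMap.ext fun x => ?_)
    rw [hlr, LinearMap.convMul_apply, LinearMap.comp_apply]
    conv_rhs => rw [← Coalgebra.comm_comul (R := k) x]
    generalize comul (R := k) x = z
    induction z using TensorProduct.induction_on with
    | zero => simp
    | tmul c d => simp [post, il, ir]
    | add c d hc hd => simp only [map_add, hc, hd]
  have he : post Δ eH = post il eH + post ir eH := by
    refine WithConv.ofConv_injective (LinearMap.ext fun x => ?_)
    have h : comul (R := k) ((eH (k := k) (H := H)).ofConv x) =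
        (eH (k := k) (H := H)).ofConv x ⊗ₜ[k] (1 : H) + (1 : H) ⊗ₜ[k] (eH (k := k) (H := H)).ofConv x := eH_mem x
    simpa [post, Δ, il, ir] using h
  have hn : post Δ (eH ^ n) =
      ∑ j ∈ Finset.range (n + 1), post il (eH ^ j) * post ir (eH ^ (n - j)) * (n.choose j : WithConv (H →ₗ[k] H ⊗[k] H)) := by
    rw [map_pow, he, (hrl eH eH).add_pow]
    simp only [map_pow]
  refine WithConv.ofConv_injective (LinearMap.ext fun x => ?_)
  have hx := congrArg (fun f : WithConv (H →ₗ[k] H ⊗[k] H) =>
    LinearMap.mul' k k (TensorProduct.map φ.ofConv ψ.ofConv (f.ofConv x))) hn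
  refine (show (K n (φ * ψ)).ofConv x = _ from ?_).trans (hx.trans ?_)
  · simp [K, post, Δ, LinearMap.convMul_apply]
  · simp only [WithConv.ofConv_sum, LinearMap.sum_apply, map_sum, ← nsmul_eq_mul', WithConv.ofConv_smul,
      LinearMap.smul_apply, map_nsmul, hlr, LinearMap.comp_apply, K, LinearMap.convMul_apply,
      WithConv.ofConv_toConv]
    refine Finset.sum_congr rfl fun j _ => ?_
    rw [TensorProduct.map_comp, LinearMap.comp_apply]

theorem K_zero {φ : Rd} (hφ : φ ∈ aug k H) : K 0 φ = 0 := by
  refine WithConv.ofConv_injective (LinearMap.ext fun x => ?_)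
  simp [K, Algebra.algebraMap_eq_smul_one, mem_aug.1 hφ]

theorem K_one_mem (φ : Rd) : K 1 φ ∈ aug k H :=
  mem_aug.2 (by simp [K, eH, eU_one])

theorem K_eq_zero : ∀ (n : ℕ) {ψ : Rd}, ψ ∈ (aug k H) ^ n → ∀ j < n, K j ψ = 0 := by
  intro n
  induction n with
  | zero => intro ψ _ j hj; omega
  | succ n ih =>
    intro ψ hψ j hj
    replace hψ := pow_succ_le n hψ
    refine Submodule.mul_induction_on hψ (fun φ hφ χ hχ => ?_) (fun a b ha hb => ?_)
    · rw [K_mul]
      refine Finset.sum_eq_zero fun i hi => ?_
      rcases Nat.eq_zero_or_pos i with rfl | hpos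
      · rw [K_zero hφ, zero_mul, smul_zero]
      · rw [ih hχ (j - i) (by have := Finset.mem_range.1 hi; omega), mul_zero, smul_zero]
    · refine WithConv.ofConv_injective (LinearMap.ext fun x => ?_)
      have ha' := congrArg (fun f : Rd => f.ofConv x) ha
      have hb' := congrArg (fun f : Rd => f.ofConv x) hb
      simp [K] at ha' hb' ⊢
      rw [ha', hb', add_zero]

/-- On elements of degree `≤ n`, the `n`-th power of the projection is `n!` times the identity modulo
lower degree. -/
theorem apply_K : ∀ (n : ℕ) {ψ : Rd}, ψ ∈ (aug k H) ^ n → ∀ h ∈ dg k H (n + 1),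
    (K n ψ).ofConv h = n.factorial * ψ.ofConv h := by
  intro n
  induction n with
  | zero =>
    intro ψ _ h hh
    have h0 := hh (ψ - ψ.ofConv 1 • 1) ((pow_one (M := Ideal Rd) (aug k H)).symm ▸ mem_aug.2 (by simp))
    simp only [WithConv.ofConv_sub, WithConv.ofConv_smul, LinearMap.sub_apply, LinearMap.smul_apply,
      smul_eq_mul, LinearMap.convOne_apply, Algebra.algebraMap_self, RingHom.id_apply, sub_eq_zero] at h0
    simp [K, h0, Algebra.algebraMap_eq_smul_one, mul_comm]
  | succ n ih =>
    intro ψ hψ h hh
    replace hψ := pow_succ_le n hψ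
    refine Submodule.mul_induction_on hψ (fun φ hφ χ hχ => ?_) (fun a b ha hb => ?_)
    · have hsum : K (n + 1) (φ * χ) = (n + 1) • (K 1 φ * K n χ) := by
        rw [K_mul, Finset.sum_eq_single 1]
        · simp
        · intro i hi hne
          rcases Nat.eq_zero_or_pos i with rfl | hpos
          · rw [K_zero hφ, zero_mul, smul_zero]
          · rw [K_eq_zero n hχ (n + 1 - i) (by have := Finset.mem_range.1 hi; omega), mul_zero, smul_zero]
        · intro h1; exact absurd (Finset.mem_range.2 (by omega)) h1
      have hstep : (K 1 φ * χ).ofConv h = (φ * χ).ofConv h := by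
        rw [mul_comm (K 1 φ), mul_comm φ, ← apply_L, ← apply_L]
        have hy : L χ h ∈ dg k H 2 := fun ω hω => by
          rw [apply_L]
          exact hh _ ((pow_add (M := Ideal Rd) (aug k H) n 2).symm ▸ Ideal.mul_mem_mul hχ hω)
        simp only [K, pow_one, WithConv.ofConv_toConv, LinearMap.comp_apply, eH_of_mem hy, apply_q hφ]
      rw [hsum, WithConv.ofConv_smul, LinearMap.smul_apply, ← apply_L,
        ih hχ _ (L_mem_dg hh (K_one_mem φ)), apply_L, hstep, Nat.factorial_succ]
      simp [mul_assoc]
    · simp only [K, WithConv.ofConv_toConv, LinearMap.comp_apply, WithConv.ofConv_add, LinearMap.add_apply] at ha hb ⊢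
      rw [ha, hb, mul_add]

variable [CharZero k]

theorem surjective_lift (hconn : SGA3y.IsConnectedCoalg k H) : Function.Surjective Fl := by
  suffices h : ∀ (n : ℕ) (x : H), x ∈ dg k H n → x ∈ (Fl).range from fun x => by
    obtain ⟨n, hn⟩ := exists_mem_dg hconn x
    exact (AlgHom.mem_range _).1 (h n x hn)
  intro n
  induction n with
  | zero =>
    intro x hx
    rw [(Module.forall_dual_apply_eq_zero_iff k x).1 fun φ =>
      hx (toConv φ) ((pow_zero (M := Ideal Rd) (aug k H)).trans Ideal.one_eq_top ▸ Submodule.mem_top)]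
    exact zero_mem _
  | succ n ih =>
    intro x hx
    set c : k := (n.factorial : k)⁻¹
    have hy : x - c • ((eH (k := k) (H := H)) ^ n).ofConv x ∈ dg k H n := fun ψ hψ => by
      have := apply_K n hψ x hx
      simp only [K, WithConv.ofConv_toConv, LinearMap.comp_apply] at this
      rw [map_sub, map_smul, this, smul_eq_mul, ← mul_assoc,
        inv_mul_cancel₀ (Nat.cast_ne_zero.2 n.factorial_ne_zero), one_mul, sub_self]
    have := add_mem (ih _ hy) (Subalgebra.smul_mem _ ((AlgHom.mem_range _).2 ⟨(eU ^ n).ofConv x, (eH_pow n x).symm⟩) c)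
    rwa [sub_add_cancel] at this

/-- The span of the powers `x ^ m`, `m ≤ n`, of the generators. -/
noncomputable def S (n : ℕ) : Submodule k Ue :=
  Submodule.span k {u | ∃ (x : SGA3y.primLie k H) (m : ℕ), m ≤ n ∧ ιU x ^ m = u}

theorem pow_mem_S {x : SGA3y.primLie k H} {m n : ℕ} (h : m ≤ n) : ιU x ^ m ∈ S (k := k) (H := H) n :=
  Submodule.subset_span ⟨x, m, h, rfl⟩

theorem S_mono {m n : ℕ} (h : m ≤ n) : S (k := k) (H := H) m ≤ S n :=
  Submodule.span_mono fun _ ⟨x, j, hj, e⟩ => ⟨x, j, hj.trans h, e⟩

open Polynomial in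
/-- The derivative of `x ^ m` in the direction `y` lies in `S m`. -/
theorem sum_mem_S (x y : SGA3y.primLie k H) (n : ℕ) :
    (∑ a ∈ Finset.range (n + 1), ιU x ^ a * ιU y * ιU x ^ (n - a)) ∈ S (k := k) (H := H) (n + 1) := by
  let p : ℕ → Ue[X] := fun m => (C (ιU x) + X * C (ιU y)) ^ m
  have h0 : ∀ m, (p m).coeff 0 = ιU x ^ m := by
    intro m
    induction m with
    | zero => simp [p]
    | succ m ih => simp [p, pow_succ] at ih ⊢; rw [ih]
  have h1 : ∀ m, (p m).coeff 1 = ∑ a ∈ Finset.range m, ιU x ^ a * ιU y * ιU x ^ (m - 1 - a) := by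
    intro m
    induction m with
    | zero => simp [p, coeff_one]
    | succ m ih =>
      have : p (m + 1) = p m * C (ιU x) + p m * C (ιU y) * X := by
        simp only [p, pow_succ, mul_add]
        rw [X_mul, ← mul_assoc]
      rw [this, coeff_add, coeff_mul_C, coeff_mul_X, coeff_mul_C, ih, h0, Finset.sum_range_succ,
        Finset.sum_mul]
      simp only [add_tsub_cancel_right, tsub_self, pow_zero, mul_one]
      refine congrArg₂ _ (Finset.sum_congr rfl fun a ha => ?_) rfl
      rw [mul_assoc _ _ (ιU x), ← pow_succ, show m - 1 - a + 1 = m - a by have := Finset.mem_range.1 ha; omega]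
  have hev : ∀ t : k, (p (n + 1)).eval (algebraMap k Ue t) ∈ S (k := k) (H := H) (n + 1) := by
    intro t
    have : (p (n + 1)).eval (algebraMap k Ue t) = ιU (x + t • y) ^ (n + 1) := by
      change (eval₂RingHom' (RingHom.id Ue) (algebraMap k Ue t) fun a => (Algebra.commutes t a).symm) (p (n + 1)) = _
      simp only [p, map_pow, map_add, map_mul]
      simp [Algebra.smul_def]
    rw [this]
    exact pow_mem_S le_rfl
  rw [show (∑ a ∈ Finset.range (n + 1), ιU x ^ a * ιU y * ιU x ^ (n - a)) = (p (n + 1)).coeff 1 by
    rw [h1]; simp]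
  set M := (S (k := k) (H := H) (n + 1))
  rw [← Submodule.Quotient.mk_eq_zero]
  refine (Module.forall_dual_apply_eq_zero_iff k _).1 fun l => ?_
  let P : k[X] := ∑ j ∈ Finset.range ((p (n + 1)).natDegree + 2), monomial j (l (M.mkQ ((p (n + 1)).coeff j)))
  have hP : P = 0 := Polynomial.funext fun t => by
    rw [eval_finsetSum, eval_zero]
    have h := congrArg l ((Submodule.Quotient.mk_eq_zero M).2 (hev t))
    rw [map_zero] at h
    rw [← h, eval_eq_sum_range' (n := (p (n + 1)).natDegree + 2) (by omega)]
    rw [← Submodule.mkQ_apply, map_sum, map_sum]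
    refine Finset.sum_congr rfl fun j _ => ?_
    rw [eval_monomial, ← map_pow, ← Algebra.commutes, ← Algebra.smul_def, map_smul, map_smul, smul_eq_mul, mul_comm]
  have := congrArg (fun Q : k[X] => Q.coeff 1) hP
  simpa [P, coeff_monomial] using this

/-- Products of at most `n` generators are sums of powers. -/
theorem prod_mem_S : ∀ (n : ℕ) (l : List (SGA3y.primLie k H)), l.length ≤ n →
    (l.map (ιU)).prod ∈ S (k := k) (H := H) n := by
  intro n
  induction n with
  | zero =>
    intro l hl
    rw [List.length_eq_zero_iff.1 (Nat.le_zero.1 hl)]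
    simpa using pow_mem_S (k := k) (H := H) (x := 0) (le_refl 0)
  | succ n ih =>
    intro l hl
    rcases l with _ | ⟨y, l⟩
    · simpa using pow_mem_S (k := k) (H := H) (x := 0) (Nat.zero_le (n + 1))
    · rw [List.map_cons, List.prod_cons]
      have hl' : l.length ≤ n := Nat.le_of_succ_le_succ hl
      have hw := ih l hl'
      suffices h : S (k := k) (H := H) n ≤ (S (n + 1)).comap (LinearMap.mulLeft k (ιU y)) from h hw
      refine Submodule.span_le.2 ?_
      rintro _ ⟨x, m, hm, rfl⟩
      rw [SetLike.mem_coe, Submodule.mem_comap, LinearMap.mulLeft_apply]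
      rcases hm.lt_or_eq with hlt | rfl
      · have := ih (y :: List.replicate m x) (by simp; omega)
        rw [List.map_cons, List.prod_cons, List.map_replicate, List.prod_replicate] at this
        exact S_mono (Nat.le_succ n) this
      · -- commute `y` past powers of `x`
        have hcomm : ∀ (a b : ℕ), a + b = m → ιU x ^ a * ιU y * ιU x ^ b - ιU y * ιU x ^ m ∈ S (k := k) (H := H) m := by
          intro a
          induction a with
          | zero => intro b hb; simp at hb; subst hb; simp
          | succ a iha =>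
            intro b hb
            have hxy : ιU x * ιU y = ιU y * ιU x + ιU ⁅x, y⁆ := by
              rw [LieHom.map_lie, LieRing.of_associative_ring_bracket]; abel
            have h2 : ιU x ^ (a + 1) * ιU y * ιU x ^ b =
                ιU x ^ a * ιU y * ιU x ^ (b + 1) + ιU x ^ a * ιU ⁅x, y⁆ * ιU x ^ b := by
              rw [pow_succ, mul_assoc (ιU x ^ a) (ιU x), hxy, mul_add, add_mul, pow_succ' (ιU x) b]
              simp only [mul_assoc]
            have hz := ih (List.replicate a x ++ ⁅x, y⁆ :: List.replicate b x) (by simp; omega)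
            rw [List.map_append, List.prod_append, List.map_cons, List.prod_cons, List.map_replicate,
              List.prod_replicate, List.map_replicate, List.prod_replicate, ← mul_assoc] at hz
            rw [h2, add_sub_right_comm]
            exact add_mem (iha (b + 1) (by omega)) hz
        have hsum := sum_mem_S x y m
        have : ((m + 1 : ℕ) : k) • (ιU y * ιU x ^ m) ∈ S (k := k) (H := H) (m + 1) := by
          have h3 : (∑ a ∈ Finset.range (m + 1), (ιU x ^ a * ιU y * ιU x ^ (m - a) - ιU y * ιU x ^ m))
              ∈ S (k := k) (H := H) (m + 1) :=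
            Submodule.sum_mem _ fun a ha => S_mono (Nat.le_succ m)
              (hcomm a (m - a) (by have := Finset.mem_range.1 ha; omega))
          rw [Finset.sum_sub_distrib, Finset.sum_const, Finset.card_range] at h3
          have := sub_mem hsum h3
          rwa [sub_sub_cancel, ← Nat.cast_smul_eq_nsmul k] at this
        exact (Submodule.smul_mem_iff _ (Nat.cast_ne_zero.2 m.succ_ne_zero)).1 this

theorem exists_mem_S (u : Ue) : ∃ n, u ∈ S (k := k) (H := H) n := by
  obtain ⟨t, rfl⟩ : ∃ t, UniversalEnvelopingAlgebra.mkAlgHom k (SGA3y.primLie k H) t = u :=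
    Quot.mk_surjective u
  suffices h : (UniversalEnvelopingAlgebra.mkAlgHom k (SGA3y.primLie k H) t) ∈
      Submodule.span k (Set.range fun l : List (SGA3y.primLie k H) => (l.map (ιU)).prod) by
    refine Submodule.span_induction ?_ ⟨0, zero_mem _⟩ ?_ ?_ h
    · rintro _ ⟨l, rfl⟩; exact ⟨l.length, prod_mem_S _ l le_rfl⟩
    · rintro a b - - ⟨m, hm⟩ ⟨n, hn⟩
      exact ⟨max m n, add_mem (S_mono (le_max_left _ _) hm) (S_mono (le_max_right _ _) hn)⟩
    · rintro c a - ⟨m, hm⟩; exact ⟨m, Submodule.smul_mem _ c hm⟩
  induction t using TensorAlgebra.induction with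
  | algebraMap r =>
    rw [AlgHom.commutes, Algebra.algebraMap_eq_smul_one]
    exact Submodule.smul_mem _ r (Submodule.subset_span ⟨[], rfl⟩)
  | ι x => exact Submodule.subset_span ⟨[x], by simp⟩
  | add a b ha hb => rw [map_add]; exact add_mem ha hb
  | mul a b ha hb =>
    rw [map_mul]
    refine Submodule.span_induction (p := fun z _ => z * _ ∈ _) ?_ (by simp) ?_ ?_ ha
    · rintro _ ⟨l, rfl⟩
      refine Submodule.span_induction (p := fun z _ => _ * z ∈ _) ?_ (by simp) ?_ ?_ hb
      · rintro _ ⟨l', rfl⟩
        exact Submodule.subset_span ⟨l ++ l', by simp⟩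
      · intro c d _ _ hc hd; rw [mul_add]; exact add_mem hc hd
      · intro r c _ hc; rw [mul_smul_comm]; exact Submodule.smul_mem _ r hc
    · intro c d _ _ hc hd; rw [add_mul]; exact add_mem hc hd
    · intro r c _ hc; rw [smul_mul_assoc]; exact Submodule.smul_mem _ r hc

theorem eU_pow (N : ℕ) : ∀ (x : SGA3y.primLie k H) (n : ℕ), n ≤ N →
    ((eU (k := k) (H := H)) ^ N).ofConv ((x : H) ^ n) = if n = N then (N.factorial : k) • ιU x ^ N else 0 := by
  induction N with
  | zero =>
    intro x n hn
    simp [Nat.le_zero.1 hn]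
  | succ N ih =>
    intro x n hn
    have hcom : Commute ((x : H) ⊗ₜ[k] (1 : H)) ((1 : H) ⊗ₜ[k] (x : H)) := by
      simp [Commute, SemiconjBy]
    have hδ : comul (R := k) ((x : H) ^ n) =
        ∑ j ∈ Finset.range (n + 1), n.choose j • (((x : H) ^ j) ⊗ₜ[k] ((x : H) ^ (n - j))) := by
      rw [Bialgebra.comul_pow, show comul (R := k) (x : H) = _ from x.2, hcom.add_pow]
      refine Finset.sum_congr rfl fun j _ => ?_
      rw [Algebra.TensorProduct.tmul_pow, Algebra.TensorProduct.tmul_pow, one_pow, one_pow,
        Algebra.TensorProduct.tmul_mul_tmul, mul_one, one_mul, ← nsmul_eq_mul']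
    rw [pow_succ', LinearMap.convMul_apply, hδ, map_sum, map_sum]
    simp only [map_nsmul, TensorProduct.map_tmul, LinearMap.mul'_apply]
    split_ifs with hnN
    · subst hnN
      rw [Finset.sum_eq_single 1]
      · rw [pow_one, eU_prim, add_tsub_cancel_right, ih x N le_rfl, if_pos rfl, Nat.choose_one_right,
          mul_smul_comm, ← pow_succ', ← Nat.cast_smul_eq_nsmul k, smul_smul, Nat.factorial_succ, Nat.cast_mul]
      · intro j hj hne
        rcases Nat.eq_zero_or_pos j with rfl | hpos
        · simp [eU_one]
        · have := Finset.mem_range.1 hj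
          rw [ih x _ (by omega), if_neg (by omega)]; simp
      · intro h1; exact absurd (Finset.mem_range.2 (by omega)) h1
    · refine Finset.sum_eq_zero fun j hj => ?_
      rcases Nat.eq_zero_or_pos j with rfl | hpos
      · simp [eU_one]
      · have := Finset.mem_range.1 hj
        rw [ih x _ (by omega), if_neg (by omega)]; simp

theorem lift_pow (x : SGA3y.primLie k H) (m : ℕ) : Fl (ιU x ^ m) = (x : H) ^ m := by
  rw [map_pow, UniversalEnvelopingAlgebra.lift_ι_apply]; rfl

theorem eq_zero_of_mem_S : ∀ (n : ℕ) (u : Ue), u ∈ S (k := k) (H := H) n → Fl u = 0 → u = 0 := by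
  intro n
  induction n with
  | zero =>
    intro u hu h0
    obtain ⟨c, rfl⟩ : ∃ c : k, c • (1 : Ue) = u := by
      refine Submodule.mem_span_singleton.1 (Submodule.span_le.2 ?_ hu)
      rintro _ ⟨x, m, hm, rfl⟩
      rw [Nat.le_zero.1 hm, pow_zero]
      exact Submodule.mem_span_singleton_self _
    rw [map_smul, map_one] at h0
    have := congrArg (counit (R := k)) h0
    simp at this
    simp [this]
  | succ n ih =>
    intro u hu h0
    set T : Set Ue := Set.range fun x : SGA3y.primLie k H => ιU x ^ (n + 1)
    have hu' : u ∈ S (k := k) (H := H) n ⊔ Submodule.span k T := by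
      refine Submodule.span_le.2 ?_ hu
      rintro _ ⟨x, m, hm, rfl⟩
      rcases hm.lt_or_eq with hlt | rfl
      · exact Submodule.mem_sup_left (pow_mem_S (Nat.lt_succ_iff.1 hlt))
      · exact Submodule.mem_sup_right (Submodule.subset_span ⟨x, rfl⟩)
    obtain ⟨a, ha, b, hb, rfl⟩ := Submodule.mem_sup.1 hu'
    let Λ : Ue →ₗ[k] Ue := ((eU (k := k) (H := H)) ^ (n + 1)).ofConv ∘ₗ (Fl).toLinearMap
    have h1 : S (k := k) (H := H) n ≤ LinearMap.ker Λ := by
      refine Submodule.span_le.2 ?_
      rintro _ ⟨x, m, hm, rfl⟩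
      simp only [SetLike.mem_coe, LinearMap.mem_ker, Λ, LinearMap.comp_apply, AlgHom.toLinearMap_apply, lift_pow]
      rw [eU_pow _ x m (by omega), if_neg (by omega)]
    have h2 : Submodule.span k T ≤ LinearMap.eqLocus Λ (((n + 1).factorial : k) • LinearMap.id) := by
      refine Submodule.span_le.2 ?_
      rintro _ ⟨x, rfl⟩
      simp only [SetLike.mem_coe, LinearMap.mem_eqLocus, Λ, LinearMap.comp_apply, AlgHom.toLinearMap_apply,
        lift_pow, LinearMap.smul_apply, LinearMap.id_apply]
      rw [eU_pow _ x _ le_rfl, if_pos rfl]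
    have hΛ : Λ (a + b) = 0 := by
      simp [Λ, h0]
    rw [map_add, LinearMap.mem_ker.1 (h1 ha), zero_add,
      show Λ b = ((n + 1).factorial : k) • b from h2 hb,
      smul_eq_zero_iff_right (Nat.cast_ne_zero.2 (n + 1).factorial_ne_zero)] at hΛ
    subst hΛ
    rw [add_zero] at h0 ⊢
    exact ih a ha h0

theorem injective_lift : Function.Injective Fl := by
  rw [injective_iff_map_eq_zero]
  intro u h
  obtain ⟨n, hn⟩ := exists_mem_S u
  exact eq_zero_of_mem_S n u hn h

end Groth.Agf.CMM
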