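import Groth.Agent.Agf.GMod
import Groth.Agent.Agf.SmoothRed
import Mathlib.RingTheory.Noetherian.Basic

/-! Observable subgroups: finiteness and the basic criteria. -/

set_option autoImplicit false
universe u

open CategoryTheory MonoidalCategory CartesianMonoidalCategory MonObj GrpObj AlgebraicGeometry
open scoped TensorProduct

noncomputable section

namespace Groth.Agf

variable {k : Type u} [Field k] {G H : Over (Spec (CommRingCat.of k))} [GrpObj G] [GrpObj H] [IsAffine G.left]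

theorem isAffine_of_closedImm {A B : Over (Spec (CommRingCat.of k))} (i : A ⟶ B) [IsClosedImmersion i.left]
    [IsAffine B.left] : IsAffine A.left :=
  isAffine_of_isAffineHom i.left

theorem fn_isReduced_of_smooth (X : Over (Spec (CommRingCat.of k))) [Smooth X.hom] : IsReduced X.left :=
  isReduced_of_smooth X.hom

theorem tensor_lft (A B : Over (Spec (CommRingCat.of k))) [LocallyOfFiniteType A.hom] [LocallyOfFiniteType B.hom] :
    LocallyOfFiniteType (A ⊗ B).hom := by
  show LocallyOfFiniteType (Limits.pullback.fst A.hom B.hom ≫ A.hom)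
  infer_instance

variable [LocallyOfFiniteType G.hom]

theorem exists_finset_fixes (S : Set (Fn G)) :
    ∃ s : Finset (Fn G), ↑s ⊆ S ∧
      ∀ g : VecGrp.pt k k ⟶ G, (∀ f ∈ s, AGF.IsRTransInv g f) → ∀ f ∈ S, AGF.IsRTransInv g f := by
  classical
  have := tensor_isAffine G G
  have := tensor_lft G G
  have := fn_isNoetherianRing (G ⊗ G)
  let D : Fn G → Fn (G ⊗ G) := fun f => pull μ[G] f - pull (fst G G) f
  have hfg : (Submodule.span (Fn (G ⊗ G)) (D '' S)).FG := IsNoetherian.noetherian _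
  obtain ⟨s, hs, heq⟩ := (Submodule.fg_span_iff_fg_span_finset_subset (D '' S)).1 hfg
  choose pre hpre hpre' using fun d : {d // d ∈ s} => hs d.2
  refine ⟨Finset.univ.image pre, by intro f hf; simp at hf; obtain ⟨d, hd, rfl⟩ := hf; exact hpre _, ?_⟩
  intro g hg f hf
  let Φ := pull (G ◁ g)
  have hk : ∀ f : Fn G, AGF.IsRTransInv g f ↔ Φ (D f) = 0 := by
    intro f
    simp only [D, Φ, map_sub, sub_eq_zero, ← pull_comp]
    have e : (G ◁ g) ≫ fst G G = fst G (VecGrp.pt k k) := by simp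
    rw [e]
    rfl
  rw [hk]
  have hmem : D f ∈ Submodule.span (Fn (G ⊗ G)) (s : Set (Fn (G ⊗ G))) :=
    heq ▸ Submodule.subset_span ⟨f, hf, rfl⟩
  refine Submodule.span_induction ?_ (map_zero _) ?_ ?_ hmem
  · intro d hd
    have := (hk _).1 (hg (pre ⟨d, hd⟩) (Finset.mem_image.2 ⟨⟨d, hd⟩, Finset.mem_univ _, rfl⟩))
    rwa [hpre' ⟨d, hd⟩] at this
  · intro a b _ _ ha hb; rw [map_add, ha, hb, add_zero]
  · intro c a _ ha; rw [smul_eq_mul, map_mul, ha, mul_zero]

theorem exists_finset_agree (S : Set (Fn G)) :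
    ∃ s : Finset (Fn G), ↑s ⊆ S ∧ ∀ g g' : VecGrp.pt k k ⟶ G, (∀ f ∈ s, evalPt g f = evalPt g' f) →
      ∀ f ∈ S, evalPt g f = evalPt g' f := by
  classical
  have := tensor_isAffine G G
  have := tensor_lft G G
  have := fn_isNoetherianRing (G ⊗ G)
  let D : Fn G → Fn (G ⊗ G) := fun f => pull (fst G G) f - pull (snd G G) f
  have hfg : (Submodule.span (Fn (G ⊗ G)) (D '' S)).FG := IsNoetherian.noetherian _
  obtain ⟨s, hs, heq⟩ := (Submodule.fg_span_iff_fg_span_finset_subset (D '' S)).1 hfg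
  choose pre hpre hpre' using fun d : {d // d ∈ s} => hs d.2
  refine ⟨Finset.univ.image pre, by intro f hf; simp at hf; obtain ⟨d, hd, rfl⟩ := hf; exact hpre _, ?_⟩
  intro g g' hg f hf
  have hk : ∀ f : Fn G, evalPt g f = evalPt g' f ↔ evalPt (lift g g') (D f) = 0 := by
    intro f
    simp only [D, map_sub, sub_eq_zero, ← evalPt_comp_apply, lift_fst, lift_snd]
  rw [hk]
  have hmem : D f ∈ Submodule.span (Fn (G ⊗ G)) (s : Set (Fn (G ⊗ G))) :=
    heq ▸ Submodule.subset_span ⟨f, hf, rfl⟩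
  refine Submodule.span_induction ?_ (map_zero _) ?_ ?_ hmem
  · intro d hd
    have := (hk _).1 (hg (pre ⟨d, hd⟩) (Finset.mem_image.2 ⟨⟨d, hd⟩, Finset.mem_univ _, rfl⟩))
    rwa [hpre' ⟨d, hd⟩] at this
  · intro a b _ _ ha hb; rw [map_add, ha, hb, add_zero]
  · intro c a _ ha; rw [smul_eq_mul, map_mul, ha, mul_zero]

/-- The function `y ↦ f (z * y)`. -/
def lTrans (z : VecGrp.pt k k ⟶ G) (f : Fn G) : Fn G := pull ((toUnit G ≫ (toUnit' (k := k)) ≫ z) * 𝟙 G) f
where
  /-- the base as a point -/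
  toUnit' {k : Type u} [Field k] : 𝟙_ (Over (Spec (CommRingCat.of k))) ⟶ VecGrp.pt k k :=
    Over.homMk (𝟙 _) (by
      show 𝟙 _ ≫ Spec.map (CommRingCat.ofHom (algebraMap k k)) = _
      simp [Algebra.algebraMap_self])

omit [LocallyOfFiniteType G.hom] in
theorem evalPt_lTrans {B : Type u} [CommRing B] [Algebra k B] (z : VecGrp.pt k k ⟶ G) (f : Fn G)
    (y : VecGrp.pt k B ⟶ G) : evalPt y (lTrans z f) = evalPt (cst z * y) f := by
  rw [lTrans, ← evalPt_comp_apply, MonObj.comp_mul, Category.comp_id]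
  congr 3
  simp only [← Category.assoc]
  rw [constPt_unique (((y ≫ toUnit G) ≫ lTrans.toUnit') : VecGrp.pt k B ⟶ VecGrp.pt k k)]
  rfl

omit [LocallyOfFiniteType G.hom] in
theorem lTrans_isRTransInv [IsAffine H.left] (i : H ⟶ G) (z : VecGrp.pt k k ⟶ G) {f : Fn G}
    (hf : AGF.IsRTransInv i f) : AGF.IsRTransInv i (lTrans z f) := by
  rw [isRTransInv_iff] at hf ⊢
  intro B _ _ x t
  rw [evalPt_lTrans, evalPt_lTrans, ← _root_.mul_assoc, hf]

omit [LocallyOfFiniteType G.hom] in
theorem cst_self (z : VecGrp.pt k k ⟶ G) : cst z = z := by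
  have : (Algebra.ofId k k : k →ₐ[k] k) = AlgHom.id k k := Subsingleton.elim _ _
  apply pt_ext
  rw [cst, evalPt_ptMap, this, AlgHom.id_comp]

/-- If two rational points agree on all right invariant functions, their quotient fixes all of them. -/
theorem fixes_of_agree [IsAlgClosed k] [IsReduced G.left] [IsAffine H.left] (i : H ⟶ G)
    (g g' : VecGrp.pt k k ⟶ G)
    (h : ∀ f : Fn G, AGF.IsRTransInv i f → evalPt g f = evalPt g' f) :
    ∀ f : Fn G, AGF.IsRTransInv i f → AGF.IsRTransInv (g⁻¹ * g') f := by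
  intro f hf
  have e : pull ((𝟙 G) * (toUnit G ≫ lTrans.toUnit' ≫ (g⁻¹ * g'))) f = f := by
    refine fn_ext_ratPts G fun x => ?_
    rw [← evalPt_comp_apply, MonObj.comp_mul, Category.comp_id]
    have : x ≫ toUnit G ≫ lTrans.toUnit' ≫ (g⁻¹ * g') = g⁻¹ * g' := by
      rw [← Category.assoc, ← Category.assoc, constPt_unique ((x ≫ toUnit G) ≫ lTrans.toUnit')]
      exact cst_self _
    rw [this]
    have h2 := h (lTrans (x * g⁻¹) f) (lTrans_isRTransInv i _ hf)
    rw [evalPt_lTrans, evalPt_lTrans, cst_self, inv_mul_cancel_right] at h2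
    rw [← _root_.mul_assoc, ← h2]
  rw [isRTransInv_ratPt_iff]
  intro B _ _ x
  conv_rhs => rw [← e]
  rw [← evalPt_comp_apply, MonObj.comp_mul, Category.comp_id]
  congr 3
  rw [← Category.assoc, ← Category.assoc, constPt_unique ((x ≫ toUnit G) ≫ lTrans.toUnit')]
  rfl

end Groth.Agf
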