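import Groth.Agent.Agf.GMod
import Groth.Agent.Agf.Observable
import Groth.Agent.Reductive.Points
import Groth.Agent.AlgGrp1.Basic
import Mathlib.LinearAlgebra.Determinant

/-! Characters of affine groups containing a central `𝔾ₘ`: a determinant on a weight space. -/

set_option autoImplicit false
universe u

open CategoryTheory MonoidalCategory CartesianMonoidalCategory MonObj GrpObj AlgebraicGeometry
open scoped TensorProduct

noncomputable section

namespace Groth.Agf

variable {k : Type u} [Field k]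

/-- The coordinate of `𝔾ₘ`. -/
def gmC : Fn (Red.Gm (Spec (CommRingCat.of k))) := Red.gmFn (𝟙 (Red.Gm (Spec (CommRingCat.of k))))

/-- The point of `𝔾ₘ` of a unit. -/
def gmPt {B : Type u} [CommRing B] [Algebra k B] (u : Bˣ) : VecGrp.pt k B ⟶ Red.Gm (Spec (CommRingCat.of k)) :=
  Reductive.gmMk (VecGrp.pt k B)
    (Units.map ((AlgEquiv.ofBijective (ptFn (k := k) B) ptFn_bijective).symm : B →* Fn (VecGrp.pt k B)) u)

theorem gmFn_pull {X Y : Over (Spec (CommRingCat.of k))} (g : X ⟶ Y) (x : Y ⟶ Red.Gm (Spec (CommRingCat.of k))) :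
    Red.gmFn (g ≫ x) = pull g (Red.gmFn x) := Reductive.gmFn_comp g x

theorem evalPt_gmPt {B : Type u} [CommRing B] [Algebra k B] (u : Bˣ) : evalPt (gmPt (k := k) u) gmC = u := by
  rw [gmC, evalPt_apply, ← gmFn_pull, Category.comp_id, gmPt, Reductive.gmFn_gmMk]
  exact AlgEquiv.apply_symm_apply (AlgEquiv.ofBijective (ptFn (k := k) B) ptFn_bijective) (u : B)

theorem isUnit_gmC : IsUnit (gmC (k := k)) := Reductive.isUnit_gmFn _

theorem gmPt_evalPt {B : Type u} [CommRing B] [Algebra k B] (g : VecGrp.pt k B ⟶ Red.Gm (Spec (CommRingCat.of k))) :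
    gmPt (isUnit_gmC.map (evalPt g)).unit = g := by
  refine Reductive.gmFn_injective ?_
  have h : ∀ x : VecGrp.pt k B ⟶ Red.Gm (Spec (CommRingCat.of k)), ptFn B (Red.gmFn x) = evalPt x gmC := by
    intro x
    rw [evalPt_apply, gmC, ← gmFn_pull, Category.comp_id]
  apply ptFn_bijective.1
  rw [h, h, evalPt_gmPt, IsUnit.unit_spec]

scoped instance gm_isAffine : IsAffine (Red.Gm (Spec (CommRingCat.of k))).left :=
  have : IsAffine (Red.diag (ULift.{u} ℤ) ℤ).left := isAffine_Spec _
  inferInstanceAs (IsAffine (Limits.pullback _ _))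

section Laurent

variable {A B : Type u} [CommRing A] [Algebra k A] [CommRing B] [Algebra k B]

attribute [-simp] LaurentPolynomial.single_eq_C_mul_T

/-- Substitute `uT` for `T` and change coefficients. -/
def twistMap (φ : A →ₐ[k] B) (u : Bˣ) : AddMonoidAlgebra A ℤ →ₐ[k] AddMonoidAlgebra B ℤ :=
  AddMonoidAlgebra.liftNCAlgHom (AddMonoidAlgebra.singleZeroAlgHom.comp φ)
    { toFun := fun n => AddMonoidAlgebra.single n.toAdd ((u ^ n.toAdd : Bˣ) : B)
      map_one' := by simp [AddMonoidAlgebra.one_def]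
      map_mul' := fun a b => by simp [AddMonoidAlgebra.single_mul_single, zpow_add] }
    (fun _ _ => Commute.all _ _)

theorem twistMap_single (φ : A →ₐ[k] B) (u : Bˣ) (n : ℤ) (a : A) :
    twistMap φ u (AddMonoidAlgebra.single n a) = AddMonoidAlgebra.single n (φ a * ((u ^ n : Bˣ) : B)) := by
  simp [twistMap, AddMonoidAlgebra.liftNC_single, AddMonoidAlgebra.single_mul_single]

theorem coeff_twistMap (φ : A →ₐ[k] B) (u : Bˣ) (p : AddMonoidAlgebra A ℤ) (n : ℤ) :
    (twistMap φ u p).coeff n = φ (p.coeff n) * ((u ^ n : Bˣ) : B) := by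
  induction p using AddMonoidAlgebra.induction_linear with
  | zero => simp
  | add p q hp hq => simp [map_add, hp, hq, add_mul]
  | single m a =>
    rw [twistMap_single]
    simp only [AddMonoidAlgebra.coeff_single, Finsupp.single_apply]
    split_ifs with h
    · subst h; rfl
    · simp

/-- The variable. -/
def varT (A : Type u) [CommRing A] : (AddMonoidAlgebra A ℤ)ˣ :=
  ⟨AddMonoidAlgebra.single 1 1, AddMonoidAlgebra.single (-1) 1,
    by simp [AddMonoidAlgebra.single_mul_single, AddMonoidAlgebra.one_def],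
    by simp [AddMonoidAlgebra.single_mul_single, AddMonoidAlgebra.one_def]⟩

theorem map_varT (φ : A →ₐ[k] B) (u : Bˣ) :
    Units.map (twistMap φ u : AddMonoidAlgebra A ℤ →* AddMonoidAlgebra B ℤ) (varT A) =
      Units.map (AddMonoidAlgebra.singleZeroAlgHom (R := k) (A := B) (M := ℤ) : B →* AddMonoidAlgebra B ℤ) u * varT B := by
  ext : 1
  simp [varT, twistMap_single, AddMonoidAlgebra.single_mul_single]

end Laurent

variable {E : Over (Spec (CommRingCat.of k))} [GrpObj E] (i : Red.Gm (Spec (CommRingCat.of k)) ⟶ E) [IsMonHom i]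

theorem gmPt_mul {B : Type u} [CommRing B] [Algebra k B] (u v : Bˣ) :
    gmPt (k := k) (u * v) = gmPt u * gmPt v := by
  refine Reductive.gmFn_injective ?_
  rw [Reductive.gmFn_mul]
  simp [gmPt]

theorem ptMap_gmPt {B B' : Type u} [CommRing B] [Algebra k B] [CommRing B'] [Algebra k B'] (φ : B →ₐ[k] B') (u : Bˣ) :
    VecGrp.ptMap φ ≫ gmPt (k := k) u = gmPt (Units.map (φ : B →* B') u) := by
  refine pt_ext (X := Red.Gm _) ?_
  have h : ∀ v : B'ˣ, ∀ g : VecGrp.pt k B' ⟶ Red.Gm (Spec (CommRingCat.of k)), evalPt g gmC = v → g = gmPt v := by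
    intro v g hg
    rw [← gmPt_evalPt g]
    congr 1
    exact Units.ext (by simpa using hg)
  exact congrArg evalPt (h (Units.map (φ : B →* B') u) _ (by rw [evalPt_ptMap, AlgHom.comp_apply, evalPt_gmPt]; rfl))

section

variable [IsAffine E.left]

attribute [-simp] LaurentPolynomial.single_eq_C_mul_T

/-- The weight one functions. -/
def wt1 : Submodule k (Fn E) where
  carrier := {f | ∀ (B : Type u) [CommRing B] [Algebra k B] (x : VecGrp.pt k B ⟶ E) (u : Bˣ),
    evalPt (x * (gmPt u ≫ i)) f = u * evalPt x f}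
  add_mem' := fun {a b} ha hb B _ _ x u => by rw [map_add, map_add, ha B x u, hb B x u, mul_add]
  zero_mem' := fun B _ _ x u => by simp
  smul_mem' := fun c a ha B _ _ x u => by rw [map_smul, map_smul, ha B x u, mul_smul_comm]

/-- `f (x t)` as a Laurent polynomial. -/
def expand (f : Fn E) : AddMonoidAlgebra (Fn E) ℤ :=
  evalPt ((VecGrp.ptMap (AddMonoidAlgebra.singleZeroAlgHom (R := k) (M := ℤ)) ≫ univ E) * (gmPt (varT (Fn E)) ≫ i)) f

theorem twist_expand {B : Type u} [CommRing B] [Algebra k B] (x : VecGrp.pt k B ⟶ E) (u : Bˣ) (f : Fn E) :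
    twistMap (evalPt x) u (expand i f) =
      evalPt ((VecGrp.ptMap (AddMonoidAlgebra.singleZeroAlgHom (R := k) (M := ℤ)) ≫ x) *
        (gmPt (Units.map (AddMonoidAlgebra.singleZeroAlgHom (R := k) (A := B) (M := ℤ) : B →* AddMonoidAlgebra B ℤ) u * varT B) ≫ i)) f := by
  rw [expand, ← AlgHom.comp_apply, ← evalPt_ptMap, MonObj.comp_mul, ← Category.assoc _ (gmPt _) i, ptMap_gmPt, map_varT]
  congr 3
  apply pt_ext
  rw [evalPt_ptMap, evalPt_ptMap, evalPt_ptMap, evalPt_univ, AlgHom.comp_id]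
  refine AlgHom.ext fun a => ?_
  simp [twistMap_single]

/-- The coefficient of `T` has weight one. -/
theorem coeff_expand_mem (f : Fn E) : (expand i f).coeff 1 ∈ wt1 i := by
  intro B _ _ x u
  have h1 := twist_expand i (x * (gmPt u ≫ i)) 1 f
  have h2 := twist_expand i x u f
  rw [map_one, _root_.one_mul, MonObj.comp_mul, ← Category.assoc _ (gmPt u) i, ptMap_gmPt, _root_.mul_assoc,
    ← MonObj.mul_comp (g := i), ← gmPt_mul] at h1
  rw [← h2] at h1
  have h3 := congrArg (fun p => p.coeff 1) h1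
  simp only [coeff_twistMap] at h3
  simpa [mul_comm] using h3

/-- Some weight one function is non-zero. -/
theorem exists_ne_zero [IsClosedImmersion i.left] : ∃ f ∈ wt1 i, f ≠ 0 := by
  have hsurj : Function.Surjective (pull i) :=
    i.left.app_surjective ⊤ (isAffineOpen_top _)
  obtain ⟨f, hf⟩ := hsurj gmC
  refine ⟨(expand i f).coeff 1, coeff_expand_mem i f, fun h0 => ?_⟩
  have h := twist_expand i (1 : VecGrp.pt k k ⟶ E) 1 f
  rw [MonObj.comp_one, _root_.one_mul, map_one, _root_.one_mul, evalPt_comp_apply, hf, evalPt_gmPt] at h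
  have h3 := congrArg (fun p => p.coeff 1) h
  simp only [coeff_twistMap, h0, map_zero, zero_mul, varT] at h3
  simp at h3

variable (hc : ∀ (B : Type u) [CommRing B] [Algebra k B] (u : Bˣ) (g : VecGrp.pt k B ⟶ E),
  (gmPt u ≫ i) * g = g * (gmPt u ≫ i))

include hc in
theorem wt1_stable : (regRep E).IsStable (𝟙 E) (wt1 i) := by
  intro B _ _ g w hw
  rw [Category.comp_id]
  rw [regRep_apply]
  -- membership after base change by linear independence
  obtain ⟨c, hc'⟩ := TensorProduct.eq_repr_basis_left (Module.Free.chooseBasis k B) (rTransAlg g w)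
  rw [← hc']
  refine Submodule.sum_mem _ fun j hj => ?_
  show (Module.Free.chooseBasis k B) j ⊗ₜ[k] c j ∈ _
  rw [show (Module.Free.chooseBasis k B) j ⊗ₜ[k] c j = (Module.Free.chooseBasis k B) j • ((1 : B) ⊗ₜ[k] c j) by
    simp [TensorProduct.smul_tmul']]
  refine Submodule.smul_mem _ _ (Submodule.tmul_mem_baseChange_of_mem _ ?_)
  intro C _ _ x u
  let Ψ : ∀ (y : VecGrp.pt k C ⟶ E), B ⊗[k] Fn E →ₐ[k] B ⊗[k] C := fun y =>
    Algebra.TensorProduct.map (AlgHom.id k B) (evalPt y)
  have hΨ : ∀ y : VecGrp.pt k C ⟶ E, Ψ y (rTransAlg g w) =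
      evalPt ((VecGrp.ptMap Algebra.TensorProduct.includeRight ≫ y) *
        (VecGrp.ptMap Algebra.TensorProduct.includeLeft ≫ g)) w := by
    intro y
    rw [rTransAlg, ← AlgHom.comp_apply, ← evalPt_ptMap, MonObj.comp_mul]
    congr 3
    · apply pt_ext
      simp [evalPt_ptMap, Ψ, ← AlgHom.comp_assoc]
    · apply pt_ext
      simp [evalPt_ptMap, Ψ, ← AlgHom.comp_assoc]
  have key : Ψ (x * (gmPt u ≫ i)) (rTransAlg g w) = ((1 : B) ⊗ₜ[k] (u : C)) * Ψ x (rTransAlg g w) := by
    rw [hΨ, hΨ, MonObj.comp_mul, ← Category.assoc _ (gmPt u) i, ptMap_gmPt, _root_.mul_assoc, hc,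
      ← _root_.mul_assoc, hw]
    rfl
  rw [← hc'] at key
  simp only [Finsupp.sum, map_sum, Finset.mul_sum, Ψ, Algebra.TensorProduct.map_tmul, AlgHom.id_apply,
    Algebra.TensorProduct.tmul_mul_tmul, _root_.one_mul] at key
  have h5 := congrArg (fun z => TensorProduct.lid k C (LinearMap.rTensor C ((Module.Free.chooseBasis k B).coord j) z)) key
  simp only [map_sum, LinearMap.rTensor_tmul, TensorProduct.lid_tmul, Module.Basis.coord_apply, Module.Basis.repr_self,
    Finsupp.single_apply, ite_smul, one_smul, zero_smul, Finset.sum_ite_eq', hj, if_true] at h5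
  exact h5

end

end Groth.Agf
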