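import Groth.Agent.Agf.Fn
import Groth.Agent.AlgGrp1.Basic
import Mathlib.AlgebraicGeometry.IdealSheaf.Subscheme
import Mathlib.AlgebraicGeometry.Morphisms.ClosedImmersion
import Mathlib.AlgebraicGeometry.Gluing
import Mathlib.RingTheory.TensorProduct.Free

/-!
Over a field, "every point of `G` over `f` lands in the closed subscheme `E ⊆ X × G`" is a closed condition on `f`
(Weil restriction along the essentially free `G → Spec k`).
-/

universe u v

set_option backward.isDefEq.respectTransparency false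
set_option backward.isDefEq.respectTransparency.types false

open CategoryTheory Limits MonoidalCategory CartesianMonoidalCategory MonObj AlgebraicGeometry
open scoped TensorProduct

noncomputable section

namespace Groth.Agf

section Glue

variable {S : Scheme.{u}}

/-- Local factorisations through a monomorphism glue. -/
theorem exists_factor_of_cover {T Z X : Over S} (c : Z ⟶ X) [Mono c.left] (f : T ⟶ X) (𝒰 : Scheme.OpenCover.{u} T.left)
    (h : ∀ i, ∃ e : 𝒰.X i ⟶ Z.left, e ≫ c.left = 𝒰.f i ≫ f.left) : ∃ z : T ⟶ Z, z ≫ c = f := by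
  choose e he using h
  let e₀ : T.left ⟶ Z.left := Scheme.Cover.glueMorphisms 𝒰 e fun x y => by
    rw [← cancel_mono c.left, Category.assoc, Category.assoc, he, he, pullback.condition_assoc]
  have he₀ : e₀ ≫ c.left = f.left := Scheme.Cover.hom_ext 𝒰 _ _ fun i => by
    rw [← Category.assoc, Scheme.Cover.ι_glueMorphisms, he]
  exact ⟨Over.homMk e₀ (by rw [← Over.w c, ← Category.assoc, he₀, Over.w f]), Over.OverMorphism.ext he₀⟩

/-- A Zariski local property of points which is affine-locally cut out by an ideal is a closed condition. -/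
theorem exists_closedSubscheme (X : Over S) (P : ∀ ⦃T : Over S⦄, (T ⟶ X) → Prop)
    (hres : ∀ ⦃T T' : Over S⦄ (a : T' ⟶ T) (f : T ⟶ X), P f → P (a ≫ f))
    (hloc : ∀ ⦃T : Over S⦄ (f : T ⟶ X) (𝒰 : Scheme.OpenCover.{u} T.left),
      (∀ i, P ((Over.homMk (𝒰.f i) rfl : Over.mk (𝒰.f i ≫ T.hom) ⟶ T) ≫ f)) → P f)
    (haff : ∀ V : X.left.affineOpens, ∃ J : Ideal Γ(X.left, V.1), ∀ (C : CommRingCat.{u}) (φ : Γ(X.left, V.1) ⟶ C)
      (f : Over.mk (Spec.map φ ≫ V.2.fromSpec ≫ X.hom) ⟶ X), f.left = Spec.map φ ≫ V.2.fromSpec →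
        (P f ↔ J ≤ RingHom.ker φ.hom)) :
    ∃ (Z : Over S) (c : Z ⟶ X), IsClosedImmersion c.left ∧
      ∀ (T : Over S) (f : T ⟶ X), (∃ z : T ⟶ Z, z ≫ c = f) ↔ P f := by
  choose J hJ using haff
  have hmap : ∀ (V W : X.left.affineOpens) (i : W.1 ≤ V.1),
      (J V).map (X.left.presheaf.map (homOfLE i).op).hom = J W := by
    intro V W i
    have key : ∀ (K : Ideal Γ(X.left, W.1)),
        J W ≤ K ↔ (J V).map (X.left.presheaf.map (homOfLE i).op).hom ≤ K := by
      intro K
      let φ : Γ(X.left, W.1) ⟶ CommRingCat.of (Γ(X.left, W.1) ⧸ K) := CommRingCat.ofHom (Ideal.Quotient.mk K)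
      let φ' : Γ(X.left, V.1) ⟶ CommRingCat.of (Γ(X.left, W.1) ⧸ K) := X.left.presheaf.map (homOfLE i).op ≫ φ
      have hfrom : Spec.map φ' ≫ V.2.fromSpec = Spec.map φ ≫ W.2.fromSpec := by
        rw [Spec.map_comp, Category.assoc, V.2.map_fromSpec W.2]
      let f : Over.mk (Spec.map φ ≫ W.2.fromSpec ≫ X.hom) ⟶ X :=
        Over.homMk (Spec.map φ ≫ W.2.fromSpec) (Category.assoc _ _ _)
      let f' : Over.mk (Spec.map φ' ≫ V.2.fromSpec ≫ X.hom) ⟶ X :=
        Over.homMk (Spec.map φ' ≫ V.2.fromSpec) (Category.assoc _ _ _)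
      let a : Over.mk (Spec.map φ ≫ W.2.fromSpec ≫ X.hom) ⟶ Over.mk (Spec.map φ' ≫ V.2.fromSpec ≫ X.hom) :=
        Over.homMk (𝟙 _) (by
          show 𝟙 _ ≫ Spec.map φ' ≫ V.2.fromSpec ≫ X.hom = _
          rw [Category.id_comp, ← Category.assoc, hfrom, Category.assoc]; rfl)
      let b : Over.mk (Spec.map φ' ≫ V.2.fromSpec ≫ X.hom) ⟶ Over.mk (Spec.map φ ≫ W.2.fromSpec ≫ X.hom) :=
        Over.homMk (𝟙 _) (by
          show 𝟙 _ ≫ Spec.map φ ≫ W.2.fromSpec ≫ X.hom = _
          rw [Category.id_comp, ← Category.assoc, ← hfrom, Category.assoc]; rfl)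
      have hf : P f ↔ P f' := by
        constructor
        · intro h
          have := hres b f h
          rwa [show b ≫ f = f' from Over.OverMorphism.ext (by
            show 𝟙 _ ≫ Spec.map φ ≫ W.2.fromSpec = Spec.map φ' ≫ V.2.fromSpec
            rw [Category.id_comp, hfrom])] at this
        · intro h
          have := hres a f' h
          rwa [show a ≫ f' = f from Over.OverMorphism.ext (by
            show 𝟙 _ ≫ Spec.map φ' ≫ V.2.fromSpec = Spec.map φ ≫ W.2.fromSpec
            rw [Category.id_comp, hfrom])] at this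
      rw [Ideal.map_le_iff_le_comap, ← Ideal.mk_ker (I := K), RingHom.comap_ker]
      exact ((hJ W _ φ f rfl).symm.trans hf).trans (hJ V _ φ' f' rfl)
    exact le_antisymm ((key _).1 le_rfl) ((key _).2 le_rfl)
  let I : X.left.IdealSheafData :=
    { ideal := J
      map_ideal_basicOpen := fun U f => hmap U (X.left.affineBasicOpen f) (X.left.basicOpen_le f) }
  let c : Over.mk (I.subschemeι ≫ X.hom) ⟶ X := Over.homMk I.subschemeι rfl
  refine ⟨_, c, inferInstanceAs (IsClosedImmersion I.subschemeι), fun T f => ⟨?_, fun hP => ?_⟩⟩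
  · rintro ⟨z, rfl⟩
    have hsub : ∀ t : T.left, ∃ (V : X.left.affineOpens) (W : T.left.affineOpens), t ∈ W.1 ∧
        W.1 ≤ (z ≫ c).left ⁻¹ᵁ V.1 := by
      intro t
      obtain ⟨_, ⟨V, hV, rfl⟩, htV, -⟩ := X.left.isBasis_affineOpens.exists_subset_of_mem_open
        (Set.mem_univ ((z ≫ c).left t)) isOpen_univ
      obtain ⟨_, ⟨W, hW, rfl⟩, htW, hWV⟩ := T.left.isBasis_affineOpens.exists_subset_of_mem_open
        (show t ∈ ((z ≫ c).left ⁻¹ᵁ V) from htV) (((z ≫ c).left ⁻¹ᵁ V).isOpen)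
      exact ⟨⟨V, hV⟩, ⟨W, hW⟩, htW, hWV⟩
    choose V W hmem hle using hsub
    have hcov : TopologicalSpace.IsOpenCover (fun t : T.left => (W t).1) :=
      eq_top_iff.2 fun t _ => TopologicalSpace.Opens.mem_iSup.2 ⟨t, hmem t⟩
    suffices key : ∀ t : T.left, P ((Over.homMk (W t).1.ι rfl : Over.mk ((W t).1.ι ≫ T.hom) ⟶ T) ≫ z ≫ c) from
      hloc _ (T.left.openCoverOfIsOpenCover (fun t : T.left => (W t).1) hcov) key
    intro t
    let φ := (z ≫ c).left.appLE (V t).1 (W t).1 (hle t)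
    have hfrom : Spec.map φ ≫ (V t).2.fromSpec = (W t).2.fromSpec ≫ (z ≫ c).left :=
      IsAffineOpen.SpecMap_appLE_fromSpec _ _ _ _
    let g : Over.mk (Spec.map φ ≫ (V t).2.fromSpec ≫ X.hom) ⟶ X :=
      Over.homMk (Spec.map φ ≫ (V t).2.fromSpec) (Category.assoc _ _ _)
    have hg : P g := (hJ (V t) _ φ g rfl).2 fun s hs => by
      have hker : (I.subschemeι.app (V t).1).hom s = 0 := by
        rw [← RingHom.mem_ker, Scheme.IdealSheafData.ker_subschemeι_app]
        exact hs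
      rw [RingHom.mem_ker]
      show ((z.left ≫ I.subschemeι).appLE (V t).1 (W t).1 (hle t)).hom s = 0
      rw [Scheme.Hom.comp_appLE]
      show (z.left.appLE _ _ _).hom ((I.subschemeι.app (V t).1).hom s) = 0
      rw [hker, map_zero]
    let a : Over.mk ((W t).1.ι ≫ T.hom) ⟶ Over.mk (Spec.map φ ≫ (V t).2.fromSpec ≫ X.hom) :=
      Over.homMk (W t).2.isoSpec.hom (by
        show (W t).2.isoSpec.hom ≫ Spec.map φ ≫ (V t).2.fromSpec ≫ X.hom = (W t).1.ι ≫ T.hom
        rw [← Category.assoc (Spec.map φ), hfrom, Category.assoc, Over.w, IsAffineOpen.isoSpec_hom_fromSpec_assoc])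
    have := hres a g hg
    refine (congrArg (fun r => P r) ?_).mp this
    apply Over.OverMorphism.ext
    show (W t).2.isoSpec.hom ≫ Spec.map φ ≫ (V t).2.fromSpec = (W t).1.ι ≫ (z ≫ c).left
    rw [hfrom, IsAffineOpen.isoSpec_hom_fromSpec_assoc]
  · have hsub : ∀ t : T.left, ∃ (V : X.left.affineOpens) (W : T.left.affineOpens), t ∈ W.1 ∧
        W.1 ≤ f.left ⁻¹ᵁ V.1 := by
      intro t
      obtain ⟨_, ⟨V, hV, rfl⟩, htV, -⟩ := X.left.isBasis_affineOpens.exists_subset_of_mem_open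
        (Set.mem_univ (f.left t)) isOpen_univ
      obtain ⟨_, ⟨W, hW, rfl⟩, htW, hWV⟩ := T.left.isBasis_affineOpens.exists_subset_of_mem_open
        (show t ∈ (f.left ⁻¹ᵁ V) from htV) ((f.left ⁻¹ᵁ V).isOpen)
      exact ⟨⟨V, hV⟩, ⟨W, hW⟩, htW, hWV⟩
    choose V W hmem hle using hsub
    have hcov : TopologicalSpace.IsOpenCover (fun t : T.left => (W t).1) :=
      eq_top_iff.2 fun t _ => TopologicalSpace.Opens.mem_iSup.2 ⟨t, hmem t⟩
    suffices key : ∀ t : T.left, ∃ e : ((W t).1 : Scheme.{u}) ⟶ I.subscheme, e ≫ I.subschemeι = (W t).1.ι ≫ f.left from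
      exists_factor_of_cover c f (T.left.openCoverOfIsOpenCover (fun t : T.left => (W t).1) hcov) key
    intro t
    let φ := f.left.appLE (V t).1 (W t).1 (hle t)
    have hfrom : Spec.map φ ≫ (V t).2.fromSpec = (W t).2.fromSpec ≫ f.left :=
      IsAffineOpen.SpecMap_appLE_fromSpec _ _ _ _
    let g : Over.mk (Spec.map φ ≫ (V t).2.fromSpec ≫ X.hom) ⟶ X :=
      Over.homMk (Spec.map φ ≫ (V t).2.fromSpec) (Category.assoc _ _ _)
    let b : Over.mk (Spec.map φ ≫ (V t).2.fromSpec ≫ X.hom) ⟶ T :=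
      Over.homMk (W t).2.fromSpec (by
        show (W t).2.fromSpec ≫ T.hom = Spec.map φ ≫ (V t).2.fromSpec ≫ X.hom
        rw [← Category.assoc (Spec.map φ), hfrom, Category.assoc, Over.w])
    have hg : J (V t) ≤ RingHom.ker φ.hom := (hJ (V t) _ φ g rfl).1 (by
      have := hres b f hP
      rwa [show b ≫ f = g from Over.OverMorphism.ext hfrom.symm] at this)
    refine ⟨(W t).2.isoSpec.hom ≫ Spec.map (CommRingCat.ofHom (Ideal.Quotient.lift (J (V t)) φ.hom fun x hx => hg hx)) ≫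
      I.subschemeCover.f (V t), ?_⟩
    simp only [Category.assoc]
    erw [Scheme.IdealSheafData.subschemeCover_map_subschemeι]
    rw [← IsAffineOpen.isoSpec_hom_fromSpec_assoc (W t).2, ← hfrom, Scheme.IdealSheafData.glueDataObjι,
      Category.assoc, IsAffineOpen.isoSpec_inv_ι, ← Category.assoc (Spec.map _), ← Spec.map_comp,
      ← CommRingCat.ofHom_comp, Ideal.Quotient.lift_comp_mk]
    rfl

end Glue

section Coeff

variable {k : Type u} [Field k]

/-- The coefficient ideal: the condition `(φ ⊗ id) I = 0` is cut out by an ideal. -/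
theorem exists_coeffIdeal {B A : Type u} [CommRing B] [Algebra k B] [CommRing A] [Algebra k A]
    (I : Ideal (B ⊗[k] A)) : ∃ J : Ideal B, ∀ (C : Type u) [CommRing C] [Algebra k C] (φ : B →ₐ[k] C),
      J ≤ RingHom.ker φ ↔ I ≤ RingHom.ker (Algebra.TensorProduct.map φ (AlgHom.id k A)) := by
  let b := Module.Free.chooseBasis k A
  let bB := Algebra.TensorProduct.basis B b
  refine ⟨Ideal.span {x | ∃ r ∈ I, ∃ i, bB.repr r i = x}, fun C _ _ φ => ?_⟩
  let bC := Algebra.TensorProduct.basis C b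
  have key : ∀ r i, bC.repr (Algebra.TensorProduct.map φ (AlgHom.id k A) r) i = φ (bB.repr r i) := by
    intro r i
    induction r using TensorProduct.induction_on with
    | zero => simp
    | tmul x y => simp [bB, bC, Algebra.TensorProduct.basis_repr_tmul]
    | add p q hp hq => simp only [map_add, Finsupp.add_apply, hp, hq]
  rw [Ideal.span_le]
  refine ⟨fun h r hr => ?_, fun h => ?_⟩
  · rw [RingHom.mem_ker]
    refine bC.repr.injective (Finsupp.ext fun i => ?_)
    rw [key, map_zero, Finsupp.zero_apply]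
    exact h ⟨r, hr, i, rfl⟩
  · rintro _ ⟨r, hr, i, rfl⟩
    show φ _ = 0
    rw [← key, RingHom.mem_ker.1 (h hr), map_zero, Finsupp.zero_apply]

variable {X G E : Over (Spec (CommRingCat.of k))} (c : E ⟶ X ⊗ G)

/-- An affine scheme maps to its test scheme. -/
def toPt (W : Over (Spec (CommRingCat.of k))) [IsAffine W.left] : W ⟶ VecGrp.pt k (Fn W) :=
  Over.homMk W.left.isoSpec.hom (by
    have h := Over.w (univ W)
    simp only [univ, ptOf, Over.homMk_left, Category.assoc, CommRingCat.ofHom_hom, AlgHom.toRingHom_eq_coe] at h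
    have h2 : W.left.isoSpec.inv ≫ W.hom = Spec.map (CommRingCat.ofHom (algebraMap k (Fn W))) := by
      simpa using h
    show W.left.isoSpec.hom ≫ Spec.map (CommRingCat.ofHom (algebraMap k (Fn W))) = W.hom
    rw [← h2, Iso.hom_inv_id_assoc])

theorem toPt_univ (W : Over (Spec (CommRingCat.of k))) [IsAffine W.left] : toPt W ≫ univ W = 𝟙 W := by
  apply Over.OverMorphism.ext
  show W.left.isoSpec.hom ≫ Spec.map _ ≫ W.left.isoSpec.inv = 𝟙 _
  rw [show CommRingCat.ofHom (AlgHom.id k (Fn W)).toRingHom = 𝟙 _ from rfl]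
  erw [Spec.map_id, Category.id_comp, Iso.hom_inv_id]

/-- The condition on `T ⟶ X`: its product with `G` lands in `E`. -/
def FactorsTimes ⦃T : Over (Spec (CommRingCat.of k))⦄ (f : T ⟶ X) : Prop :=
  ∀ (W : Over (Spec (CommRingCat.of k))) (t : W ⟶ T) (g : W ⟶ G), ∃ e : W ⟶ E, e ≫ c = lift (t ≫ f) g

variable [IsClosedImmersion c.left]

/-- For affine `V → X` the condition is cut out by an ideal. -/
theorem exists_ideal_affine {V : Over (Spec (CommRingCat.of k))} [IsAffine V.left] (ιV : V ⟶ X) :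
    ∃ J : Ideal (Fn V), ∀ (C : Type u) [CommRing C] [Algebra k C] (p : VecGrp.pt k C ⟶ V),
      FactorsTimes c (p ≫ ιV) ↔ J ≤ RingHom.ker (evalPt p) := by
  let O : G.left.affineOpens → Over (Spec (CommRingCat.of k)) := fun U => Over.mk (U.1.ι ≫ G.hom)
  have hO : ∀ U, IsAffine (O U).left := fun U => U.2
  let ιO : ∀ U, O U ⟶ G := fun U => Over.homMk U.1.ι rfl
  let R : G.left.affineOpens → Type u := fun U => Fn V ⊗[k] Fn (O U)
  let m : ∀ U, VecGrp.pt k (Fn V ⊗[k] Fn (O U)) ⟶ X ⊗ G := fun U =>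
    lift (ptOf V Algebra.TensorProduct.includeLeft ≫ ιV) (ptOf (O U) Algebra.TensorProduct.includeRight ≫ ιO U)
  have hI : ∀ U, ∃ I : Ideal (Fn V ⊗[k] Fn (O U)), ∀ (D : Type u) [CommRing D] [Algebra k D]
      (ψ : Fn V ⊗[k] Fn (O U) →ₐ[k] D), (∃ e : VecGrp.pt k D ⟶ E, e ≫ c = VecGrp.ptMap ψ ≫ m U) ↔ I ≤ RingHom.ker ψ := by
    intro U
    obtain ⟨I, q, hq⟩ := (IsClosedImmersion.Spec_iff (f := pullback.snd c.left (m U).left)).1 inferInstance
    refine ⟨I, fun D _ _ ψ => ⟨?_, fun h => ?_⟩⟩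
    · rintro ⟨e, he⟩
      have he' : e.left ≫ c.left = Spec.map (CommRingCat.ofHom ψ.toRingHom) ≫ (m U).left :=
        congrArg CommaMorphism.left he
      let l := pullback.lift e.left (Spec.map (CommRingCat.ofHom ψ.toRingHom)) he'
      obtain ⟨χ, hχ⟩ := Spec.map_surjective (l ≫ q.hom)
      have h2 : Spec.map χ ≫ Spec.map (CommRingCat.ofHom (Ideal.Quotient.mk I)) =
          Spec.map (CommRingCat.ofHom ψ.toRingHom) := by
        rw [hχ, Category.assoc, ← hq, pullback.lift_snd]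
      rw [← Spec.map_comp] at h2
      have h3 := Spec.map_injective h2
      intro r hr
      have h4 := congrArg (fun a : CommRingCat.of (Fn V ⊗[k] Fn (O U)) ⟶ CommRingCat.of D => a.hom r) h3
      simp only [CommRingCat.hom_comp, RingHom.comp_apply, CommRingCat.hom_ofHom] at h4
      rw [Ideal.Quotient.eq_zero_iff_mem.2 hr, map_zero] at h4
      exact h4.symm
    · let χ := CommRingCat.ofHom (Ideal.Quotient.lift I ψ.toRingHom fun x hx => h hx)
      let e₀ : Spec (CommRingCat.of D) ⟶ E.left := Spec.map χ ≫ q.inv ≫ pullback.fst c.left (m U).left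
      have he₀ : e₀ ≫ c.left = (VecGrp.ptMap ψ ≫ m U).left := by
        show (Spec.map χ ≫ q.inv ≫ pullback.fst c.left (m U).left) ≫ c.left = Spec.map _ ≫ (m U).left
        rw [Category.assoc, Category.assoc, pullback.condition, hq, Category.assoc, Iso.inv_hom_id_assoc,
          ← Category.assoc, ← Spec.map_comp]
        congr 2
      exact ⟨Over.homMk e₀ (by rw [← Over.w c, ← Category.assoc, he₀]; exact Over.w _), Over.OverMorphism.ext he₀⟩
  choose I hI using hI
  choose J hJ using fun U => exists_coeffIdeal (I U)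
  refine ⟨⨆ U, J U, fun C _ _ p => ?_⟩
  rw [iSup_le_iff]
  constructor
  · intro hP U
    rw [hJ U C (evalPt p), ← hI U]
    have hl : ∀ (W : Over (Spec (CommRingCat.of k))) (t : W ⟶ VecGrp.pt k C) (g : W ⟶ G),
        ∃ e : W ⟶ E, e ≫ c = lift (t ≫ p ≫ ιV) g := fun W t g => hP W t g
    obtain ⟨e, he⟩ := hl _ (VecGrp.ptMap (Algebra.TensorProduct.includeLeft : C →ₐ[k] C ⊗[k] Fn (O U)))
      (ptOf (O U) Algebra.TensorProduct.includeRight ≫ ιO U)
    refine ⟨e, he.trans ?_⟩
    simp only [m, comp_lift]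
    rw [← Category.assoc (VecGrp.ptMap _) p, ← Category.assoc (VecGrp.ptMap _) (ptOf V _),
      ← Category.assoc (VecGrp.ptMap _) (ptOf (O U) _)]
    congr 2
    · exact pt_ext (by rw [evalPt_ptMap, evalPt_ptMap, evalPt_ptOf]; ext s; simp)
    · exact pt_ext (by rw [evalPt_ptMap, evalPt_ptOf, evalPt_ptOf]; ext s; simp)
  · intro hJ' W t g
    have hsub : ∀ w : W.left, ∃ (U : G.left.affineOpens) (W' : W.left.affineOpens), w ∈ W'.1 ∧
        W'.1 ≤ g.left ⁻¹ᵁ U.1 := by
      intro w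
      obtain ⟨_, ⟨U, hU, rfl⟩, hwU, -⟩ := G.left.isBasis_affineOpens.exists_subset_of_mem_open
        (Set.mem_univ (g.left w)) isOpen_univ
      obtain ⟨_, ⟨W', hW', rfl⟩, hwW, hWU⟩ := W.left.isBasis_affineOpens.exists_subset_of_mem_open
        (show w ∈ (g.left ⁻¹ᵁ U) from hwU) ((g.left ⁻¹ᵁ U).isOpen)
      exact ⟨⟨U, hU⟩, ⟨W', hW'⟩, hwW, hWU⟩
    choose U W' hmem hle using hsub
    have hcov : TopologicalSpace.IsOpenCover (fun w : W.left => (W' w).1) :=
      eq_top_iff.2 fun w _ => TopologicalSpace.Opens.mem_iSup.2 ⟨w, hmem w⟩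
    suffices key : ∀ w : W.left, ∃ e : ((W' w).1 : Scheme.{u}) ⟶ E.left,
        e ≫ c.left = (W' w).1.ι ≫ (lift (t ≫ p ≫ ιV) g).left from
      exists_factor_of_cover c _ (W.left.openCoverOfIsOpenCover (fun w : W.left => (W' w).1) hcov) key
    intro w
    let W₀ : Over (Spec (CommRingCat.of k)) := Over.mk ((W' w).1.ι ≫ W.hom)
    have : IsAffine W₀.left := (W' w).2
    let a : W₀ ⟶ W := Over.homMk (W' w).1.ι rfl
    let g₀ : W₀ ⟶ O (U w) := Over.homMk (g.left.resLE (U w).1 (W' w).1 (hle w)) (by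
      show g.left.resLE _ _ _ ≫ (U w).1.ι ≫ G.hom = (W' w).1.ι ≫ W.hom
      rw [Scheme.Hom.resLE_comp_ι_assoc, Over.w])
    have hg₀ : a ≫ g = g₀ ≫ ιO (U w) := Over.OverMorphism.ext (Scheme.Hom.resLE_comp_ι _ _).symm
    let ψ : Fn V ⊗[k] Fn (O (U w)) →ₐ[k] Fn W₀ := Algebra.TensorProduct.lift
      (evalPt (univ W₀ ≫ a ≫ t ≫ p)) (evalPt (univ W₀ ≫ g₀)) fun _ _ => .all ..
    have hψ : I (U w) ≤ RingHom.ker ψ := by
      have h1 := (hJ (U w) C (evalPt p)).1 (hJ' _)
      have hfac : ψ = (Algebra.TensorProduct.lift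
          (ptFn (k := k) (Fn W₀) |>.comp (pull (univ W₀ ≫ a ≫ t)) |>.comp
            ((AlgEquiv.ofBijective (ptFn (k := k) C) ptFn_bijective).symm.toAlgHom))
          (evalPt (univ W₀ ≫ g₀)) fun _ _ => .all ..).comp
          (Algebra.TensorProduct.map (evalPt p) (AlgHom.id k _)) := by
        ext s
        · show ψ (s ⊗ₜ[k] 1) = _
          simp only [ψ, AlgHom.comp_apply, Algebra.TensorProduct.includeLeft_apply,
            Algebra.TensorProduct.map_tmul, Algebra.TensorProduct.lift_tmul, map_one, _root_.mul_one]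
          rw [show univ W₀ ≫ a ≫ t ≫ p = (univ W₀ ≫ a ≫ t) ≫ p by simp, evalPt_comp_apply]
          show evalPt (univ W₀ ≫ a ≫ t) (pull p s) = evalPt (univ W₀ ≫ a ≫ t)
            ((AlgEquiv.ofBijective (ptFn (k := k) C) ptFn_bijective).symm (ptFn C (pull p s)))
          exact congrArg _ (AlgEquiv.symm_apply_apply (AlgEquiv.ofBijective (ptFn (k := k) C) ptFn_bijective) _).symm
        · simp [ψ]
      intro r hr
      rw [RingHom.mem_ker, hfac, AlgHom.comp_apply, RingHom.mem_ker.1 (h1 hr), map_zero]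
    obtain ⟨e, he⟩ := (hI (U w) _ ψ).2 hψ
    refine ⟨(toPt W₀ ≫ e).left, ?_⟩
    have hfin : (toPt W₀ ≫ e) ≫ c = a ≫ lift (t ≫ p ≫ ιV) g := by
      rw [Category.assoc, he]
      simp only [m, comp_lift]
      rw [hg₀]
      congr 1
      · rw [show VecGrp.ptMap ψ ≫ ptOf V Algebra.TensorProduct.includeLeft ≫ ιV =
          (univ W₀ ≫ a ≫ t ≫ p) ≫ ιV from by
            rw [← Category.assoc]
            congr 1
            exact pt_ext (by rw [evalPt_ptMap, evalPt_ptOf]; exact Algebra.TensorProduct.lift_comp_includeLeft _ _ (fun _ _ => .all ..))]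
        simp only [← Category.assoc, toPt_univ, Category.id_comp]
      · rw [show VecGrp.ptMap ψ ≫ ptOf (O (U w)) Algebra.TensorProduct.includeRight ≫ ιO (U w) =
          (univ W₀ ≫ g₀) ≫ ιO (U w) from by
            rw [← Category.assoc]
            congr 1
            exact pt_ext (by rw [evalPt_ptMap, evalPt_ptOf]; exact Algebra.TensorProduct.lift_comp_includeRight _ _ (fun _ _ => .all ..))]
        simp only [← Category.assoc, toPt_univ, Category.id_comp]
    exact congrArg CommaMorphism.left hfin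

/-- **Closed condition**: the points `f` of `X` with `f × G` inside `E` form a closed subscheme. -/
theorem exists_factorsTimes :
    ∃ (Z : Over (Spec (CommRingCat.of k))) (z : Z ⟶ X), IsClosedImmersion z.left ∧
      ∀ (T : Over (Spec (CommRingCat.of k))) (f : T ⟶ X), (∃ y : T ⟶ Z, y ≫ z = f) ↔ FactorsTimes c f := by
  refine exists_closedSubscheme X (FactorsTimes c) ?_ ?_ ?_
  · intro T T' a f h W t g
    obtain ⟨e, he⟩ := h W (t ≫ a) g
    exact ⟨e, he.trans (by rw [Category.assoc])⟩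
  · intro T f 𝒰 h W t g
    refine exists_factor_of_cover c _ (𝒰.pullback₁ t.left) fun i => ?_
    let W' : Over (Spec (CommRingCat.of k)) := Over.mk (pullback.fst t.left (𝒰.f i) ≫ W.hom)
    let a : W' ⟶ W := Over.homMk (pullback.fst t.left (𝒰.f i)) rfl
    let t' : W' ⟶ Over.mk (𝒰.f i ≫ T.hom) := Over.homMk (pullback.snd t.left (𝒰.f i)) (by
      show pullback.snd t.left (𝒰.f i) ≫ 𝒰.f i ≫ T.hom = _
      rw [← pullback.condition_assoc, Over.w]; rfl)
    obtain ⟨e, he⟩ := h i W' t' (a ≫ g)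
    refine ⟨e.left, ?_⟩
    have : e ≫ c = a ≫ lift (t ≫ f) g := by
      rw [he, comp_lift]
      congr 1
      rw [← Category.assoc, ← Category.assoc]
      congr 1
      exact Over.OverMorphism.ext pullback.condition.symm
    exact congrArg CommaMorphism.left this
  · intro V
    let OV : Over (Spec (CommRingCat.of k)) := Over.mk (V.1.ι ≫ X.hom)
    have : IsAffine OV.left := V.2
    obtain ⟨J, hJ⟩ := exists_ideal_affine c (Over.homMk V.1.ι rfl : OV ⟶ X)
    refine ⟨J.comap V.1.topIso.inv.hom, fun C φ f hf => ?_⟩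
    obtain ⟨s, hs⟩ := Spec.map_surjective (Spec.map φ ≫ V.2.fromSpec ≫ X.hom)
    let : Algebra k C := s.hom.toAlgebra
    let T₀ : Over (Spec (CommRingCat.of k)) := Over.mk (Spec.map φ ≫ V.2.fromSpec ≫ X.hom)
    let a : T₀ ⟶ VecGrp.pt k C := Over.homMk (𝟙 _) (by
      show 𝟙 _ ≫ Spec.map _ = Spec.map φ ≫ V.2.fromSpec ≫ X.hom
      rw [Category.id_comp, ← hs]; rfl)
    let b : VecGrp.pt k C ⟶ T₀ := Over.homMk (𝟙 _) (by
      show 𝟙 _ ≫ Spec.map φ ≫ V.2.fromSpec ≫ X.hom = Spec.map _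
      rw [Category.id_comp, ← hs]; rfl)
    let p : VecGrp.pt k C ⟶ OV := Over.homMk (Spec.map φ ≫ V.2.isoSpec.inv) (by
      show (Spec.map φ ≫ V.2.isoSpec.inv) ≫ V.1.ι ≫ X.hom = Spec.map _
      rw [Category.assoc, IsAffineOpen.isoSpec_inv_ι_assoc, ← hs]; rfl)
    have hpf : b ≫ f = p ≫ (Over.homMk V.1.ι rfl : OV ⟶ X) := Over.OverMorphism.ext (by
      show 𝟙 _ ≫ f.left = (Spec.map φ ≫ V.2.isoSpec.inv) ≫ V.1.ι
      rw [Category.id_comp, hf, Category.assoc, IsAffineOpen.isoSpec_inv_ι])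
    have hker : ∀ r : Fn OV, evalPt p r = φ (V.1.topIso.hom r) := by
      intro r
      have hcomm : ∀ x : k, (V.1.topIso.hom ≫ φ).hom (algebraMap k (Fn OV) x) = algebraMap k C x := fun x => by
        have h1 := congrArg (fun m : CommRingCat.of k ⟶ C => m x) (Spec.map_injective (show Spec.map s =
          Spec.map (CommRingCat.ofHom (algebraMap k (Fn OV)) ≫ V.1.topIso.hom ≫ φ) by
          rw [hs, Spec.map_comp, Spec.map_comp]
          have h3 : OV.left.isoSpec.inv ≫ V.1.ι ≫ X.hom = Spec.map (CommRingCat.ofHom (algebraMap k (Fn OV))) := by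
            simpa [univ, ptOf, OV] using Over.w (univ OV)
          rw [← h3, ← IsAffineOpen.isoSpec_inv_ι, IsAffineOpen.isoSpec_inv]
          simp [OV]))
        exact h1.symm
      have hp : p = ptOf OV ({ (V.1.topIso.hom ≫ φ).hom with commutes' := hcomm } : Fn OV →ₐ[k] C) := by
        apply Over.OverMorphism.ext
        show Spec.map φ ≫ V.2.isoSpec.inv = Spec.map (V.1.topIso.hom ≫ φ) ≫ OV.left.isoSpec.inv
        rw [IsAffineOpen.isoSpec_inv, Spec.map_comp, Category.assoc]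
        rfl
      rw [hp, evalPt_ptOf]
      rfl
    have hiff : FactorsTimes c f ↔ FactorsTimes c (p ≫ (Over.homMk V.1.ι rfl : OV ⟶ X)) := by
      rw [← hpf]
      refine ⟨fun h W t g => ?_, fun h W t g => ?_⟩
      · obtain ⟨e, he⟩ := h W (t ≫ b) g
        exact ⟨e, he.trans (by rw [Category.assoc])⟩
      · obtain ⟨e, he⟩ := h W (t ≫ a) g
        refine ⟨e, he.trans ?_⟩
        congr 1
    refine hiff.trans ((hJ C p).trans ⟨fun h r hr => ?_, fun h r hr => ?_⟩)
    · have := h (Ideal.mem_comap.1 hr)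
      rw [RingHom.mem_ker, hker] at this
      rw [RingHom.mem_ker]
      exact (congrArg φ.hom (congrArg (fun m : Γ(X.left, V.1) ⟶ Γ(X.left, V.1) => m.hom r) V.1.topIso.inv_hom_id)).symm.trans this
    · rw [RingHom.mem_ker, hker]
      exact h (show V.1.topIso.inv.hom (V.1.topIso.hom r) ∈ J from
        (congrArg (fun m : Γ(OV.left, ⊤) ⟶ Γ(OV.left, ⊤) => m.hom r) V.1.topIso.hom_inv_id).symm ▸ hr)

end Coeff

end Groth.Agf
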