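import Groth.Agent.Agf.CyclicPurity

/-!
# Extending automorphisms of invariants

`A` complete regular of dimension at least two, `G` of order `p` acting freely outside the closed
point, the residue field without Galois extensions of degree `p`: every automorphism of `A ^ G`
extends to `A`.
-/

set_option autoImplicit false
universe u v w

open IsLocalRing Polynomial

namespace Groth.Agf.CyclicExtend

/-- Extending a homomorphism of fields to an algebraic closure along a finite extension. -/
theorem exists_lift {F K : Type u} {Ω : Type u} [Field F] [Field K] [Field Ω] [IsAlgClosed Ω]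
    [Algebra F K] [Algebra.IsAlgebraic F K] (f : F →+* Ω) :
    ∃ g : K →+* Ω, g.comp (algebraMap F K) = f := by
  letI := f.toAlgebra
  exact ⟨(IsAlgClosed.lift : K →ₐ[F] Ω).toRingHom, RingHom.ext fun x => (IsAlgClosed.lift : K →ₐ[F] Ω).commutes x⟩

/-- Homomorphisms agreeing on the base and at a primitive element agree. -/
theorem hom_ext {F K Ω : Type u} [Field F] [Field K] [Field Ω] [Algebra F K] (pb : PowerBasis F K)
    (g g' : K →+* Ω) (h0 : ∀ x, g (algebraMap F K x) = g' (algebraMap F K x)) (h1 : g pb.gen = g' pb.gen) :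
    g = g' := by
  letI := (g.comp (algebraMap F K)).toAlgebra
  have := pb.algHom_ext (f := ({ g with commutes' := fun _ => rfl } : K →ₐ[F] Ω))
    (g := ({ g' with commutes' := fun x => (h0 x).symm } : K →ₐ[F] Ω)) h1
  exact RingHom.ext fun x => DFunLike.congr_fun this x

theorem isUnit_of_isUnit_coe {k : Type v} [CommRing k] {A : Type u} [CommRing A] [Algebra k A]
    {G : Type w} [Group G] [MulSemiringAction G A] [SMulCommClass G k A]
    {b : FixedPoints.subalgebra k A G} (h : IsUnit (b : A)) : IsUnit b := by
  obtain ⟨c, hc⟩ := h.exists_right_inv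
  refine IsUnit.of_mul_eq_one ⟨c, fun σ => ?_⟩ (Subtype.ext hc)
  apply h.mul_left_cancel
  rw [hc]
  conv_lhs => rw [show (b : A) = σ • (b : A) from (b.2 σ).symm, ← smul_mul', hc, smul_one]

variable (p : ℕ) [Fact p.Prime] (A : Type u) [CommRing A] [IsDomain A] [IsRegularLocalRing A]
  [IsAdicComplete (maximalIdeal A) A]

/-- The extension as a homomorphism. -/
theorem exists_hom (hdim : 2 ≤ ringKrullDim A) (k : Type v) [Field k] [Algebra k A]
    (hk : Function.Surjective (residue A ∘ algebraMap k A))
    (hkp : ∀ (L : Type v) [Field L] [Algebra k L], IsGalois k L → Module.finrank k L ≠ p)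
    (G : Type w) [Group G] [Finite G] [MulSemiringAction G A] (hcard : Nat.card G = p)
    [SMulCommClass G k A]
    (hram : ∀ P : Ideal A, P.IsPrime → P ≠ maximalIdeal A → P.inertia G = ⊥)
    (φ : FixedPoints.subalgebra k A G ≃ₐ[k] FixedPoints.subalgebra k A G) :
    ∃ ψ : A →+* A, ∀ x : FixedPoints.subalgebra k A G, ψ x = φ x := by
  classical
  haveI := Groth.PicAux.ufd_of_isRegularLocalRing A
  let B := FixedPoints.subalgebra k A G
  have hm0 : maximalIdeal A ≠ ⊥ := fun h => by
    rw [ringKrullDim_eq_zero_of_isField (IsLocalRing.isField_iff_maximalIdeal_eq.2 h)] at hdim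
    exact absurd hdim (by decide)
  haveI : FaithfulSMul G A := ⟨fun {σ σ'} h => by
    have h1 : σ'⁻¹ * σ ∈ (⊥ : Ideal A).inertia G := fun a => by
      show (σ'⁻¹ * σ) • a - a ∈ (⊥ : Ideal A)
      rw [mul_smul, h, inv_smul_smul, sub_self]; exact Submodule.zero_mem (⊥ : Ideal A)
    rw [hram ⊥ Ideal.isPrime_bot hm0.symm, Subgroup.mem_bot] at h1
    exact (inv_mul_eq_one.1 h1).symm⟩
  haveI hcomm : SMulCommClass G B A := ⟨fun σ b a => by
    show σ • ((b : A) * a) = (b : A) * σ • a
    rw [smul_mul', b.2 σ]⟩
  haveI : Algebra.IsInvariant B A G := ⟨fun a ha => ⟨⟨a, ha⟩, rfl⟩⟩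
  haveI : IsGaloisGroup G B A := ⟨inferInstance, inferInstance, inferInstance⟩
  haveI : Algebra.IsIntegral B A := Algebra.IsInvariant.isIntegral B A G
  haveI : FaithfulSMul B A := (faithfulSMul_iff_algebraMap_injective B A).2 Subtype.val_injective
  let K := FractionRing A
  let K₀ := FractionRing B
  letI := FractionRing.liftAlgebra B K
  letI := IsFractionRing.mulSemiringAction G A K
  haveI := IsGaloisGroup.to_isFractionRing_of_isIntegral G B A K₀ K
  haveI : IsGalois K₀ K := IsGaloisGroup.isGalois G K₀ K
  haveI : FiniteDimensional K₀ K := IsGaloisGroup.finiteDimensional G K₀ K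
  let pb := Field.powerBasisOfFiniteOfSeparable K₀ K
  let Ω := AlgebraicClosure K
  let φ₀ : K₀ ≃+* K₀ := IsFractionRing.ringEquivOfRingEquiv φ.toRingEquiv
  let f : K₀ →+* K := (algebraMap K₀ K).comp φ₀.toRingHom
  obtain ⟨g, hg⟩ := exists_lift (K := K) ((algebraMap K Ω).comp f)
  have hgB : ∀ b : B, g (algebraMap A K b) = algebraMap K Ω (algebraMap A K (φ b)) := by
    intro b
    have e1 : algebraMap A K (b : A) = algebraMap K₀ K (algebraMap B K₀ b) := by
      rw [← IsScalarTower.algebraMap_apply B K₀ K, IsScalarTower.algebraMap_apply B A K]; rfl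
    have e2 : φ₀ (algebraMap B K₀ b) = algebraMap B K₀ (φ b) :=
      IsFractionRing.ringEquivOfRingEquiv_algebraMap _ b
    rw [e1]
    refine (RingHom.congr_fun hg (algebraMap B K₀ b)).trans ?_
    show algebraMap K Ω (algebraMap K₀ K (φ₀ (algebraMap B K₀ b))) = _
    rw [e2, ← IsScalarTower.algebraMap_apply B K₀ K, IsScalarTower.algebraMap_apply B A K]; rfl
  -- the splitting field
  let P := minpoly K₀ pb.gen
  let Q : K[X] := P.map f
  have hQ : Q.map (algebraMap K Ω) = (P.map (algebraMap K₀ K)).map g := by
    simp only [Q, Polynomial.map_map, hg]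
  have hsep : Q.Separable := Polynomial.Separable.map (Algebra.IsSeparable.isSeparable K₀ pb.gen)
  let L : IntermediateField K Ω := IntermediateField.adjoin K (Q.rootSet Ω)
  haveI : IsSplittingField K L Q := IntermediateField.adjoin_rootSet_isSplittingField (IsAlgClosed.splits _)
  haveI : IsGalois K L := IsGalois.of_separable_splitting_field hsep
  haveI : FiniteDimensional K L := Polynomial.IsSplittingField.finiteDimensional L Q
  have hroot : ∀ y ∈ Q.rootSet Ω, ∃ σ : G, y = g (σ • pb.gen) := by
    intro y hy
    rw [Polynomial.mem_rootSet, aeval_def, ← eval_map, hQ] at hy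
    have hs : (P.map (algebraMap K₀ K)).Splits := Normal.splits inferInstance pb.gen
    have hne : (P.map (algebraMap K₀ K)) ≠ 0 := Polynomial.map_ne_zero (minpoly.ne_zero (IsIntegral.of_finite K₀ _))
    have hy' : y ∈ ((P.map (algebraMap K₀ K)).map g).roots :=
      (mem_roots (Polynomial.map_ne_zero hne)).2 hy.2
    rw [hs.roots_map, Multiset.mem_map] at hy'
    obtain ⟨x, hx, rfl⟩ := hy'
    obtain ⟨τ, hτ⟩ := minpoly.exists_algEquiv_of_root' (Algebra.IsAlgebraic.isAlgebraic pb.gen)
      (show aeval x (minpoly K₀ pb.gen) = 0 by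
        rw [aeval_def, ← eval_map]; exact ((mem_roots hne).1 hx))
    obtain ⟨σ, rfl⟩ := (IsGaloisGroup.mulEquivAlgEquiv G K₀ K).surjective τ
    exact ⟨σ, congrArg g hτ.symm⟩
  have hgen : g pb.gen ∈ Q.rootSet Ω := by
    rw [Polynomial.mem_rootSet]
    refine ⟨fun h => minpoly.ne_zero (IsIntegral.of_finite K₀ pb.gen)
      ((Polynomial.map_eq_zero f).1 h), ?_⟩
    rw [aeval_def, ← eval_map, hQ, eval_map_apply, eval_map, ← aeval_def, minpoly.aeval, map_zero]
  have hgL : ∀ x : K, g x ∈ L := by
    intro x
    let S : IntermediateField K₀ K :=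
      { L.toSubfield.comap g with
        algebraMap_mem' := fun c => by
          show g (algebraMap K₀ K c) ∈ L
          rw [← RingHom.comp_apply, hg]
          exact L.algebraMap_mem _ }
    have : IntermediateField.adjoin K₀ {pb.gen} ≤ S :=
      IntermediateField.adjoin_simple_le_iff.2 (IntermediateField.subset_adjoin K _ hgen)
    rw [IntermediateField.adjoin_eq_top_of_algebra K₀ ({pb.gen} : Set K) pb.adjoin_gen_eq_top] at this
    exact this IntermediateField.mem_top
  let gL : K →+* L := g.codRestrict L.toSubfield fun x => hgL x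
  have hgL0 : ∀ c : K₀, gL (algebraMap K₀ K c) = algebraMap K L (f c) := fun c =>
    Subtype.ext (RingHom.congr_fun hg c)
  -- automorphisms of `L` come from `G`
  have hτσ : ∀ τ : L ≃ₐ[K] L, ∃ σ : G, ∀ x : K, τ (gL x) = gL (σ • x) := by
    intro τ
    have hmem : ((τ (gL pb.gen) : L) : Ω) ∈ Q.rootSet Ω := by
      rw [Polynomial.mem_rootSet] at hgen ⊢
      refine ⟨hgen.1, ?_⟩
      have h1 : aeval (gL pb.gen) Q = 0 := Subtype.ext
        ((Polynomial.aeval_algHom_apply L.val (gL pb.gen) Q).symm.trans hgen.2)
      show aeval (L.val (τ.toAlgHom (gL pb.gen))) Q = 0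
      rw [Polynomial.aeval_algHom_apply, Polynomial.aeval_algHom_apply, h1, map_zero, map_zero]
    obtain ⟨σ, hσ⟩ := hroot _ hmem
    refine ⟨σ, fun x => ?_⟩
    have key : (L.val.toRingHom.comp (τ.toAlgHom.toRingHom.comp gL)) =
        g.comp (MulSemiringAction.toRingHom G K σ) := by
      refine hom_ext pb _ _ (fun c => ?_) hσ
      show ((τ (gL (algebraMap K₀ K c)) : L) : Ω) = g (σ • algebraMap K₀ K c)
      rw [hgL0, τ.commutes, smul_algebraMap, ← hgL0]
      rfl
    exact Subtype.ext (RingHom.congr_fun key x)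
  choose sg hsg using hτσ
  have hLtop : ∀ τ τ' : L ≃ₐ[K] L, (∀ x, τ (gL x) = τ' (gL x)) → τ = τ' := by
    intro τ τ' h
    have : τ.toAlgHom = τ'.toAlgHom := by
      refine IntermediateField.algHom_ext_of_eq_adjoin (K := L) (F := K) (E := Ω) (S := L) (s := Q.rootSet Ω) rfl fun y hy => ?_
      obtain ⟨σ, rfl⟩ := hroot y hy
      exact h (σ • pb.gen)
    exact AlgEquiv.ext fun y => DFunLike.congr_fun this y
  have hinjg : Function.Injective gL := gL.injective
  haveI : FaithfulSMul G K := IsFractionRing.faithfulSMul G A K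
  let ρ : (L ≃ₐ[K] L) →* G :=
    MonoidHom.mk' sg fun τ τ' => FaithfulSMul.eq_of_smul_eq_smul (α := K) fun x => hinjg (by
      rw [← hsg, mul_smul, ← hsg]
      show τ (τ' (gL x)) = τ (gL (sg τ' • x))
      rw [← hsg τ'])
  have hρ : Function.Injective ρ := fun τ τ' h => hLtop τ τ' fun x => by
    rw [hsg, hsg]; exact congrArg (fun s => gL (s • x)) h
  -- integrality
  have hintB : ∀ a : A, IsIntegral A (g (algebraMap A K a)) := by
    intro a
    obtain ⟨R, hRm, hR⟩ := Algebra.IsIntegral.isIntegral (R := B) a
    refine ⟨R.map ((algebraMap B A).comp φ.toRingEquiv.toRingHom), hRm.map _, ?_⟩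
    have h0 := congrArg (fun z => g (algebraMap A K z)) hR
    simp only [map_zero] at h0
    rw [← RingHom.comp_apply g (algebraMap A K), Polynomial.hom_eval₂] at h0
    rw [Polynomial.eval₂_map]
    have e : (algebraMap A Ω).comp ((algebraMap B A).comp φ.toRingEquiv.toRingHom) =
        (g.comp (algebraMap A K)).comp (algebraMap B A) := RingHom.ext fun b => by
      show algebraMap A Ω (φ b : A) = g (algebraMap A K (b : A))
      rw [hgB, ← IsScalarTower.algebraMap_apply A K Ω]
    rw [e]
    exact h0
  rcases (Nat.dvd_prime Fact.out).1 (hcard ▸ Subgroup.card_dvd_of_injective ρ hρ :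
      Nat.card (L ≃ₐ[K] L) ∣ p) with h1 | hp
  · -- `L = K`
    rw [IsGalois.card_aut_eq_finrank] at h1
    have hbot : L = ⊥ := IntermediateField.finrank_eq_one_iff.1 h1
    have hval : ∀ a : A, ∃ a' : A, algebraMap K Ω (algebraMap A K a') = g (algebraMap A K a) := by
      intro a
      obtain ⟨r, hr⟩ := IntermediateField.mem_bot.1 (hbot ▸ hgL (algebraMap A K a))
      have hi : IsIntegral A r := (isIntegral_algebraMap_iff (algebraMap K Ω).injective).1 (hr ▸ hintB a)
      obtain ⟨a', rfl⟩ := IsIntegrallyClosed.isIntegral_iff.1 hi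
      exact ⟨a', hr⟩
    choose ψ hψ using hval
    have hi : Function.Injective fun a' : A => algebraMap K Ω (algebraMap A K a') :=
      (algebraMap K Ω).injective.comp (IsFractionRing.injective A K)
    refine ⟨{ toFun := ψ, map_one' := hi (by simp [hψ]), map_mul' := fun a a' => hi (by simp [hψ]),
              map_zero' := hi (by simp [hψ]), map_add' := fun a a' => hi (by simp [hψ]) }, fun b => hi ?_⟩
    show algebraMap K Ω (algebraMap A K (ψ b)) = _
    rw [hψ, hgB]
  · -- a cyclic cover, impossible
    exfalso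
    rw [IsGalois.card_aut_eq_finrank] at hp
    refine CyclicPurity.no_cover p A hdim k hk hkp L hp fun q hq hqm τ hτ => ?_
    let C := integralClosure A L
    have hintL : ∀ a : A, IsIntegral A (gL (algebraMap A K a)) := fun a =>
      (isIntegral_algHom_iff (L.val.restrictScalars A) Subtype.val_injective).1 (hintB a)
    let ga : A →+* C := (gL.comp (algebraMap A K)).codRestrict C.toSubring fun a => hintL a
    have hga : ∀ b : B, ga b = algebraMap A C (φ b) := fun b => Subtype.ext (Subtype.ext (by
      show g (algebraMap A K (b : A)) = algebraMap A Ω (φ b : A)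
      rw [hgB, ← IsScalarTower.algebraMap_apply A K Ω]))
    haveI : (q.comap ga).IsPrime := Ideal.comap_isPrime _ _
    have hσ : sg τ ≠ 1 := fun h => hτ (hρ ((show ρ τ = 1 from h).trans ρ.map_one.symm))
    have hne : q.comap ga ≠ maximalIdeal A := by
      intro h
      refine hqm ?_
      haveI : (q.under A).IsPrime := Ideal.IsPrime.under A q
      have hle : (maximalIdeal A).under B ≤ (q.under A).under B := by
        intro b hb
        rw [Ideal.under_def, Ideal.mem_comap] at hb ⊢
        have hb' : ((φ.symm b : B) : A) ∈ q.comap ga := h.symm ▸ (fun hu => hb (by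
          have := (isUnit_of_isUnit_coe hu).map φ
          rw [φ.apply_symm_apply] at this
          exact this.map B.val))
        rw [Ideal.mem_comap, hga, φ.apply_symm_apply] at hb'
        exact hb'
      have heq : (q.under A).under B = (maximalIdeal A).under B :=
        le_antisymm (Ideal.comap_mono (IsLocalRing.le_maximalIdeal Ideal.IsPrime.ne_top')) hle
      have hmax : ((q.under A).under B).IsMaximal := by
        rw [heq, Ideal.under_def]; exact Ideal.isMaximal_comap_of_isIntegral_of_isMaximal (maximalIdeal A)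
      exact IsLocalRing.eq_maximalIdeal
        (Ideal.isMaximal_of_isIntegral_of_isMaximal_comap (R := B) (q.under A) hmax)
    obtain ⟨a, ha⟩ : ∃ a : A, sg τ • a - a ∉ q.comap ga := by
      by_contra! hall
      have := hram _ inferInstance hne
      exact hσ (Subgroup.mem_bot.1 (this ▸ (show sg τ ∈ (q.comap ga).inertia G from hall)))
    refine ⟨ga a, ga (sg τ • a), ?_, ?_⟩
    · show gL (algebraMap A K (sg τ • a)) = τ (gL (algebraMap A K a))
      rw [hsg, Algebra.algebraMap_eq_smul_one (sg τ • a), Algebra.algebraMap_eq_smul_one a,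
        SMulDistribClass.smul_distrib_smul, smul_one]
    · rw [← map_sub]
      exact ha

/-- Every automorphism of the invariants extends. -/
theorem exists_algEquiv (hdim : 2 ≤ ringKrullDim A) (k : Type v) [Field k] [Algebra k A]
    (hk : Function.Surjective (residue A ∘ algebraMap k A))
    (hkp : ∀ (L : Type v) [Field L] [Algebra k L], IsGalois k L → Module.finrank k L ≠ p)
    (G : Type w) [Group G] [Finite G] [MulSemiringAction G A] (hcard : Nat.card G = p)
    [SMulCommClass G k A]
    (hram : ∀ P : Ideal A, P.IsPrime → P ≠ maximalIdeal A → P.inertia G = ⊥)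
    (φ : FixedPoints.subalgebra k A G ≃ₐ[k] FixedPoints.subalgebra k A G) :
    ∃ ψ : A ≃ₐ[k] A, ∀ x : FixedPoints.subalgebra k A G, ψ x = φ x := by
  classical
  haveI : Fintype G := Fintype.ofFinite G
  obtain ⟨ψ, hψ⟩ := exists_hom p A hdim k hk hkp G hcard hram φ
  obtain ⟨ψ', hψ'⟩ := exists_hom p A hdim k hk hkp G hcard hram φ.symm
  -- an endomorphism fixing the invariants is bijective
  have hbij : ∀ h : A →+* A, (∀ x : FixedPoints.subalgebra k A G, h x = x) → Function.Bijective h := by
    intro h hh
    have key : ∀ P : Polynomial A, (∀ (i : ℕ) (σ : G), σ • P.coeff i = P.coeff i) →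
        P.map h = P := fun P hP => Polynomial.ext fun i => by
      rw [Polynomial.coeff_map]; exact hh ⟨P.coeff i, hP i⟩
    let F : A → A[X] := fun a => ∏ σ : G, (X - Polynomial.C (σ • a))
    have hF : ∀ a, (F a).map h = F a := by
      intro a
      refine key _ fun i τ => ?_
      have : (F a).map (MulSemiringAction.toRingHom G A τ) = F a := by
        simp only [F, Polynomial.map_prod, Polynomial.map_sub, map_X, map_C]
        exact Fintype.prod_equiv (Equiv.mulLeft τ) _ _ fun σ => by
          rw [Equiv.coe_mulLeft, mul_smul]; rfl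
      have := congrArg (fun P => P.coeff i) this
      rwa [Polynomial.coeff_map] at this
    have hroots : ∀ (a : A) (σ : G), ∃ τ : G, h (σ • a) = τ • a := by
      intro a σ
      have h0 : ((F a).map h).eval (h (σ • a)) = 0 := by
        rw [Polynomial.eval_map_apply, show (F a).eval (σ • a) = 0 by
          simp only [F, eval_prod]; exact Finset.prod_eq_zero (Finset.mem_univ σ) (by simp), map_zero]
      rw [hF] at h0
      simp only [F, eval_prod, Finset.prod_eq_zero_iff, eval_sub, eval_X, eval_C, sub_eq_zero,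
        Finset.mem_univ, true_and] at h0
      exact h0
    have hinj : Function.Injective h := by
      rw [injective_iff_map_eq_zero]
      intro a ha
      by_contra hne
      let N : A := ∏ σ : G, σ • a
      have hNfix : ∀ τ : G, τ • N = N := fun τ => by
        rw [Finset.smul_prod']
        exact Fintype.prod_equiv (Equiv.mulLeft τ) _ _ fun σ => (mul_smul τ σ a).symm
      have h1 : h N = N := hh ⟨N, hNfix⟩
      have h2 : h N = 0 := by
        rw [map_prod]; exact Finset.prod_eq_zero (Finset.mem_univ (1 : G)) (by rw [one_smul, ha])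
      rw [h2] at h1
      obtain ⟨σ, -, hσ⟩ := Finset.prod_eq_zero_iff.1 h1.symm
      exact hne ((smul_eq_zero_iff_eq σ).1 hσ)
    refine ⟨hinj, fun a => ?_⟩
    let S := Finset.univ.image fun σ : G => σ • a
    have hmaps : Set.MapsTo h S S := fun x hx => by
      simp only [S, Finset.coe_image, Finset.coe_univ, Set.image_univ, Set.mem_range] at hx ⊢
      obtain ⟨σ, rfl⟩ := hx
      obtain ⟨τ, hτ⟩ := hroots a σ
      exact ⟨τ, hτ.symm⟩
    obtain ⟨x, -, hx⟩ := Finset.surjOn_of_injOn_of_card_le h hmaps hinj.injOn le_rfl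
      (show a ∈ (S : Set A) by
        simp only [S, Finset.coe_image, Finset.coe_univ, Set.image_univ, Set.mem_range]
        exact ⟨1, one_smul G a⟩)
    exact ⟨x, hx⟩
  have b1 := hbij (ψ.comp ψ') fun x => by rw [RingHom.comp_apply, hψ', hψ, AlgEquiv.apply_symm_apply]
  have b2 := hbij (ψ'.comp ψ) fun x => by rw [RingHom.comp_apply, hψ, hψ', AlgEquiv.symm_apply_apply]
  refine ⟨AlgEquiv.ofRingEquiv (f := RingEquiv.ofBijective ψ
    ⟨(show Function.Injective (ψ' ∘ ψ) from b2.1).of_comp, (show Function.Surjective (ψ ∘ ψ') from b1.2).of_comp⟩) fun c => ?_, hψ⟩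
  exact (hψ (algebraMap k _ c)).trans (congrArg Subtype.val (φ.commutes c))

end Groth.Agf.CyclicExtend
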