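import Groth.Agent.Purity.GaloisCover
import Groth.Agent.EtaleAlgebra.HensDomain
import Groth.Agent.PicAux.RegularUFD
import Mathlib

/-!
# Cyclic covers of a complete regular local ring étale in codimension one

If the residue field has no Galois extension of degree `p`, a complete regular local ring of
dimension at least two has no degree `p` Galois extension of its fraction field with free action in
codimension one.
-/

set_option autoImplicit false
universe u v

open IsLocalRing Pointwise

namespace Groth.Agf.CyclicPurity

/-- A finite separable field extension in any universe has an isomorphic copy in the universe of the base. -/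
theorem exists_copy (k : Type v) [Field k] (F : Type u) [Field F] [Algebra k F] [FiniteDimensional k F]
    [IsGalois k F] : ∃ (L : Type v) (_ : Field L) (_ : Algebra k L), IsGalois k L ∧
      Module.finrank k L = Module.finrank k F := by
  obtain ⟨α, hα⟩ := Field.exists_primitive_element k F
  have hint : IsIntegral k α := IsIntegral.of_finite k α
  haveI : Fact (Irreducible (minpoly k α)) := ⟨minpoly.irreducible hint⟩
  let φ : AdjoinRoot (minpoly k α) →ₐ[k] F :=
    AdjoinRoot.liftAlgHom (minpoly k α) (Algebra.ofId k F) α (minpoly.aeval k α)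
  have hsurj : Function.Surjective φ := by
    rw [← AlgHom.range_eq_top, eq_top_iff, ← IntermediateField.top_toSubalgebra, ← hα,
      IntermediateField.adjoin_simple_toSubalgebra_of_isAlgebraic hint.isAlgebraic, Algebra.adjoin_le_iff]
    rintro _ rfl
    exact ⟨AdjoinRoot.root _, AdjoinRoot.liftAlgHom_root _ _ _ _⟩
  let e : AdjoinRoot (minpoly k α) ≃ₐ[k] F := AlgEquiv.ofBijective φ ⟨φ.toRingHom.injective, hsurj⟩
  exact ⟨AdjoinRoot (minpoly k α), inferInstance, inferInstance, IsGalois.of_algEquiv e.symm,
    e.toLinearEquiv.finrank_eq⟩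

/-- Trivial inertia gives étaleness over the ring of invariants. -/
theorem isEtaleAt_of_inertia_eq_bot (A C : Type u) [CommRing A] [CommRing C] [Algebra A C]
    (H : Type u) [Group H] [Finite H] [MulSemiringAction H C] [SMulCommClass H A C]
    (hinj : Function.Injective (algebraMap A C))
    (hfix : ∀ c : C, (∀ h : H, h • c = c) → c ∈ Set.range (algebraMap A C))
    (q : Ideal C) [q.IsPrime] (hq : q.inertia H = ⊥) : Algebra.IsEtaleAt A q := by
  obtain ⟨g, hg, het⟩ := Groth.Purity.exists_etale_away (G := H) (R := C) q
  let e : FixedPoints.subring C (q.inertia H) ≃+* C := RingEquiv.ofBijective (FixedPoints.subring C (q.inertia H)).subtype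
    ⟨Subtype.val_injective, fun c => ⟨⟨c, fun m => by
      have hm : m.1 ∈ (⊥ : Subgroup H) := hq ▸ m.2
      show m.1 • c = c
      rw [Subgroup.mem_bot.1 hm, one_smul]⟩, rfl⟩⟩
  let f : A →+* FixedPoints.subring C H := (algebraMap A C).codRestrict _ fun a h => smul_algebraMap h a
  have hf : Function.Bijective f := ⟨fun a b hab => hinj (congrArg Subtype.val hab),
    fun x => let ⟨a, ha⟩ := hfix x x.2; ⟨a, Subtype.ext ha⟩⟩
  letI := Groth.Purity.inclAlg H C (q.inertia H)
  have hpow : (Submonoid.powers g).map (e : FixedPoints.subring C (q.inertia H) ≃* C).toMonoidHom = Submonoid.powers (e g) :=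
    Submonoid.map_powers _ g
  let eL : Localization.Away g ≃+* Localization.Away (e g) :=
    IsLocalization.ringEquivOfRingEquiv (M := Submonoid.powers g) (T := Submonoid.powers (e g))
      (Localization.Away g) (Localization.Away (e g)) e hpow
  haveI : Algebra.Etale A (Localization.Away (e g)) := by
    rw [← RingHom.etale_algebraMap]
    have h1 : (algebraMap A (Localization.Away (e g))) =
        eL.toRingHom.comp ((algebraMap (FixedPoints.subring C H) (Localization.Away g)).comp f) := by
      refine RingHom.ext fun a => ?_
      show _ = eL (algebraMap (FixedPoints.subring C H) (Localization.Away g) (f a))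
      rw [IsScalarTower.algebraMap_apply (FixedPoints.subring C H) (FixedPoints.subring C (q.inertia H)) (Localization.Away g)]
      show _ = IsLocalization.ringEquivOfRingEquiv _ _ e hpow (algebraMap (FixedPoints.subring C (q.inertia H)) (Localization.Away g) _)
      rw [IsLocalization.ringEquivOfRingEquiv_eq, IsScalarTower.algebraMap_apply A C (Localization.Away (e g))]
      rfl
    rw [h1]
    exact RingHom.Etale.stableUnderComposition _ _
      (RingHom.Etale.stableUnderComposition _ _ (RingHom.Etale.of_bijective hf)
        (RingHom.etale_algebraMap.2 het)) (RingHom.Etale.of_bijective eL.bijective)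
  exact Groth.Purity.isEtaleAt_of_away (g := e g) hg

variable (p : ℕ) [Fact p.Prime] (A : Type u) [CommRing A] [IsDomain A] [IsRegularLocalRing A]
  [IsAdicComplete (maximalIdeal A) A]

theorem no_cover (hdim : 2 ≤ ringKrullDim A) (k : Type v) [Field k] [Algebra k A]
    (hk : Function.Surjective (residue A ∘ algebraMap k A))
    (hkp : ∀ (L : Type v) [Field L] [Algebra k L], IsGalois k L → Module.finrank k L ≠ p)
    (L : Type u) [Field L] [Algebra A L] [Algebra (FractionRing A) L]
    [IsScalarTower A (FractionRing A) L] [FiniteDimensional (FractionRing A) L]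
    [IsGalois (FractionRing A) L] (hdeg : Module.finrank (FractionRing A) L = p)
    (hfree : ∀ (q : Ideal (integralClosure A L)), q.IsPrime → q.under A ≠ maximalIdeal A →
      ∀ τ : L ≃ₐ[FractionRing A] L, τ ≠ 1 →
        ∃ c c' : integralClosure A L, (c' : L) = τ c ∧ c' - c ∉ q) : False := by
  classical
  haveI := Groth.PicAux.ufd_of_isRegularLocalRing A
  haveI : HenselianLocalRing A :=
    { is_henselian := fun f hf a₀ h₁ h₂ =>
        (IsAdicComplete.henselianRing A (maximalIdeal A)).is_henselian f hf a₀ h₁ (h₂.map _) }
  let K := FractionRing A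
  let C := integralClosure A L
  haveI : IsFractionRing C L := integralClosure.isFractionRing_of_finite_extension K L
  haveI : IsIntegrallyClosed C := integralClosure.isIntegrallyClosedOfFiniteExtension K
  haveI : Module.Finite A C := IsIntegralClosure.finite A K L C
  haveI : IsLocalRing C := Groth.EtaleAlgebra.isLocalRing_of_finite_domain A C
  haveI : IsNoetherianRing C := IsNoetherianRing.of_finite A C
  haveI : IsLocalHom (algebraMap A C) := Groth.EtaleAlgebra.isLocalHom_of_isIntegral A C
  have hinjL : Function.Injective (algebraMap A L) := by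
    rw [IsScalarTower.algebraMap_eq A K L]
    exact (algebraMap K L).injective.comp (IsFractionRing.injective A K)
  have hinj : Function.Injective (algebraMap A C) := fun a b h => hinjL (congrArg (Subtype.val) h)
  haveI : FaithfulSMul A C := (faithfulSMul_iff_algebraMap_injective A C).2 hinj
  let Φ := galRestrict A K L C
  have hΦ : ∀ τ (c : C), ((Φ τ c : C) : L) = τ c := fun τ c => algebraMap_galRestrict_apply A τ c
  haveI : Finite (C ≃ₐ[A] C) := Finite.of_equiv _ Φ.toEquiv
  have hcard : Nat.card (C ≃ₐ[A] C) = p := by
    rw [← Nat.card_congr Φ.toEquiv, IsGalois.card_aut_eq_finrank, hdeg]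
  have hfix : ∀ c : C, (∀ h : C ≃ₐ[A] C, h • c = c) → c ∈ Set.range (algebraMap A C) := by
    intro c hc
    obtain ⟨r, hr⟩ := (IsGalois.mem_range_algebraMap_iff_fixed (F := K) (c : L)).2 fun τ => by
      rw [← hΦ]; exact congrArg Subtype.val (hc (Φ τ))
    have hi : IsIntegral A r := by
      have h2 : IsIntegral A (algebraMap K L r) := by rw [hr]; exact c.2
      exact (isIntegral_algebraMap_iff (algebraMap K L).injective).1 h2
    obtain ⟨a, rfl⟩ := IsIntegrallyClosed.isIntegral_iff.1 hi
    exact ⟨a, Subtype.ext ((IsScalarTower.algebraMap_apply A K L a).trans hr)⟩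
  -- unramified in codimension one
  obtain ⟨d, hd⟩ : ∃ d : ℕ, ringKrullDim A = (d : WithBot ℕ∞) := by
    obtain ⟨a, ha⟩ := WithBot.ne_bot_iff_exists.mp (ringKrullDim_ne_bot (R := A))
    obtain ⟨d, hd⟩ := ENat.ne_top_iff_exists.mp (fun h : a = ⊤ => ringKrullDim_ne_top (R := A) (by rw [← ha, h]; rfl))
    exact ⟨d, by rw [← ha, ← hd]; rfl⟩
  have hd2 : 2 ≤ d := by rw [hd] at hdim; exact_mod_cast hdim
  have hunr : ∀ (q : Ideal C) (_ : q.IsPrime), q.height = 1 → Algebra.IsUnramifiedAt A q := by
    intro q hq hq1
    have hnm : q.under A ≠ maximalIdeal A := by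
      intro h
      have h1 := Groth.Purity.height_under_eq hinj q
      rw [h, hq1] at h1
      have h2 := IsLocalRing.maximalIdeal_height_eq_ringKrullDim (R := A)
      rw [h1, hd] at h2
      have : (1 : ℕ) = d := by exact_mod_cast h2
      omega
    have hI : q.inertia (C ≃ₐ[A] C) = ⊥ := by
      refine eq_bot_iff.2 fun σ hσ => Subgroup.mem_bot.2 ?_
      by_contra hne
      obtain ⟨τ, rfl⟩ := Φ.surjective σ
      obtain ⟨c, c', hc', hcq⟩ := hfree q hq hnm τ fun h => hne (by rw [h, map_one])
      refine hcq ?_
      have : Φ τ • c = c' := Subtype.ext ((hΦ τ c).trans hc'.symm)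
      rw [← this]
      exact hσ c
    haveI := isEtaleAt_of_inertia_eq_bot A C (C ≃ₐ[A] C) hinj hfix q hI
    infer_instance
  haveI hetale := Groth.Purity.etale_of_codim_one d A hd (by omega) C hinj hunr
  haveI : Module.Free A C := Module.free_of_flat_of_isLocalRing
  have hrank : Module.finrank A C = p := by
    rw [← IsFractionRing.finrank_eq A K C L, hdeg]
  -- the residue extension
  let kA := ResidueField A
  let kC := ResidueField C
  letI : Algebra k C := ((algebraMap A C).comp (algebraMap k A)).toAlgebra
  haveI : IsScalarTower k A C := IsScalarTower.of_algebraMap_eq fun _ => rfl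
  have hkbij : Function.Bijective ((residue A).comp (algebraMap k A)) :=
    ⟨RingHom.injective _, hk⟩
  have hfinrank : Module.finrank k kC = p := by
    rw [← hrank, IsLocalRing.finrank_eq_finrank_residueField (R := A) (S := C)]
    exact Algebra.finrank_eq_of_equiv_equiv (RingEquiv.ofBijective _ hkbij) (RingEquiv.refl kC)
      (RingHom.ext fun _ => rfl)
  haveI : FiniteDimensional k kC := Module.finite_of_finrank_pos (hfinrank ▸ (Fact.out : p.Prime).pos)
  let res : (C ≃ₐ[A] C) → (kC ≃ₐ[k] kC) := fun σ =>
    AlgEquiv.ofRingEquiv (f := ResidueField.mapEquiv σ.toRingEquiv) fun x => by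
      show residue C (σ (algebraMap A C (algebraMap k A x))) = _
      rw [σ.commutes]
      rfl
  have hres : Function.Injective res := by
    intro σ σ' h
    refine AlgEquiv.coe_algHom_injective (Algebra.FormallyUnramified.ext_of_iInf (I := maximalIdeal C)
      (Ideal.iInf_pow_eq_bot_of_isLocalRing _ (maximalIdeal.isMaximal C).ne_top) fun x => ?_)
    exact DFunLike.congr_fun h (residue C x)
  haveI hgal : IsGalois k kC := IsGalois.of_card_aut_eq_finrank _ _ (le_antisymm
    (by rw [Nat.card_eq_fintype_card]; exact AlgEquiv.card_le) (by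
      rw [hfinrank, ← hcard]
      exact Nat.card_le_card_of_injective res hres))
  obtain ⟨L', _, _, h1, h2⟩ := exists_copy k kC
  exact hkp L' h1 (h2.trans hfinrank)

end Groth.Agf.CyclicPurity
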