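import Groth.Prelude.Def_W4bk4grossh111Obs
import Mathlib.AlgebraicGeometry.Morphisms.Affine
import Mathlib.AlgebraicGeometry.Morphisms.FiniteType
import Mathlib.AlgebraicGeometry.Noetherian
import Mathlib.RingTheory.Jacobson.Ring
import Mathlib.FieldTheory.IsAlgClosed.Basic

/-! Global functions of schemes over a field, as `k`-algebras, and their values at points. -/

set_option autoImplicit false
universe u

open CategoryTheory MonoidalCategory CartesianMonoidalCategory MonObj GrpObj AlgebraicGeometry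
open scoped TensorProduct

noncomputable section

namespace Groth.Agf

variable {k : Type u} [Field k]

/-- Global functions of a scheme over `k`. -/
abbrev Fn (X : Over (Spec (CommRingCat.of k))) : Type u := Γ(X.left, ⊤)

/-- The constants. -/
def constHom (X : Over (Spec (CommRingCat.of k))) : k →+* Fn X :=
  ((Scheme.ΓSpecIso (CommRingCat.of k)).inv ≫ X.hom.appTop).hom

/-- Global functions form a `k`-algebra. -/
scoped instance fnAlgebra (X : Over (Spec (CommRingCat.of k))) : Algebra k (Fn X) := (constHom X).toAlgebra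

theorem algebraMap_fn (X : Over (Spec (CommRingCat.of k))) (c : k) :
    algebraMap k (Fn X) c = X.hom.appTop ((Scheme.ΓSpecIso (CommRingCat.of k)).inv c) := rfl

variable {X Y Z : Over (Spec (CommRingCat.of k))}

theorem appTop_algebraMap (f : X ⟶ Y) (c : k) :
    f.left.appTop (algebraMap k (Fn Y) c) = algebraMap k (Fn X) c := by
  show (Y.hom.appTop ≫ f.left.appTop) _ = _
  rw [← Scheme.Hom.comp_appTop, Over.w]
  rfl

/-- Pull back functions. -/
def pull (f : X ⟶ Y) : Fn Y →ₐ[k] Fn X :=
  { f.left.appTop.hom with commutes' := appTop_algebraMap f }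

theorem pull_apply (f : X ⟶ Y) (a : Fn Y) : pull f a = f.left.appTop a := rfl

@[simp] theorem pull_comp (f : X ⟶ Y) (g : Y ⟶ Z) (a : Fn Z) : pull (f ≫ g) a = pull f (pull g a) := rfl

theorem pull_id (X : Over (Spec (CommRingCat.of k))) : pull (𝟙 X) = AlgHom.id k (Fn X) := rfl

theorem hom_ext_fn [IsAffine Y.left] {f g : X ⟶ Y} (h : pull f = pull g) : f = g := by
  apply Over.OverMorphism.ext
  apply ext_of_isAffine
  ext a
  exact DFunLike.congr_fun h a

section Pt

variable {B B' : Type u} [CommRing B] [Algebra k B] [CommRing B'] [Algebra k B']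

/-- Functions on the test scheme `Spec B`. -/
def ptFn (B : Type u) [CommRing B] [Algebra k B] : Fn (VecGrp.pt k B) →ₐ[k] B :=
  { (Scheme.ΓSpecIso (CommRingCat.of B)).hom.hom with
    commutes' := fun c => by
      show (((Scheme.ΓSpecIso (CommRingCat.of k)).inv ≫ (Spec.map (CommRingCat.ofHom (algebraMap k B))).appTop) ≫
        (Scheme.ΓSpecIso (CommRingCat.of B)).hom) c = _
      rw [Category.assoc, Scheme.ΓSpecIso_naturality, Iso.inv_hom_id_assoc]
      rfl }

theorem ptFn_bijective : Function.Bijective (ptFn (k := k) B) :=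
  (Scheme.ΓSpecIso (CommRingCat.of B)).commRingCatIsoToRingEquiv.bijective

/-- The value of functions at a point. -/
def evalPt (g : VecGrp.pt k B ⟶ X) : Fn X →ₐ[k] B := (ptFn B).comp (pull g)

theorem evalPt_apply (g : VecGrp.pt k B ⟶ X) (a : Fn X) : evalPt g a = ptFn B (pull g a) := rfl

theorem evalPt_comp (g : VecGrp.pt k B ⟶ X) (f : X ⟶ Y) : evalPt (g ≫ f) = (evalPt g).comp (pull f) := rfl

theorem evalPt_comp_apply (g : VecGrp.pt k B ⟶ X) (f : X ⟶ Y) (a : Fn Y) :
    evalPt (g ≫ f) a = evalPt g (pull f a) := rfl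

theorem pt_ext [IsAffine X.left] {g h : VecGrp.pt k B ⟶ X} (e : evalPt g = evalPt h) : g = h := by
  apply hom_ext_fn
  exact AlgHom.ext fun a => ptFn_bijective.1 (DFunLike.congr_fun e a)

theorem ptFn_ptMap (φ : B →ₐ[k] B') (a : Fn (VecGrp.pt k B)) :
    ptFn B' (pull (VecGrp.ptMap φ) a) = φ (ptFn B a) := by
  show ((Spec.map (CommRingCat.ofHom φ.toRingHom)).appTop ≫ (Scheme.ΓSpecIso (CommRingCat.of B')).hom) a =
    ((Scheme.ΓSpecIso (CommRingCat.of B)).hom ≫ CommRingCat.ofHom φ.toRingHom) a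
  rw [Scheme.ΓSpecIso_naturality]

theorem evalPt_ptMap (φ : B →ₐ[k] B') (g : VecGrp.pt k B ⟶ X) :
    evalPt (VecGrp.ptMap φ ≫ g) = φ.comp (evalPt g) :=
  AlgHom.ext fun a => ptFn_ptMap φ (pull g a)

variable (X) in
/-- The point given by values of functions. -/
def ptOf [IsAffine X.left] (φ : Fn X →ₐ[k] B) : VecGrp.pt k B ⟶ X :=
  Over.homMk (Spec.map (CommRingCat.ofHom φ.toRingHom) ≫ X.left.isoSpec.inv) (by
    show (Spec.map _ ≫ X.left.isoSpec.inv) ≫ X.hom = Spec.map _
    rw [Category.assoc, ← Scheme.isoSpec_inv_naturality, Scheme.isoSpec_Spec_inv, ← Spec.map_comp, ← Spec.map_comp]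
    congr 1
    ext c
    exact φ.commutes c)

@[simp] theorem evalPt_ptOf [IsAffine X.left] (φ : Fn X →ₐ[k] B) : evalPt (ptOf X φ) = φ := by
  refine AlgHom.ext fun a => ?_
  show ((Spec.map (CommRingCat.ofHom φ.toRingHom) ≫ X.left.isoSpec.inv).appTop ≫
    (Scheme.ΓSpecIso (CommRingCat.of B)).hom) a = φ a
  rw [Scheme.Hom.comp_appTop, Category.assoc, Scheme.ΓSpecIso_naturality]
  have h : X.left.isoSpec.inv.appTop ≫ (Scheme.ΓSpecIso Γ(X.left, ⊤)).hom = 𝟙 _ := by
    rw [← Scheme.toSpecΓ_appTop X.left, ← Scheme.Hom.comp_appTop, Scheme.toSpecΓ_isoSpec_inv]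
    rfl
  show ((X.left.isoSpec.inv.appTop ≫ (Scheme.ΓSpecIso Γ(X.left, ⊤)).hom) ≫ CommRingCat.ofHom φ.toRingHom) a = φ a
  rw [h]
  rfl

end Pt

section Univ

variable (X) [IsAffine X.left]

/-- The universal point of an affine scheme. -/
def univ : VecGrp.pt k (Fn X) ⟶ X := ptOf X (AlgHom.id k (Fn X))

@[simp] theorem evalPt_univ : evalPt (univ X) = AlgHom.id k (Fn X) := evalPt_ptOf _

theorem evalPt_univ_apply (a : Fn X) : evalPt (univ X) a = a := by simp

variable {X}

theorem ptMap_univ {B : Type u} [CommRing B] [Algebra k B] (g : VecGrp.pt k B ⟶ X) :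
    VecGrp.ptMap (evalPt g) ≫ univ X = g :=
  pt_ext (by rw [evalPt_ptMap, evalPt_univ, AlgHom.comp_id])

/-- Two functions on an affine scheme are equal iff they agree at all points. -/
theorem fn_ext {a b : Fn X}
    (h : ∀ (B : Type u) [CommRing B] [Algebra k B] (g : VecGrp.pt k B ⟶ X), evalPt g a = evalPt g b) : a = b := by
  simpa using h (Fn X) (univ X)

end Univ

scoped instance ptIsAffine (B : Type u) [CommRing B] [Algebra k B] : IsAffine (VecGrp.pt k B).left :=
  inferInstanceAs (IsAffine (Spec (CommRingCat.of B)))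

theorem constPt_unique {B : Type u} [CommRing B] [Algebra k B] (t : VecGrp.pt k B ⟶ VecGrp.pt k k) :
    t = VecGrp.ptMap (Algebra.ofId k B) := by
  apply pt_ext
  refine AlgHom.ext fun a => ?_
  obtain ⟨c, hc⟩ : ∃ c : k, algebraMap k (Fn (VecGrp.pt k k)) c = a :=
    ⟨ptFn k a, ptFn_bijective.1 (by simp)⟩
  subst hc
  simp

section RatPts

variable (X) [IsAffine X.left] [LocallyOfFiniteType X.hom]

theorem fn_finiteType : Algebra.FiniteType k (Fn X) := by
  have h : X.hom.appTop.hom.FiniteType :=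
    (HasRingHomProperty.iff_of_isAffine (P := @LocallyOfFiniteType)).1 ‹_›
  show (constHom X).FiniteType
  exact h.comp (RingHom.FiniteType.of_surjective _
    (Scheme.ΓSpecIso (CommRingCat.of k)).commRingCatIsoToRingEquiv.symm.surjective)

theorem fn_isNoetherianRing : IsNoetherianRing (Fn X) :=
  have := fn_finiteType X
  Algebra.FiniteType.isNoetherianRing k (Fn X)

/-- Nullstellensatz: a nilpotent-free function is determined by its values at rational points. -/
theorem fn_ext_ratPts [IsAlgClosed k] [IsReduced X.left] {a b : Fn X}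
    (h : ∀ g : VecGrp.pt k k ⟶ X, evalPt g a = evalPt g b) : a = b := by
  have := fn_finiteType X
  have : IsJacobsonRing (Fn X) := isJacobsonRing_of_finiteType (A := k)
  rw [← sub_eq_zero, ← Ideal.mem_bot]
  have hJ : (⊥ : Ideal (Fn X)).jacobson = ⊥ :=
    IsJacobsonRing.out' _ ((Ideal.isRadical_bot (R := Fn X)))
  rw [← hJ, Ideal.jacobson, Submodule.mem_sInf]
  rintro m ⟨-, hm⟩
  let : Field (Fn X ⧸ m) := Ideal.Quotient.field m
  have : Module.Finite k (Fn X ⧸ m) := finite_of_finite_type_of_isJacobsonRing k (Fn X ⧸ m)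
  let e : k ≃ₐ[k] Fn X ⧸ m := AlgEquiv.ofBijective (Algebra.ofId k _)
    (IsAlgClosed.algebraMap_bijective_of_isIntegral (k := k) (K := Fn X ⧸ m))
  have hh := h (ptOf X (e.symm.toAlgHom.comp (Ideal.Quotient.mkₐ k m)))
  simp only [evalPt_ptOf, AlgHom.comp_apply, Ideal.Quotient.mkₐ_eq_mk] at hh
  exact Ideal.Quotient.eq.1 (e.symm.injective hh)

end RatPts

section Group

variable {G H : Over (Spec (CommRingCat.of k))} [GrpObj G] [IsAffine G.left]

theorem tensor_isAffine (A B : Over (Spec (CommRingCat.of k))) [IsAffine A.left] [IsAffine B.left] :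
    IsAffine (A ⊗ B).left := by
  show IsAffine (Limits.pullback A.hom B.hom)
  infer_instance

omit [IsAffine G.left] in
theorem evalPt_mulWhisker {T : Over (Spec (CommRingCat.of k))} (g : T ⟶ G) {B : Type u} [CommRing B] [Algebra k B]
    (z : VecGrp.pt k B ⟶ G ⊗ T) :
    z ≫ (G ◁ g) ≫ μ[G] = (z ≫ fst G T) * ((z ≫ snd G T) ≫ g) := by
  rw [Hom.mul_def, ← Category.assoc]
  congr 1
  ext <;> simp

/-- Invariance under right translation, on points. -/
theorem isRTransInv_iff {T : Over (Spec (CommRingCat.of k))} [IsAffine T.left] (g : T ⟶ G) (f : Fn G) :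
    AGF.IsRTransInv g f ↔ ∀ (B : Type u) [CommRing B] [Algebra k B] (x : VecGrp.pt k B ⟶ G)
      (t : VecGrp.pt k B ⟶ T), evalPt (x * (t ≫ g)) f = evalPt x f := by
  constructor
  · intro h B _ _ x t
    have e := evalPt_mulWhisker g (lift x t)
    simp only [lift_fst, lift_snd] at e
    conv_rhs => rw [← lift_fst x t]
    rw [← e, evalPt_comp_apply, evalPt_comp_apply]
    exact congrArg _ h
  · intro h
    have := tensor_isAffine G T
    refine fn_ext (X := G ⊗ T) fun B _ _ z => ?_
    show evalPt z (pull ((G ◁ g) ≫ μ[G]) f) = evalPt z (pull (fst G T) f)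
    rw [← evalPt_comp_apply, evalPt_mulWhisker, h, ← evalPt_comp_apply]

/-- A constant point, with values in `B`. -/
def cst {B : Type u} [CommRing B] [Algebra k B] (g : VecGrp.pt k k ⟶ X) : VecGrp.pt k B ⟶ X :=
  VecGrp.ptMap (Algebra.ofId k B) ≫ g

theorem isRTransInv_ratPt_iff (g : VecGrp.pt k k ⟶ G) (f : Fn G) :
    AGF.IsRTransInv g f ↔ ∀ (B : Type u) [CommRing B] [Algebra k B] (x : VecGrp.pt k B ⟶ G),
      evalPt (x * cst g) f = evalPt x f := by
  rw [isRTransInv_iff]
  constructor
  · exact fun h B _ _ x => h B x _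
  · intro h B _ _ x t
    rw [constPt_unique t]
    exact h B x

theorem evalPt_one_of_isRTransInv {g : VecGrp.pt k k ⟶ G} {f : Fn G} (h : AGF.IsRTransInv g f) :
    evalPt g f = evalPt (1 : VecGrp.pt k k ⟶ G) f := by
  have h1 := (isRTransInv_iff g f).1 h k (1 : VecGrp.pt k k ⟶ G) (𝟙 _)
  simpa using h1

end Group

end Groth.Agf
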