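import Groth.Agent.Calg1.Tensor
import Mathlib

/-!
# `Ext` is invariant under flat glueing maps

For `A → B` flat, inducing `A/I ≅ B/IB` with `I` finitely generated, and `M` an `I`-power torsion
module, `Ext_A(M, N) ≅ Ext_B(B ⊗ M, B ⊗ N)`.
-/

set_option autoImplicit false
universe u v w

open CategoryTheory Abelian TensorProduct

namespace Groth.Agf.GlueExt

section General

variable {C : Type v} [Category.{w} C] [Abelian C] [HasExt.{u} C]

/-- Postcomposition with a morphism. -/
noncomputable abbrev pc {L X Y : C} {n : ℕ} (f : X ⟶ Y) (x : Ext L X n) : Ext L Y n :=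
  x.comp (Ext.mk₀ f) (add_zero n)

lemma pc_pc {L X Y Z : C} {n : ℕ} (f : X ⟶ Y) (g : Y ⟶ Z) (x : Ext L X n) :
    pc g (pc f x) = pc (f ≫ g) x := by
  rw [pc, pc, pc, ← Ext.mk₀_comp_mk₀, Ext.comp_assoc_of_third_deg_zero]

lemma pc_add {L X Y : C} {n : ℕ} (f : X ⟶ Y) (x y : Ext L X n) :
    pc f (x + y) = pc f x + pc f y := Ext.add_comp _ _ _ _

lemma pc_sub {L X Y : C} {n : ℕ} (f : X ⟶ Y) (x y : Ext L X n) :
    pc f (x - y) = pc f x - pc f y := by
  rw [eq_sub_iff_add_eq, ← pc_add, sub_add_cancel]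

lemma pc_zero {L X Y : C} {n : ℕ} (f : X ⟶ Y) : pc f (0 : Ext L X n) = 0 := by simp [pc]

lemma pc_injective_zero {L X Y : C} (f : X ⟶ Y) [Mono f] (x : Ext L X 0) (h : pc f x = 0) : x = 0 :=
  Ext.postcomp_mk₀_injective_of_mono L f (by simpa using h)

variable {L K N R Q K' N' R' Q' : C}
  {j : K ⟶ N} {p : N ⟶ R} {i : R ⟶ N} {q : N ⟶ Q}
  {j' : K' ⟶ N'} {p' : N' ⟶ R'} {i' : R' ⟶ N'} {q' : N' ⟶ Q'}
  {w₁ : j ≫ p = 0} {w₂ : i ≫ q = 0} {w₁' : j' ≫ p' = 0} {w₂' : i' ≫ q' = 0}

/-- If `N → R → N` acts by zero on `Ext(L, -)` and `η` is bijective at the kernel of `N → R` and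
at the cokernel of `R → N`, it is bijective at `N`. -/
theorem bijective_of_squares (hS : (ShortComplex.mk j p w₁).ShortExact)
    (hT : (ShortComplex.mk i q w₂).ShortExact) (hS' : (ShortComplex.mk j' p' w₁').ShortExact)
    (hT' : (ShortComplex.mk i' q' w₂').ShortExact)
    (ηK : K ⟶ K') (ηN : N ⟶ N') (ηR : R ⟶ R') (ηQ : Q ⟶ Q')
    (cj : j ≫ ηN = ηK ≫ j') (cp : p ≫ ηR = ηN ≫ p') (ci : i ≫ ηN = ηR ≫ i')
    (cq : q ≫ ηQ = ηN ≫ q')
    (h0 : ∀ (n : ℕ) (x : Ext L N n), pc (p ≫ i) x = 0)
    (h0' : ∀ (n : ℕ) (x : Ext L N' n), pc (p' ≫ i') x = 0)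
    (hK : ∀ n, Function.Bijective (fun x : Ext L K n => pc ηK x))
    (hQ : ∀ n, Function.Bijective (fun x : Ext L Q n => pc ηQ x)) (n : ℕ) :
    Function.Bijective (fun x : Ext L N n => pc ηN x) := by
  have : Mono i' := hT'.mono_f
  have nS : ∀ (m : ℕ) (r : Ext L R m), pc ηK (r.comp hS.extClass rfl) =
      (pc ηR r).comp hS'.extClass rfl := by
    intro m r
    have := ShortComplex.ShortExact.extClass_naturality hS hS'
      (ShortComplex.homMk (S₁ := ShortComplex.mk j p w₁) (S₂ := ShortComplex.mk j' p' w₁')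
        ηK ηN ηR cj.symm cp.symm)
    simp only [ShortComplex.homMk_τ₁, ShortComplex.homMk_τ₃] at this
    rw [pc, pc, Ext.comp_assoc_of_third_deg_zero, this, Ext.comp_assoc_of_second_deg_zero]
  have nT : ∀ (m : ℕ) (c : Ext L Q m), pc ηR (c.comp hT.extClass rfl) =
      (pc ηQ c).comp hT'.extClass rfl := by
    intro m c
    have := ShortComplex.ShortExact.extClass_naturality hT hT'
      (ShortComplex.homMk (S₁ := ShortComplex.mk i q w₂) (S₂ := ShortComplex.mk i' q' w₂')
        ηR ηN ηQ ci.symm cq.symm)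
    simp only [ShortComplex.homMk_τ₁, ShortComplex.homMk_τ₃] at this
    rw [pc, pc, Ext.comp_assoc_of_third_deg_zero, this, Ext.comp_assoc_of_second_deg_zero]
  -- classes killed in `R'` modulo the image
  have ai : ∀ (m : ℕ) (g : Ext L R' m) (a : Ext L N m), pc i' g = pc ηN a →
      ∃ r, g = pc ηR r := by
    intro m g a h
    have hqa : pc q a = 0 := (hQ m).1 (by
      simp only
      rw [pc_pc, cq, ← pc_pc, ← h, pc_pc, w₂', pc_zero]
      simp [pc])
    obtain ⟨r, hr⟩ := Ext.covariant_sequence_exact₂ L hT a hqa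
    have hd : pc i' (g - pc ηR r) = 0 := by
      rw [pc_sub, pc_pc, ← ci, ← pc_pc, show pc i r = a from hr, h, sub_self]
    cases m with
    | zero => exact ⟨r, sub_eq_zero.1 (pc_injective_zero i' _ hd)⟩
    | succ m =>
      obtain ⟨c', hc'⟩ := Ext.covariant_sequence_exact₁ L hT' _ hd (n₀ := m) rfl
      obtain ⟨c, rfl⟩ := (hQ m).2 c'
      refine ⟨r + c.comp hT.extClass rfl, ?_⟩
      rw [pc_add, nT, hc', add_sub_cancel]
  have ap : ∀ (m : ℕ) (g : Ext L N' m) (r : Ext L R m), pc p' g = pc ηR r →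
      ∃ a, g = pc ηN a := by
    intro m g r h
    have hd : r.comp hS.extClass (rfl : m + 1 = m + 1) = 0 := (hK (m + 1)).1 (by
      simp only
      rw [nS, ← h, pc_zero, Ext.comp_assoc_of_second_deg_zero, hS'.comp_extClass, Ext.comp_zero])
    obtain ⟨a, ha⟩ := Ext.covariant_sequence_exact₃ L hS r rfl hd
    have hz : pc p' (g - pc ηN a) = 0 := by
      rw [pc_sub, pc_pc, ← cp, ← pc_pc, show pc p a = r from ha, h, sub_self]
    obtain ⟨b', hb'⟩ := Ext.covariant_sequence_exact₂ L hS' _ hz
    obtain ⟨b, rfl⟩ := (hK m).2 b'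
    refine ⟨a + pc j b, ?_⟩
    rw [pc_add, pc_pc, cj, ← pc_pc]
    exact (add_sub_cancel (pc ηN a) g).symm.trans (by rw [← hb'])
  have bi : ∀ (m : ℕ) (a : Ext L N m), pc ηN a = 0 → ∃ r, pc ηR r = 0 ∧ pc i r = a := by
    intro m a h
    have hqa : pc q a = 0 := (hQ m).1 (by
      simp only
      rw [pc_pc, cq, ← pc_pc, h, pc_zero, pc_zero])
    obtain ⟨r, hr⟩ := Ext.covariant_sequence_exact₂ L hT a hqa
    have hd : pc i' (pc ηR r) = 0 := by rw [pc_pc, ← ci, ← pc_pc, show pc i r = a from hr, h]
    cases m with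
    | zero => exact ⟨r, pc_injective_zero i' _ hd, hr⟩
    | succ m =>
      obtain ⟨c', hc'⟩ := Ext.covariant_sequence_exact₁ L hT' _ hd (n₀ := m) rfl
      obtain ⟨c, rfl⟩ := (hQ m).2 c'
      refine ⟨r - c.comp hT.extClass rfl, by rw [pc_sub, nT, hc', sub_self], ?_⟩
      have h0c : pc i (c.comp hT.extClass (rfl : m + 1 = m + 1)) = 0 :=
        (Ext.comp_assoc_of_third_deg_zero _ _ _ rfl).trans (by rw [hT.extClass_comp, Ext.comp_zero])
      rw [pc_sub, show pc i r = a from hr, h0c, sub_zero]
  have bp : ∀ (m : ℕ) (r : Ext L R m), pc ηR r = 0 → ∃ a, pc p a = r := by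
    intro m r h
    have hd : r.comp hS.extClass (rfl : m + 1 = m + 1) = 0 := (hK (m + 1)).1 (by
      simp only
      rw [nS, h, Ext.zero_comp, pc_zero])
    obtain ⟨a, ha⟩ := Ext.covariant_sequence_exact₃ L hS r rfl hd
    exact ⟨a, ha⟩
  refine ⟨fun x y hxy => ?_, fun g => ?_⟩
  · rw [← sub_eq_zero]
    obtain ⟨r, hr, hr'⟩ := bi n (x - y) (by rw [pc_sub]; exact sub_eq_zero.2 hxy)
    obtain ⟨a, ha⟩ := bp n r hr
    rw [← hr', ← ha, pc_pc, h0]
  · obtain ⟨r, hr⟩ := ai n (pc p' g) 0 (by rw [pc_pc, h0', pc_zero])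
    obtain ⟨a, ha⟩ := ap n g r hr
    exact ⟨a, ha.symm⟩

/-- Dimension shifting: the connecting map is bijective when the middle term is acyclic. -/
theorem bijective_extClass {S : ShortComplex C} (hS : S.ShortExact) {M : C}
    (h : ∀ n, Subsingleton (Ext M S.X₂ (n + 1))) (n : ℕ) :
    Function.Bijective (fun x : Ext M S.X₃ (n + 1) => x.comp hS.extClass (rfl : n + 1 + 1 = n + 2)) := by
  refine ⟨fun x y hxy => ?_, fun g => ?_⟩
  · rw [← sub_eq_zero]
    obtain ⟨a, ha⟩ := Ext.covariant_sequence_exact₃ M hS (x - y) (n₁ := n + 2) rfl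
      (by simp only at hxy; rw [sub_eq_add_neg, Ext.add_comp, Ext.neg_comp, hxy, add_neg_cancel])
    rw [← ha, (h n).elim a 0, Ext.zero_comp]
  · exact Ext.covariant_sequence_exact₁ M hS g ((h (n + 1)).elim _ _) rfl

theorem surjective_extClass_zero {S : ShortComplex C} (hS : S.ShortExact) {M : C}
    (h : Subsingleton (Ext M S.X₂ 1)) :
    Function.Surjective (fun x : Ext M S.X₃ 0 => x.comp hS.extClass (rfl : 0 + 1 = 1)) :=
  fun g => Ext.covariant_sequence_exact₁ M hS g (h.elim _ _) rfl

end General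

section Modules

variable {A B : Type u} [CommRing A] [CommRing B] [Algebra A B]

lemma seq_zero {X Y Z : Type u} [AddCommGroup X] [Module A X] [AddCommGroup Y] [Module A Y]
    [AddCommGroup Z] [Module A Z] {f : X →ₗ[A] Y} {g : Y →ₗ[A] Z} (h : Function.Exact f g) :
    ModuleCat.ofHom f ≫ ModuleCat.ofHom g = 0 :=
  ModuleCat.hom_ext (LinearMap.ext fun x => h.apply_apply_eq_zero x)

lemma seq_shortExact {X Y Z : Type u} [AddCommGroup X] [Module A X] [AddCommGroup Y] [Module A Y]
    [AddCommGroup Z] [Module A Z] {f : X →ₗ[A] Y} {g : Y →ₗ[A] Z} (h : Function.Exact f g)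
    (hf : Function.Injective f) (hg : Function.Surjective g) :
    (ShortComplex.mk _ _ (seq_zero h)).ShortExact where
  exact := (ShortComplex.ShortExact.moduleCat_exact_iff_function_exact _).2 h
  mono_f := (ModuleCat.mono_iff_injective _).2 hf
  epi_g := (ModuleCat.epi_iff_surjective _).2 hg

/-- `n ↦ 1 ⊗ n` in `ModuleCat A`. -/
noncomputable abbrev η (B : Type u) [CommRing B] [Algebra A B] (N : Type u) [AddCommGroup N] [Module A N] :
    ModuleCat.of A N ⟶ ModuleCat.of A (B ⊗[A] N) :=
  ModuleCat.ofHom (TensorProduct.mk A B N 1)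

variable [Module.Flat A B] (I : Ideal A)
  (hq : Function.Bijective (algebraMap (A ⧸ I) (B ⧸ I.map (algebraMap A B))))

include hq in
theorem bijective_η (L : Type u) [AddCommGroup L] [Module A L] (k : ℕ) :
    ∀ (l : List A), (∀ x ∈ l, ∀ z : L, x • z = 0) →
      ∀ (N : Type u) [AddCommGroup N] [Module A N] (K : Ideal A), (∀ a ∈ K, ∀ z : N, a • z = 0) →
        I ^ k ≤ K ⊔ Ideal.span {x | x ∈ l} →
          ∀ n : ℕ, Function.Bijective (fun e : Ext (ModuleCat.of A L) (ModuleCat.of A N) n => pc (η B N) e) := by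
  intro l
  induction l with
  | nil =>
    intro _ N _ _ K hK hle n
    simp only [List.not_mem_nil, Set.setOf_false, Ideal.span_empty, sup_bot_eq] at hle
    have hb : Function.Bijective (TensorProduct.mk A B N 1) :=
      Groth.Calg1.mk_one_bijective I hq N fun z => ⟨k, fun a ha => hK a (hle ha) z⟩
    have : IsIso (η B N) := (ConcreteCategory.isIso_iff_bijective _).2 hb
    exact ⟨Function.LeftInverse.injective (g := pc (inv (η B N))) fun e => by simp [pc_pc],
      fun e => ⟨pc (inv (η B N)) e, by simp [pc_pc]⟩⟩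
  | cons x l ih =>
    intro hl N _ _ K hK hle n
    let φ : N →ₗ[A] N := x • LinearMap.id
    let R := LinearMap.range φ
    let p := φ.rangeRestrict
    have hker : Function.Exact (LinearMap.ker φ).subtype p := by
      intro z
      rw [Submodule.coe_subtype, Subtype.range_coe_subtype]
      exact ⟨fun h => congrArg Subtype.val h, fun h => Subtype.ext h⟩
    have hq' : Function.Exact R.subtype R.mkQ := LinearMap.exact_subtype_mkQ R
    have hle' : I ^ k ≤ (K ⊔ Ideal.span {x}) ⊔ Ideal.span {y | y ∈ l} := by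
      refine hle.trans (le_of_eq ?_)
      rw [sup_assoc, ← Ideal.span_union]
      congr 2
      ext y
      simp
    have hl' : ∀ y ∈ l, ∀ z : L, y • z = 0 := fun y hy => hl y (List.mem_cons_of_mem _ hy)
    have hK1 : ∀ a ∈ K ⊔ Ideal.span {x}, ∀ z : LinearMap.ker φ, a • z = 0 := by
      intro a ha z
      obtain ⟨b, hb, c, hc, rfl⟩ := Submodule.mem_sup.1 ha
      obtain ⟨d, rfl⟩ := Ideal.mem_span_singleton'.1 hc
      refine Subtype.ext ?_
      have : x • (z : N) = 0 := z.2
      simp [add_smul, mul_smul, this, hK b hb]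
    have hK2 : ∀ a ∈ K ⊔ Ideal.span {x}, ∀ z : N ⧸ R, a • z = 0 := by
      intro a ha z
      obtain ⟨b, hb, c, hc, rfl⟩ := Submodule.mem_sup.1 ha
      obtain ⟨d, rfl⟩ := Ideal.mem_span_singleton'.1 hc
      obtain ⟨z, rfl⟩ := R.mkQ_surjective z
      rw [← map_smul, Submodule.mkQ_apply, Submodule.Quotient.mk_eq_zero, add_smul, hK b hb, zero_add]
      exact ⟨d • z, by simp [φ, smul_smul, mul_comm]⟩
    have hS := seq_shortExact hker Subtype.val_injective φ.surjective_rangeRestrict
    have hT := seq_shortExact hq' Subtype.val_injective R.mkQ_surjective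
    have hS' := seq_shortExact (lTensor_exact B hker φ.surjective_rangeRestrict)
      (Module.Flat.lTensor_preserves_injective_linearMap _ Subtype.val_injective)
      (LinearMap.lTensor_surjective B φ.surjective_rangeRestrict)
    have hT' := seq_shortExact (lTensor_exact B hq' R.mkQ_surjective)
      (Module.Flat.lTensor_preserves_injective_linearMap _ Subtype.val_injective)
      (LinearMap.lTensor_surjective B R.mkQ_surjective)
    have hx : ∀ (P : Type u) [AddCommGroup P] [Module A P] (m : ℕ)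
        (e : Ext (ModuleCat.of A L) (ModuleCat.of A P) m),
        pc (x • 𝟙 (ModuleCat.of A P)) e = 0 := by
      intro P _ _ m e
      have hL : x • 𝟙 (ModuleCat.of A L) = 0 :=
        ModuleCat.hom_ext (LinearMap.ext fun z => hl x List.mem_cons_self z)
      rw [pc, Ext.mk₀_smul, Ext.comp_smul, Ext.comp_mk₀_id]
      have h1 : x • e = (x • Ext.mk₀ (𝟙 (ModuleCat.of A L))).comp e (zero_add m) := by
        rw [Ext.smul_comp, Ext.mk₀_id_comp]
      rw [h1, ← Ext.mk₀_smul, hL, Ext.mk₀_zero, Ext.zero_comp]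
    refine bijective_of_squares hS hT hS' hT' (η B _) (η B _) (η B _) (η B _)
      (ModuleCat.hom_ext (LinearMap.ext fun z => by rfl)) (ModuleCat.hom_ext (LinearMap.ext fun z => by rfl))
      (ModuleCat.hom_ext (LinearMap.ext fun z => by rfl)) (ModuleCat.hom_ext (LinearMap.ext fun z => by rfl))
      (fun m e => ?_) (fun m e => ?_)
      (ih hl' _ _ hK1 hle') (ih hl' _ _ hK2 hle') n
    · rw [← hx N m e]
      exact congrArg (fun f => pc f e) (ModuleCat.hom_ext (LinearMap.ext fun z => rfl))
    · rw [← hx (B ⊗[A] N) m e]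
      refine congrArg (fun f => pc f e) (ModuleCat.hom_ext (TensorProduct.ext' fun b z => ?_))
      exact (TensorProduct.tmul_smul x b z).trans rfl

include hq in
/-- For injective `J`, `B ⊗ J` is acyclic for modules killed by a power of `I`. -/
theorem subsingleton_ext_tensor_injective (hI : I.FG) (J : Type u) [AddCommGroup J] [Module A J]
    [Module.Injective A J] (L : Type u) [AddCommGroup L] [Module A L] (k : ℕ)
    (hL : ∀ a ∈ I ^ k, ∀ z : L, a • z = 0) (n : ℕ) :
    Subsingleton (Ext (ModuleCat.of A L) (ModuleCat.of A (B ⊗[A] J)) (n + 1)) := by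
  classical
  obtain ⟨s, hs⟩ := hI.pow (n := k)
  have hs' : Ideal.span {y | y ∈ s.toList} = I ^ k := by simpa using hs
  have := (bijective_η (B := B) I hq L k s.toList (fun y hy z => hL y (hs' ▸ Ideal.subset_span hy) z) J ⊥
    (fun a ha z => by simp [(Submodule.mem_bot A).1 ha]) (by rw [bot_sup_eq, hs']) (n + 1))
  have hJ : CategoryTheory.Injective (ModuleCat.of A J) :=
    Module.injective_object_of_injective_module A J
  have : Subsingleton (Ext (ModuleCat.of A L) (ModuleCat.of A J) (n + 1)) :=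
    subsingleton_of_forall_eq 0 fun x => x.eq_zero_of_injective
  exact ‹Function.Bijective _›.2.subsingleton

variable {I}

/-- A class of modules acyclic for bounded torsion modules is acyclic for all torsion modules. -/
theorem subsingleton_ext_of_bounded (M : Type u) [AddCommGroup M] [Module A M]
    (hM : ∀ z : M, ∃ k : ℕ, ∀ a ∈ I ^ k, a • z = 0) :
    ∀ (n : ℕ) (Y : ModuleCat.{u} A),
      (∀ (L : Type u) [AddCommGroup L] [Module A L] (k : ℕ), (∀ a ∈ I ^ k, ∀ z : L, a • z = 0) →
        ∀ m, Subsingleton (Ext (ModuleCat.of A L) Y (m + 1))) →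
      Subsingleton (Ext (ModuleCat.of A M) Y (n + 1)) := by
  intro n
  induction n with
  | zero =>
    intro Y hY
    obtain ⟨P⟩ := EnoughInjectives.presentation Y
    let S := ShortComplex.mk P.f (Limits.cokernel.π P.f) (Limits.cokernel.condition _)
    have hS : S.ShortExact := { exact := ShortComplex.exact_cokernel P.f }
    have hJ : Subsingleton (Ext (ModuleCat.of A M) S.X₂ 1) :=
      haveI := P.injective; subsingleton_of_forall_eq 0 fun x => x.eq_zero_of_injective
    refine subsingleton_of_forall_eq 0 fun e => ?_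
    obtain ⟨g₀, rfl⟩ := surjective_extClass_zero hS hJ e
    obtain ⟨g, rfl⟩ := (Ext.mk₀_bijective _ _).2 g₀
    -- lift `g` to `P.J`
    let Mk : ℕ → Submodule A M := fun k => Submodule.torsionBySet A M (I ^ k : Ideal A)
    have hMk : ∀ k (z : Mk k), ∀ a ∈ I ^ k, a • (z : M) = 0 := fun k z a ha =>
      (Submodule.mem_torsionBySet_iff _ _).1 z.2 ⟨a, ha⟩
    have hmono : ∀ k l, k ≤ l → Mk k ≤ Mk l := fun k l hkl z hz =>
      (Submodule.mem_torsionBySet_iff _ _).2 fun a =>
        (Submodule.mem_torsionBySet_iff _ _).1 hz ⟨a, Ideal.pow_le_pow_right hkl a.2⟩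
    have hlift : ∀ (L : Type u) [AddCommGroup L] [Module A L] (k : ℕ),
        (∀ a ∈ I ^ k, ∀ z : L, a • z = 0) → ∀ f : ModuleCat.of A L ⟶ S.X₃, ∃ f', f' ≫ S.g = f := by
      intro L _ _ k hk f
      obtain ⟨x, hx⟩ := Ext.covariant_sequence_exact₃ _ hS (Ext.mk₀ f) (n₁ := 1) rfl
        ((hY L k hk 0).elim _ _)
      obtain ⟨f', rfl⟩ := (Ext.mk₀_bijective _ _).2 x
      rw [Ext.mk₀_comp_mk₀] at hx
      exact ⟨f', (Ext.mk₀_bijective _ _).1 hx⟩
    have hext : ∀ (k : ℕ) (d : ModuleCat.of A (Mk k) ⟶ Y),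
        ∃ d' : ModuleCat.of A (Mk (k + 1)) ⟶ Y,
          ModuleCat.ofHom (Submodule.inclusion (hmono k (k + 1) k.le_succ)) ≫ d' = d := by
      intro k d
      let U := LinearMap.range (Submodule.inclusion (hmono k (k + 1) k.le_succ))
      have hT := seq_shortExact (LinearMap.exact_map_mkQ_range
        (Submodule.inclusion (hmono k (k + 1) k.le_succ))) (Submodule.inclusion_injective _)
        (Submodule.mkQ_surjective _)
      obtain ⟨x, hx⟩ := Ext.contravariant_sequence_exact₁ hT Y (Ext.mk₀ d) (n₁ := 1) rfl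
        ((hY (Mk (k + 1) ⧸ U) (k + 1) (fun a ha z => by
          obtain ⟨z, rfl⟩ := U.mkQ_surjective z
          rw [← map_smul, show a • z = 0 from Subtype.ext (hMk _ z a ha), map_zero]) 0).elim _ _)
      obtain ⟨d', rfl⟩ := (Ext.mk₀_bijective _ _).2 x
      rw [Ext.mk₀_comp_mk₀] at hx
      exact ⟨d', (Ext.mk₀_bijective _ _).1 hx⟩
    have hstep : ∀ (k : ℕ) (h : {h : ModuleCat.of A (Mk k) ⟶ P.J //
        h ≫ S.g = ModuleCat.ofHom (Mk k).subtype ≫ g}),
        ∃ h' : {h : ModuleCat.of A (Mk (k + 1)) ⟶ P.J //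
          h ≫ S.g = ModuleCat.ofHom (Mk (k + 1)).subtype ≫ g},
        ModuleCat.ofHom (Submodule.inclusion (hmono k (k + 1) k.le_succ)) ≫ h'.1 = h.1 := by
      intro k h
      obtain ⟨h₁, hh₁⟩ := hlift (Mk (k + 1)) (k + 1) (fun a ha z => Subtype.ext (hMk _ z a ha))
        (ModuleCat.ofHom (Mk (k + 1)).subtype ≫ g)
      let incl := ModuleCat.ofHom (Submodule.inclusion (hmono k (k + 1) k.le_succ))
      have hd : (h.1 - incl ≫ h₁) ≫ S.g = 0 := by
        rw [Preadditive.sub_comp, Category.assoc, hh₁, h.2, ← Category.assoc,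
          show incl ≫ ModuleCat.ofHom (Mk (k + 1)).subtype = ModuleCat.ofHom (Mk k).subtype from rfl,
          sub_self]
      have : Mono S.f := hS.mono_f
      let d := hS.exact.lift (h.1 - incl ≫ h₁) hd
      obtain ⟨d', hd'⟩ := hext k d
      refine ⟨⟨h₁ + d' ≫ S.f, ?_⟩, ?_⟩
      · rw [Preadditive.add_comp, hh₁, Category.assoc, S.zero, Limits.comp_zero, add_zero]
      · show incl ≫ (h₁ + d' ≫ S.f) = h.1
        rw [Preadditive.comp_add, ← Category.assoc, show incl ≫ d' = d from hd', hS.exact.lift_f,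
          add_sub_cancel]
    have h0 : ∀ z : Mk 0, z = 0 := fun z => Subtype.ext (by simpa using hMk 0 z 1 (by simp))
    choose nxt hnxt using hstep
    let seq : ∀ k, {h : ModuleCat.of A (Mk k) ⟶ P.J // h ≫ S.g = ModuleCat.ofHom (Mk k).subtype ≫ g} :=
      fun k => Nat.rec ⟨0, ModuleCat.hom_ext (LinearMap.ext fun z => by rw [h0 z, map_zero, map_zero])⟩ nxt k
    have hcompat : ∀ (k l : ℕ) (hkl : k ≤ l) (z : Mk k),
        (seq l).1.hom (Submodule.inclusion (hmono k l hkl) z) = (seq k).1.hom z := by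
      intro k l hkl z
      induction l, hkl using Nat.le_induction with
      | base => rfl
      | succ l hkl ih =>
        rw [← ih]
        exact congrArg (fun f => f.hom (Submodule.inclusion (hmono k l hkl) z)) (hnxt l (seq l))
    choose κ hκ using fun z : M => hM z
    have hmem : ∀ z, z ∈ Mk (κ z) := fun z =>
      (Submodule.mem_torsionBySet_iff _ _).2 fun a => hκ z a a.2
    let F : M → P.J := fun z => (seq (κ z)).1.hom ⟨z, hmem z⟩
    have hF : ∀ (k : ℕ) (z : Mk k), F z = (seq k).1.hom z := by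
      intro k z
      rw [← hcompat k (max k (κ z)) (le_max_left _ _) z]
      exact (hcompat (κ z) (max k (κ z)) (le_max_right _ _) ⟨z, hmem z⟩).symm
    let Fl : M →ₗ[A] P.J :=
      { toFun := F
        map_add' := fun y z => by
          have hy := hmono _ _ (le_max_left (κ y) (κ z)) (hmem y)
          have hz := hmono _ _ (le_max_right (κ y) (κ z)) (hmem z)
          rw [hF _ ⟨y, hy⟩, hF _ ⟨z, hz⟩, ← map_add]
          exact hF _ ⟨y + z, add_mem hy hz⟩
        map_smul' := fun a z => by
          rw [RingHom.id_apply, hF (κ z) ⟨z, hmem z⟩, ← map_smul]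
          exact hF _ ⟨a • z, (Mk (κ z)).smul_mem a (hmem z)⟩ }
    have hg : ModuleCat.ofHom Fl ≫ S.g = g :=
      ModuleCat.hom_ext (LinearMap.ext fun z =>
        congrArg (fun f => f.hom ⟨z, hmem z⟩) (seq (κ z)).2)
    simp only [← hg, ← Ext.mk₀_comp_mk₀, Ext.comp_assoc_of_second_deg_zero, hS.comp_extClass,
      Ext.comp_zero]
  | succ n ih =>
    intro Y hY
    obtain ⟨P⟩ := EnoughInjectives.presentation Y
    let S := ShortComplex.mk P.f (Limits.cokernel.π P.f) (Limits.cokernel.condition _)
    have hS : S.ShortExact := { exact := ShortComplex.exact_cokernel P.f }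
    have hJ : ∀ (L : ModuleCat.{u} A) m, Subsingleton (Ext L S.X₂ (m + 1)) := fun L m =>
      haveI := P.injective; subsingleton_of_forall_eq 0 fun x => x.eq_zero_of_injective
    have := ih S.X₃ fun L _ _ k hk m =>
      have := hY L k hk (m + 1)
      (bijective_extClass hS (hJ _) m).1.subsingleton
    exact (bijective_extClass hS (hJ _) n).2.subsingleton

include hq in
theorem subsingleton_ext_torsion (hI : I.FG) (J : Type u) [AddCommGroup J] [Module A J]
    [Module.Injective A J] (M : Type u) [AddCommGroup M] [Module A M]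
    (hM : ∀ z : M, ∃ k : ℕ, ∀ a ∈ I ^ k, a • z = 0) (n : ℕ) :
    Subsingleton (Ext (ModuleCat.of A M) (ModuleCat.of A (B ⊗[A] J)) (n + 1)) :=
  subsingleton_ext_of_bounded M hM n _ fun L _ _ k hk m =>
    subsingleton_ext_tensor_injective I hq hI J L k hk m

/-- Injective modules stay injective under restriction along a flat map. -/
theorem injective_restrict (J : Type u) [AddCommGroup J] [Module A J] [Module B J]
    [IsScalarTower A B J] [Module.Injective B J] : Module.Injective A J := by
  refine ⟨fun X Y _ _ _ _ f hf g => ?_⟩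
  have hfB : Function.Injective (f.baseChange B) :=
    Module.Flat.lTensor_preserves_injective_linearMap f hf
  obtain ⟨h, hh⟩ := Module.Injective.out (R := B) (f.baseChange B) hfB (g.liftBaseChange B)
  refine ⟨h.restrictScalars A ∘ₗ TensorProduct.mk A B Y 1, fun z => ?_⟩
  simpa using hh (1 ⊗ₜ z)

variable (M : Type u) [AddCommGroup M] [Module A M]

theorem subsingleton_ext_baseChange : ∀ (n : ℕ) (Y : Type u) [AddCommGroup Y] [Module A Y]
    [Module B Y] [IsScalarTower A B Y],
      (∀ m, Subsingleton (Ext (ModuleCat.of A M) (ModuleCat.of A Y) (m + 1))) →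
      Subsingleton (Ext (ModuleCat.of B (B ⊗[A] M)) (ModuleCat.of B Y) (n + 1)) := by
  intro n
  induction n with
  | zero =>
    intro Y _ _ _ _ hY
    obtain ⟨P⟩ := EnoughInjectives.presentation (ModuleCat.of B Y)
    let f : Y →ₗ[B] P.J := P.f.hom
    let g := (LinearMap.range f).mkQ
    have hf : Function.Injective f := (ModuleCat.mono_iff_injective P.f).1 P.mono
    have hB := seq_shortExact (LinearMap.exact_map_mkQ_range f) hf (Submodule.mkQ_surjective (LinearMap.range f))
    let : Module A P.J := Module.compHom _ (algebraMap A B)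
    have : IsScalarTower A B P.J := IsScalarTower.of_algebraMap_smul fun _ _ => rfl
    have hA := seq_shortExact (f := f.restrictScalars A) (g := g.restrictScalars A)
      (LinearMap.exact_map_mkQ_range f) hf (Submodule.mkQ_surjective (LinearMap.range f))
    have hJB : CategoryTheory.Injective (ModuleCat.of B P.J) := P.injective
    refine subsingleton_of_forall_eq 0 fun e => ?_
    obtain ⟨g₀, rfl⟩ := surjective_extClass_zero hB
      (subsingleton_of_forall_eq 0 fun x => x.eq_zero_of_injective) e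
    obtain ⟨u, rfl⟩ := (Ext.mk₀_bijective _ _).2 g₀
    obtain ⟨x, hx⟩ := Ext.covariant_sequence_exact₃ _ hA
      (Ext.mk₀ (ModuleCat.ofHom (u.hom.restrictScalars A ∘ₗ TensorProduct.mk A B M 1)))
      (n₁ := 1) rfl ((hY 0).elim _ _)
    obtain ⟨v, rfl⟩ := (Ext.mk₀_bijective _ _).2 x
    rw [Ext.mk₀_comp_mk₀] at hx
    have hv : ∀ z : M, g (v.hom z) = u.hom ((1 : B) ⊗ₜ z) := fun z =>
      congrArg (fun f => f.hom z) ((Ext.mk₀_bijective _ _).1 hx)
    have hu : u = ModuleCat.ofHom (v.hom.liftBaseChange B) ≫ ModuleCat.ofHom g :=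
      ModuleCat.hom_ext (TensorProduct.AlgebraTensorModule.ext fun b z => by
        change u.hom (b ⊗ₜ z) = g (v.hom.liftBaseChange B (b ⊗ₜ z))
        rw [LinearMap.liftBaseChange_tmul, map_smul, hv, ← map_smul, TensorProduct.smul_tmul',
          smul_eq_mul, mul_one])
    simp only [hu, ← Ext.mk₀_comp_mk₀, Ext.comp_assoc_of_second_deg_zero, hB.comp_extClass,
      Ext.comp_zero]
  | succ n ih =>
    intro Y _ _ _ _ hY
    obtain ⟨P⟩ := EnoughInjectives.presentation (ModuleCat.of B Y)
    let f : Y →ₗ[B] P.J := P.f.hom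
    let g := (LinearMap.range f).mkQ
    have hf : Function.Injective f := (ModuleCat.mono_iff_injective P.f).1 P.mono
    have hB := seq_shortExact (LinearMap.exact_map_mkQ_range f) hf (Submodule.mkQ_surjective (LinearMap.range f))
    let : Module A P.J := Module.compHom _ (algebraMap A B)
    have : IsScalarTower A B P.J := IsScalarTower.of_algebraMap_smul fun _ _ => rfl
    have hA := seq_shortExact (f := f.restrictScalars A) (g := g.restrictScalars A)
      (LinearMap.exact_map_mkQ_range f) hf (Submodule.mkQ_surjective (LinearMap.range f))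
    have hJB : CategoryTheory.Injective (ModuleCat.of B P.J) := P.injective
    have : Module.Injective B P.J := Module.injective_module_of_injective_object B P.J
    have : Module.Injective A P.J := injective_restrict (B := B) P.J
    have hJA : CategoryTheory.Injective (ModuleCat.of A P.J) :=
      Module.injective_object_of_injective_module A P.J
    have hJA' : ∀ k, Subsingleton (Ext (ModuleCat.of A M) (ModuleCat.of A P.J) (k + 1)) := fun _ =>
      subsingleton_of_forall_eq 0 fun x => x.eq_zero_of_injective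
    have hY' : ∀ m, Subsingleton (Ext (ModuleCat.of A M)
        (ModuleCat.of A (↑P.J ⧸ LinearMap.range f)) (m + 1)) := fun m =>
      @Function.Injective.subsingleton _ _ _
        (bijective_extClass (M := ModuleCat.of A M) hA hJA' m).1 (hY (m + 1))
    have := ih (↑P.J ⧸ LinearMap.range f) hY'
    exact (bijective_extClass hB (fun _ => subsingleton_of_forall_eq 0 fun x => x.eq_zero_of_injective) n).2.subsingleton

/-- `f ↦ B ⊗ f` as an additive map. -/
noncomputable def bcHom (N : Type u) [AddCommGroup N] [Module A N] :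
    (M →ₗ[A] N) →+ (B ⊗[A] M →ₗ[B] B ⊗[A] N) :=
  { toFun := fun f => f.baseChange B
    map_zero' := LinearMap.baseChange_zero
    map_add' := fun f g => LinearMap.baseChange_add f g }

/-- Ext in degree zero is Hom. -/
noncomputable def e0 {R : Type u} [CommRing R] (X Y : Type u) [AddCommGroup X] [Module R X]
    [AddCommGroup Y] [Module R Y] : (X →ₗ[R] Y) ≃+ Ext (ModuleCat.of R X) (ModuleCat.of R Y) 0 :=
  (ModuleCat.homAddEquiv (M := ModuleCat.of R X) (N := ModuleCat.of R Y)).symm.trans Ext.addEquiv₀.symm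

include hq in
/-- **Flat glueing invariance of `Ext`.** -/
theorem nonempty_addEquiv (hI : I.FG) (hM : ∀ z : M, ∃ k : ℕ, ∀ a ∈ I ^ k, a • z = 0) :
    ∀ (n : ℕ) (N : Type u) [AddCommGroup N] [Module A N],
      Nonempty (Ext (ModuleCat.of A M) (ModuleCat.of A N) n ≃+
        Ext (ModuleCat.of B (B ⊗[A] M)) (ModuleCat.of B (B ⊗[A] N)) n) := by
  have hhom : ∀ (N : Type u) [AddCommGroup N] [Module A N],
      Function.Bijective (bcHom (B := B) M N) := fun N _ _ =>
    Groth.Calg1.baseChange_hom_bijective I hI hq (Or.inl hM)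
  intro n
  induction n with
  | zero =>
    intro N _ _
    exact ⟨(e0 M N).symm.trans ((AddEquiv.ofBijective _ (hhom N)).trans (e0 _ _))⟩
  | succ n ih =>
    intro N _ _
    obtain ⟨P⟩ := EnoughInjectives.presentation (ModuleCat.of A N)
    let f : N →ₗ[A] P.J := P.f.hom
    let g := (LinearMap.range f).mkQ
    have hg : Function.Surjective g := Submodule.mkQ_surjective _
    have hf : Function.Injective f := (ModuleCat.mono_iff_injective P.f).1 P.mono
    have hA := seq_shortExact (LinearMap.exact_map_mkQ_range f) hf hg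
    have hB := seq_shortExact (f := f.baseChange B) (g := g.baseChange B)
      (lTensor_exact B (LinearMap.exact_map_mkQ_range f) hg)
      (Module.Flat.lTensor_preserves_injective_linearMap _ hf) (LinearMap.lTensor_surjective B hg)
    have hJ : CategoryTheory.Injective (ModuleCat.of A P.J) := P.injective
    have : Module.Injective A P.J := Module.injective_module_of_injective_object A P.J
    have hA' : ∀ m, Subsingleton (Ext (ModuleCat.of A M) (ModuleCat.of A P.J) (m + 1)) := fun m =>
      subsingleton_of_forall_eq 0 fun x => x.eq_zero_of_injective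
    have hB' : ∀ m, Subsingleton
        (Ext (ModuleCat.of B (B ⊗[A] M)) (ModuleCat.of B (B ⊗[A] P.J)) (m + 1)) := fun m =>
      subsingleton_ext_baseChange M m _ fun l => subsingleton_ext_torsion hq hI _ M hM l
    cases n with
    | succ n =>
      obtain ⟨e⟩ := ih (↑P.J ⧸ LinearMap.range f)
      let a : Ext (ModuleCat.of A M) (ModuleCat.of A (↑P.J ⧸ LinearMap.range f)) (n + 1) →+
          Ext (ModuleCat.of A M) (ModuleCat.of A N) (n + 2) := hA.extClass.postcomp _ rfl
      let b : Ext (ModuleCat.of B (B ⊗[A] M)) (ModuleCat.of B (B ⊗[A] (↑P.J ⧸ LinearMap.range f))) (n + 1) →+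
          Ext (ModuleCat.of B (B ⊗[A] M)) (ModuleCat.of B (B ⊗[A] N)) (n + 2) := hB.extClass.postcomp _ rfl
      exact ⟨(AddEquiv.ofBijective a (bijective_extClass hA hA' n)).symm.trans
        (e.trans (AddEquiv.ofBijective b (bijective_extClass hB hB' n)))⟩
    | zero =>
      let u := (hA.extClass.postcomp (ModuleCat.of A M) (rfl : 0 + 1 = 1)).comp (e0 M _).toAddMonoidHom
      let v := (hB.extClass.postcomp (ModuleCat.of B (B ⊗[A] M)) (rfl : 0 + 1 = 1)).comp
        ((e0 (B ⊗[A] M) _).toAddMonoidHom.comp (bcHom (B := B) M _))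
      have hu : Function.Surjective u := (surjective_extClass_zero hA (hA' 0)).comp (e0 M _).surjective
      have hv : Function.Surjective v :=
        (surjective_extClass_zero hB (hB' 0)).comp ((e0 _ _).surjective.comp (hhom _).2)
      have hker : u.ker = v.ker := by
        ext w
        simp only [AddMonoidHom.mem_ker]
        constructor
        · intro hw
          obtain ⟨x, hx⟩ := Ext.covariant_sequence_exact₃ _ hA (e0 M _ w) rfl hw
          obtain ⟨x, rfl⟩ := (e0 M _).surjective x
          have : g ∘ₗ x = w := (e0 M _).injective (by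
            rw [← hx]; simp [e0, Ext.addEquiv₀, Ext.mk₀_comp_mk₀]; rfl)
          subst this
          show (e0 (B ⊗[A] M) _ ((g ∘ₗ x).baseChange B)).comp hB.extClass rfl = 0
          rw [show e0 (B ⊗[A] M) _ ((g ∘ₗ x).baseChange B) =
              (e0 _ _ (x.baseChange B)).comp (Ext.mk₀ (ModuleCat.ofHom (g.baseChange B))) (add_zero 0) by
            rw [LinearMap.baseChange_comp]; simp [e0, Ext.addEquiv₀, Ext.mk₀_comp_mk₀]; rfl]
          rw [Ext.comp_assoc_of_second_deg_zero, hB.comp_extClass, Ext.comp_zero]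
        · intro hw
          obtain ⟨x, hx⟩ := Ext.covariant_sequence_exact₃ _ hB (e0 _ _ (w.baseChange B)) rfl hw
          obtain ⟨x, rfl⟩ := ((e0 _ _).surjective.comp (hhom _).2) x
          have : g ∘ₗ x = w := (hhom _).1 ((e0 (B ⊗[A] M) _).injective (by
            simp only [bcHom, AddMonoidHom.coe_mk, ZeroHom.coe_mk, LinearMap.baseChange_comp]
            rw [← hx]; simp [e0, Ext.addEquiv₀, Ext.mk₀_comp_mk₀, bcHom]; rfl))
          subst this
          show (e0 M _ (g ∘ₗ x)).comp hA.extClass rfl = 0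
          rw [show e0 M _ (g ∘ₗ x) =
              (e0 _ _ x).comp (Ext.mk₀ (ModuleCat.ofHom g)) (add_zero 0) by
            simp [e0, Ext.addEquiv₀, Ext.mk₀_comp_mk₀]; rfl]
          rw [Ext.comp_assoc_of_second_deg_zero, hA.comp_extClass, Ext.comp_zero]
      exact ⟨(QuotientAddGroup.quotientKerEquivOfSurjective u hu).symm.trans
        ((QuotientAddGroup.quotientAddEquivOfEq hker).trans
          (QuotientAddGroup.quotientKerEquivOfSurjective v hv))⟩

end Modules

end Groth.Agf.GlueExt
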