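import Groth.Agent.Misc15.HilbLead
import Groth.Agent.Calg6.CMSop
import Groth.Agent.Ega41Adic.KaehlerRank
import Mathlib

/-!
# Homogeneous complete intersections in a polynomial ring

`n` forms in `n + 1` variables with one dimensional quotient form a regular sequence; the Hilbert
function of the quotient is eventually the product of the degrees.
-/

set_option autoImplicit false
universe u

open IsLocalRing

namespace Groth.Agf.GradedBezout

variable {K : Type u} [Field K] {n : ℕ}

local notation "R" => MvPolynomial (Fin (n + 1)) K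
local notation "𝒮" => GrSyz.stdGr K (Fin (n + 1))

/-- The origin. -/
noncomputable abbrev origin (K : Type u) [Field K] (n : ℕ) : Ideal (MvPolynomial (Fin (n + 1)) K) :=
  RingHom.ker (MvPolynomial.constantCoeff : MvPolynomial (Fin (n + 1)) K →+* K)

theorem isPrime_origin : (origin K n).IsPrime := RingHom.ker_isPrime _

theorem constantCoeff_proj (s : R) :
    MvPolynomial.constantCoeff s = MvPolynomial.constantCoeff (Groth.GrDualH.proj 𝒮 0 s) := by
  classical
  obtain ⟨t, ht⟩ := Groth.GrDualH.exists_sum_proj (ℳ := 𝒮) s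
  conv_lhs => rw [ht, map_sum]
  rw [Finset.sum_eq_single 0]
  · intro g _ hg
    exact Groth.GrSyzLib.constantCoeff_eq_zero_of_ne hg (Groth.GrDualH.proj_mem (ℳ := 𝒮) g s)
  · intro h0
    have h1 := congrArg (Groth.GrDualH.proj 𝒮 0) ht
    rw [map_sum, Finset.sum_eq_zero fun g hg => Groth.GrDualH.proj_of_mem_ne (ℳ := 𝒮)
      (Groth.GrDualH.proj_mem (ℳ := 𝒮) g s) (fun e => h0 (by rwa [← e]))] at h1
    rw [h1, map_zero]

/-- Homogeneous ideals are detected at the origin. -/
theorem mem_of_mul_mem {B : Ideal R} (hB : B.IsHomogeneous 𝒮) {r s : R} (hs : s ∉ origin K n)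
    (h : s * r ∈ B) {d : ℤ} (hr : r ∈ 𝒮 d) : r ∈ B := by
  have h0 := constantCoeff_proj s
  have hs0 := Groth.GrSyzLib.eq_C_of_mem_zero (Groth.GrDualH.proj_mem (ℳ := 𝒮) 0 s)
  obtain ⟨c, hc⟩ : ∃ c : K, Groth.GrDualH.proj 𝒮 0 s = MvPolynomial.C c := ⟨_, hs0⟩
  rw [hc, MvPolynomial.constantCoeff_C] at h0
  have hc0 : c ≠ 0 := fun e => hs (by rw [RingHom.mem_ker, h0, e])
  have h1 : Groth.GrDualH.proj 𝒮 (d + 0) (r • s) ∈ B := hB _ (by rw [smul_eq_mul, mul_comm]; exact h)
  rw [Groth.GrDualH.proj_smul (k := K) (𝒜 := 𝒮) (ℳ := 𝒮) hr, add_zero, sub_self, hc, smul_eq_mul] at h1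
  have h2 := B.mul_mem_right (MvPolynomial.C c⁻¹) h1
  rwa [mul_assoc, ← map_mul, mul_inv_cancel₀ hc0, map_one, mul_one] at h2

variable (f : Fin n → MvPolynomial (Fin (n + 1)) K) (d : Fin n → ℕ)

/-- The first `i` forms. -/
noncomputable abbrev J (i : ℕ) : Ideal (MvPolynomial (Fin (n + 1)) K) := Ideal.ofList ((List.ofFn f).take i)

variable (hf : ∀ i, f i ∈ GrSyz.stdGr K (Fin (n + 1)) (d i : ℤ))

include hf in
theorem isHomogeneous_J (i : ℕ) : (J f i).IsHomogeneous 𝒮 :=
  Ideal.homogeneous_span 𝒮 _ fun y hy => by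
    obtain ⟨l, rfl⟩ := List.mem_ofFn.1 (List.mem_of_mem_take hy)
    exact ⟨d l, hf l⟩

include hf in
theorem colon_eq (hd : ∀ i, 1 ≤ d i)
    (hdim : ringKrullDim (R ⧸ Ideal.span (Set.range f)) ≤ 1) (i : Fin n) :
    (J f i).colon {f i} = J f i := by
  haveI := isPrime_origin (K := K) (n := n)
  let m := origin K n
  let C := Localization.AtPrime m
  haveI : IsRegularRing R := inferInstance
  haveI : IsRegularLocalRing C := inferInstance
  have hmax : m.IsMaximal := RingHom.ker_isMaximal_of_surjective _ (fun c => ⟨MvPolynomial.C c, MvPolynomial.constantCoeff_C _ c⟩)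
  have hX : ∀ v, (MvPolynomial.X v : R) ∈ m := fun v => by simp [m, origin]
  have hdimC : ringKrullDim C = ((n + 1 : ℕ) : WithBot ℕ∞) := by
    rw [IsLocalization.AtPrime.ringKrullDim_eq_height m C]
    have hh := Groth.Ega41Adic.height_add_ringKrullDim_quotient K (Fin (n + 1)) m
    haveI : Nontrivial (R ⧸ m) := Ideal.Quotient.nontrivial_iff.2 hmax.ne_top
    letI := Ideal.Quotient.field m
    rw [ringKrullDim_eq_zero_of_field, add_zero, Nat.card_fin] at hh
    exact hh
  have hfm : ∀ x ∈ List.ofFn f, algebraMap R C x ∈ maximalIdeal C := fun x hx => by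
    obtain ⟨l, rfl⟩ := List.mem_ofFn.1 hx
    rw [IsLocalization.AtPrime.to_map_mem_maximal_iff C m]
    exact Groth.GrSyzLib.constantCoeff_eq_zero_of_ne (by have := hd l; omega) (hf l)
  let L := (List.ofFn f).map (algebraMap R C)
  have hspan : Ideal.ofList (List.ofFn f) = Ideal.span (Set.range f) := by
    rw [Ideal.ofList]; congr 1; ext x; simp [List.mem_ofFn]
  have hle : ringKrullDim (C ⧸ Ideal.ofList L) ≤ 1 := by
    refine le_trans ?_ hdim
    have hmap : Ideal.ofList L = (Ideal.span (Set.range f)).map (algebraMap R C) := by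
      rw [← hspan, Ideal.map_ofList]
    have hcm : Ideal.span (Set.range f) ≤ (Ideal.ofList L).comap (algebraMap R C) := by
      rw [hmap]; exact Ideal.le_comap_map
    let φ := Ideal.Quotient.lift (Ideal.span (Set.range f)) ((Ideal.Quotient.mk (Ideal.ofList L)).comp (algebraMap R C))
      fun x hx => Ideal.Quotient.eq_zero_iff_mem.2 (hcm hx)
    have hinj : Function.Injective (@PrimeSpectrum.comap (R ⧸ Ideal.span (Set.range f)) (C ⧸ Ideal.ofList L) _ _ φ) := by
      intro a b hab
      refine PrimeSpectrum.comap_injective_of_surjective (Ideal.Quotient.mk (Ideal.ofList L))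
        Ideal.Quotient.mk_surjective (PrimeSpectrum.localization_comap_injective C m.primeCompl ?_)
      have := congrArg (PrimeSpectrum.comap (Ideal.Quotient.mk (Ideal.span (Set.range f)))) hab
      exact this
    exact Order.krullDim_le_of_strictMono (@PrimeSpectrum.comap (R ⧸ Ideal.span (Set.range f)) (C ⧸ Ideal.ofList L) _ _ φ)
      (Monotone.strictMono_of_injective (fun a b hab => Ideal.comap_mono hab) hinj)
  have hW : RingTheory.Sequence.IsWeaklyRegular C L := by
    refine Groth.Calg6.isWeaklyRegular_of_supportDim_add_length_le L C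
      (Groth.Calg6.isCohenMacaulayModule_of_isRegularLocalRing C) ?_ ?_
    · intro x hx
      obtain ⟨y, hy, rfl⟩ := List.mem_map.1 hx
      exact hfm y hy
    · rw [Module.supportDim_self_eq_ringKrullDim, hdimC, Module.supportDim_eq_of_equiv
        (Submodule.quotEquivOfEq _ (Ideal.ofList L) (by simp)), Module.supportDim_quotient_eq_ringKrullDim]
      refine (add_le_add_left hle _).trans ?_
      simp only [L, List.length_map, List.length_ofFn]
      push_cast
      rw [add_comm]
  refine le_antisymm (fun r hr => ?_) (fun r hr => Submodule.mem_colon_singleton.2 ((J f i).mul_mem_right _ hr))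
  classical
  obtain ⟨t, ht⟩ := Groth.GrDualH.exists_sum_proj (ℳ := 𝒮) r
  rw [ht]
  refine Ideal.sum_mem _ fun g _ => ?_
  have hr' : Groth.GrDualH.proj 𝒮 g r ∈ (J f i).colon {f i} :=
    Groth.Misc15.HilbLead.isHomogeneous_colon (isHomogeneous_J f d hf i) (hf i) g hr
  set r' := Groth.GrDualH.proj 𝒮 g r
  have hi : (i : ℕ) < L.length := by simp [L]
  have hreg := hW.regular_mod_prev i hi
  have hLi : L[(i : ℕ)] = algebraMap R C (f i) := by simp [L]
  rw [hLi] at hreg
  rw [Submodule.mem_colon_singleton, smul_eq_mul] at hr'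
  have hJmap : Ideal.ofList (L.take i) = (J f i).map (algebraMap R C) := by
    rw [J, Ideal.map_ofList, List.map_take]
  have hmem : algebraMap R C r' ∈ (J f i).map (algebraMap R C) := by
    have h0 : (Submodule.Quotient.mk (algebraMap R C r') : C ⧸ Ideal.ofList (L.take i) • (⊤ : Submodule C C)) = 0 := by
      refine isSMulRegular_iff_right_eq_zero_of_smul.1 hreg _ ?_
      rw [← Submodule.Quotient.mk_smul, Submodule.Quotient.mk_eq_zero, smul_eq_mul, smul_eq_mul, Ideal.mul_top,
        hJmap, ← map_mul, mul_comm]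
      exact Ideal.mem_map_of_mem _ hr'
    rw [Submodule.Quotient.mk_eq_zero, smul_eq_mul, Ideal.mul_top, hJmap] at h0
    exact h0
  obtain ⟨s, hs, hsr⟩ := (IsLocalization.algebraMap_mem_map_algebraMap_iff m.primeCompl C (J f i) r').1 hmem
  exact mem_of_mul_mem (isHomogeneous_J f d hf i) hs hsr (Groth.GrDualH.proj_mem (ℳ := 𝒮) g r)

open Groth.Misc15.HilbLead in
include hf in
theorem eventually_hf (hd : ∀ i, 1 ≤ d i)
    (hdim : ringKrullDim (R ⧸ Ideal.span (Set.range f)) ≤ 1) :
    ∃ m₀ : ℤ, ∀ g : ℤ, m₀ ≤ g →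
      Groth.Misc15.HilbLead.hf (Ideal.span (Set.range f)) g = ∏ i, (d i : ℚ) := by
  classical
  suffices key : ∀ i : ℕ, i ≤ n → ∃ m₀ : ℤ, ∀ g : ℤ, m₀ ≤ g →
      (fwdDiff (1 : ℤ))^[n - i] (Groth.Misc15.HilbLead.hf (J f i)) g = ∏ l ∈ Finset.univ.filter (fun l : Fin n => (l : ℕ) < i), (d l : ℚ) by
    obtain ⟨m₀, hm₀⟩ := key n le_rfl
    refine ⟨m₀, fun g hg => ?_⟩
    have := hm₀ g hg
    rw [Nat.sub_self, Function.iterate_zero_apply, Finset.filter_true_of_mem fun l _ => l.2] at this
    rw [← this]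
    congr 1
    rw [J, List.take_of_length_le (by simp), Ideal.ofList]
    congr 1
    ext x
    simp [List.mem_ofFn]
  intro i
  induction i with
  | zero =>
    intro _
    refine ⟨0, fun g hg => ?_⟩
    rw [Finset.filter_false_of_mem fun l _ => by omega, Finset.prod_empty, Nat.sub_zero]
    have hbase : ∀ (a : ℕ) (c : ℕ) (F : ℤ → ℚ), (∀ g : ℤ, 0 ≤ g → F g = ((c + g.toNat).choose a : ℚ)) →
        ∀ g : ℤ, 0 ≤ g → (fwdDiff (1 : ℤ))^[a] F g = 1 := by
      intro a
      induction a with
      | zero => intro c F hF g hg; rw [Function.iterate_zero_apply, hF g hg, Nat.choose_zero_right, Nat.cast_one]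
      | succ a ih =>
        intro c F hF g hg
        rw [Function.iterate_succ_apply]
        refine ih c (fwdDiff (1 : ℤ) F) (fun g hg => ?_) g hg
        show F (g + 1) - F g = _
        rw [hF _ (by omega), hF g hg, show (g + 1).toNat = g.toNat + 1 by omega, ← add_assoc,
          Nat.choose_succ_succ]
        push_cast
        ring
    refine hbase n n _ (fun g hg => ?_) g hg
    rw [hf_eq, show J f 0 = ⊥ by simp [J, Ideal.ofList], Submodule.restrictScalars_bot, inf_bot_eq,
      finrank_bot, Nat.cast_zero, sub_zero]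
    have h := (Groth.GrSyzLib.finite_and_finrank_stdGr (k := K) n g).2
    rw [if_pos hg] at h
    exact_mod_cast h
  | succ i ih =>
    intro hi
    obtain ⟨m₀, hm₀⟩ := ih (by omega)
    let l : Fin n := ⟨i, by omega⟩
    refine ⟨m₀ + d l, fun g hg => ?_⟩
    have hJsucc : J f (i + 1) = J f i ⊔ Ideal.span {f l} := by
      rw [J, J, List.take_add_one, Ideal.ofList_append]
      simp [l, Ideal.ofList, show i < n by omega]
    have hstep : Groth.Misc15.HilbLead.hf (J f (i + 1)) = fun g => ∑ j ∈ Finset.range (d l),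
        fwdDiff (1 : ℤ) (Groth.Misc15.HilbLead.hf (J f i)) (g + ((j : ℤ) - (d l : ℤ))) := by
      funext g
      have h := hf_step (isHomogeneous_J f d hf i) (hf l) g
      rw [colon_eq f d hf hd hdim l] at h
      rw [hJsucc]
      have htel := Finset.sum_range_sub (fun j : ℕ => Groth.Misc15.HilbLead.hf (J f i) (g + ((j : ℤ) - (d l : ℤ)))) (d l)
      simp only [sub_self, add_zero, Nat.cast_zero, zero_sub, ← sub_eq_add_neg] at htel
      rw [show (J f (l : ℕ)) = J f i from rfl] at h
      have hterm : ∀ j : ℕ, fwdDiff (1 : ℤ) (Groth.Misc15.HilbLead.hf (J f i)) (g + ((j : ℤ) - (d l : ℤ))) =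
          Groth.Misc15.HilbLead.hf (J f i) (g + (((j + 1 : ℕ) : ℤ) - (d l : ℤ))) - Groth.Misc15.HilbLead.hf (J f i) (g + ((j : ℤ) - (d l : ℤ))) := fun j => by
        show Groth.Misc15.HilbLead.hf (J f i) _ - _ = _
        congr 2
        push_cast
        ring
      simp only [hterm]
      rw [htel]
      linarith
    have hfilter : Finset.univ.filter (fun x : Fin n => (x : ℕ) < i + 1) =
        insert l (Finset.univ.filter fun x : Fin n => (x : ℕ) < i) := by
      ext x
      simp [l, Fin.ext_iff]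
      omega
    rw [hfilter, Finset.prod_insert (by simp [l]), hstep]
    have hsum : (fun g : ℤ => ∑ j ∈ Finset.range (d l), fwdDiff (1 : ℤ) (Groth.Misc15.HilbLead.hf (J f i)) (g + ((j : ℤ) - (d l : ℤ)))) =
        ∑ j ∈ Finset.range (d l), fun g : ℤ => fwdDiff (1 : ℤ) (Groth.Misc15.HilbLead.hf (J f i)) (g + ((j : ℤ) - (d l : ℤ))) := by
      funext g; rw [Finset.sum_apply]
    rw [hsum, fwdDiff_iter_finsetSum, Finset.sum_apply, Finset.sum_congr rfl fun j hj => ?_]
    rw [Finset.sum_const, Finset.card_range, nsmul_eq_mul]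
    rw [fwdDiff_iter_comp_add, ← Function.iterate_succ_apply, show (n - (i + 1)).succ = n - i by omega]
    rw [Finset.mem_range] at hj
    exact hm₀ _ (by omega)

end Groth.Agf.GradedBezout
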