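import Mathlib

/-!
# Homotopy invariance of the Picard group of a normal domain, and graded rings

For a normal domain `R`, evaluations `R[X] → R` at different points induce the same map of Picard
groups (content argument of Kronecker). Hence positively graded normal domains over a field have
trivial Picard group.
-/

set_option autoImplicit false
universe u

open Polynomial TensorProduct

namespace Groth.Agf.GradedPic

variable {R : Type u} [CommRing R] [IsDomain R] [IsIntegrallyClosed R]

/-- Kronecker: coefficient products of an integral product are integral. -/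
theorem coeff_mul_mem {f g : (FractionRing R)[X]} {q : R[X]}
    (h : f * g = q.map (algebraMap R (FractionRing R))) (i j : ℕ) :
    ∃ r : R, algebraMap R (FractionRing R) r = f.coeff i * g.coeff j := by
  classical
  let K := FractionRing R
  suffices hmem : f.coeff i * g.coeff j ∈ (algebraMap R K).range from hmem
  have hR : (algebraMap R K).range = (integralClosure R K).toSubring := by
    ext x
    exact ⟨fun ⟨r, hr⟩ => hr ▸ isIntegral_algebraMap, fun hx => IsIntegrallyClosed.isIntegral_iff.1 hx⟩
  rw [hR]
  haveI : IsIntegrallyClosedIn (integralClosure R K).toSubring K :=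
    inferInstanceAs (IsIntegrallyClosedIn (integralClosure R K) K)
  rw [Subring.eq_iInf_of_isIntegrallyClosedIn (R := (integralClosure R K).toSubring), Subring.mem_iInf]
  rintro ⟨V, hV⟩
  show f.coeff i * g.coeff j ∈ V
  rw [← V.valuation_le_one_iff, map_mul]
  by_cases hfi : f.coeff i = 0
  · simp [hfi]
  by_cases hgj : g.coeff j = 0
  · simp [hgj]
  obtain ⟨i0, hi0m, hi0⟩ := Finset.exists_max_image f.support (fun m => V.valuation (f.coeff m))
    ⟨i, Polynomial.mem_support_iff.2 hfi⟩
  obtain ⟨j0, hj0m, hj0⟩ := Finset.exists_max_image g.support (fun m => V.valuation (g.coeff m))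
    ⟨j, Polynomial.mem_support_iff.2 hgj⟩
  set A := V.valuation (f.coeff i0)
  set B := V.valuation (g.coeff j0)
  have hA : ∀ m, V.valuation (f.coeff m) ≤ A := fun m => by
    by_cases h : f.coeff m = 0
    · simp [h]
    · exact hi0 m (Polynomial.mem_support_iff.2 h)
  have hB : ∀ m, V.valuation (g.coeff m) ≤ B := fun m => by
    by_cases h : g.coeff m = 0
    · simp [h]
    · exact hj0 m (Polynomial.mem_support_iff.2 h)
  have hexA : ∃ m, V.valuation (f.coeff m) = A := ⟨i0, rfl⟩
  have hexB : ∃ m, V.valuation (g.coeff m) = B := ⟨j0, rfl⟩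
  let a := Nat.find hexA
  let b := Nat.find hexB
  have ha : V.valuation (f.coeff a) = A := Nat.find_spec hexA
  have hb : V.valuation (g.coeff b) = B := Nat.find_spec hexB
  refine le_trans (mul_le_mul' (hA i) (hB j)) ?_
  have hne : A ≠ 0 := fun h0 => (Polynomial.mem_support_iff.1 hi0m) (V.valuation.zero_iff.1 h0)
  have hne' : B ≠ 0 := fun h0 => (Polynomial.mem_support_iff.1 hj0m) (V.valuation.zero_iff.1 h0)
  have hab : V.valuation ((f * g).coeff (a + b)) = A * B := by
    rw [Polynomial.coeff_mul]
    rw [Valuation.map_sum_eq_of_lt V.valuation (j := (a, b)) (by simp) ?_, map_mul, ha, hb]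
    rintro ⟨x, y⟩ hxy
    simp only [Finset.mem_sdiff, Finset.HasAntidiagonal.mem_antidiagonal, Finset.mem_singleton, Prod.mk.injEq] at hxy
    rw [map_mul, map_mul, ha, hb]
    rcases lt_trichotomy x a with hx | hx | hx
    · exact lt_of_le_of_lt (mul_le_mul' le_rfl (hB y))
        (mul_lt_mul_of_pos_right (lt_of_le_of_ne (hA x) (Nat.find_min hexA hx)) (zero_lt_iff.2 hne'))
    · exact absurd ⟨hx, by omega⟩ hxy.2
    · have hy : y < b := by omega
      rw [mul_comm, mul_comm A]
      exact lt_of_le_of_lt (mul_le_mul' le_rfl (hA x))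
        (mul_lt_mul_of_pos_right (lt_of_le_of_ne (hB y) (Nat.find_min hexB hy)) (zero_lt_iff.2 hne))
  rw [← hab, h, Polynomial.coeff_map, V.valuation_le_one_iff]
  exact hV ((integralClosure R K).algebraMap_mem _)

/-- The two evaluations agree on invertible modules. -/
theorem mapRingHom_eval_eq (L : CommRing.Pic R[X]) (a b : R) :
    CommRing.Pic.mapRingHom (evalRingHom a) L = CommRing.Pic.mapRingHom (evalRingHom b) L := by
  classical
  let K := FractionRing R
  let ι : R[X] →+* K[X] := mapRingHom (algebraMap R K)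
  have hι : Function.Injective ι := Polynomial.map_injective _ (IsFractionRing.injective R K)
  obtain ⟨I, ⟨eL⟩⟩ := Module.Invertible.exists_linearEquiv_ideal R[X] L
  haveI : Module.Invertible R[X] I := .congr eL
  obtain ⟨m, f, s, -, -, hfs⟩ := Module.Finite.exists_comp_eq_id_of_projective R[X] I
  let ev : Fin m → I := fun i => f (Pi.single i 1)
  let φ : Fin m → I →ₗ[R[X]] R[X] := fun i => (LinearMap.proj i).comp s
  have hbasis : ∀ e : I, e = ∑ i, φ i e • ev i := fun e => by
    conv_lhs => rw [show e = f (s e) from (DFunLike.congr_fun hfs e).symm, pi_eq_sum_univ' (s e)]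
    simp [φ, ev]
  have hne : I ≠ ⊥ := fun h0 => by
    have : Subsingleton I := h0 ▸ inferInstance
    have h1 := Module.Invertible.free_iff_linearEquiv.1
      (Module.Free.of_subsingleton R[X] I : Module.Free R[X] I)
    obtain ⟨e⟩ := h1
    exact absurd (e.symm.injective (Subsingleton.elim (e.symm 1) (e.symm 0))) one_ne_zero
  obtain ⟨a0, ha0, ha00⟩ := Submodule.exists_mem_ne_zero_of_ne_bot hne
  let A : I := ⟨a0, ha0⟩
  have hφ : ∀ i (e : I), (e : R[X]) * φ i A = a0 * φ i e := fun i e => by
    have h1 : (e : R[X]) • A = a0 • e := Subtype.ext (mul_comm (e : R[X]) a0)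
    have := congrArg (φ i) h1
    rwa [map_smul, map_smul, smul_eq_mul, smul_eq_mul] at this
  obtain ⟨g, hg⟩ := (IsPrincipalIdealRing.principal (I.map ι)).principal
  have hg' : ∀ e : I, g ∣ ι e := fun e =>
    Ideal.mem_span_singleton.1 ((hg ▸ Ideal.mem_map_of_mem ι e.2 : ι (e : R[X]) ∈ Submodule.span K[X] {g}))
  choose e' he' using hg'
  have hg0 : g ≠ 0 := fun h0 => ha00 (hι (by
    rw [map_zero, show ι a0 = g * e' A from he' A, h0, zero_mul]))
  have hdvd : ∀ i, ι a0 ∣ g * ι (φ i A) := fun i => by
    have hle : I.map ι ≤ (Ideal.span {ι a0}).colon {ι (φ i A)} := by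
      rw [Ideal.map_le_iff_le_comap]
      intro e he
      rw [Ideal.mem_comap, Submodule.mem_colon_singleton, smul_eq_mul, ← map_mul, hφ i ⟨e, he⟩, map_mul]
      exact Ideal.mul_mem_right _ _ (Ideal.mem_span_singleton_self _)
    have := hle (show g ∈ I.map ι from hg ▸ Submodule.mem_span_singleton_self g)
    rw [Submodule.mem_colon_singleton, smul_eq_mul, Ideal.mem_span_singleton] at this
    exact this
  choose x hx using hdvd
  have hιa : ι a0 ≠ 0 := (map_ne_zero_iff ι hι).2 ha00
  have P3 : ∀ i e, ι (φ i e) = e' e * x i := fun i e => by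
    refine mul_left_cancel₀ hιa ?_
    rw [← map_mul, ← hφ i e, map_mul, he' e, mul_left_comm, ← hx i]
    ring
  have P2 : ∑ i, e' (ev i) * x i = 1 := by
    refine mul_left_cancel₀ (mul_ne_zero hιa hg0) ?_
    rw [mul_one, Finset.mul_sum]
    calc ∑ i, ι a0 * g * (e' (ev i) * x i) = ∑ i, g * ι ((ev i : R[X]) * φ i A) := by
          refine Finset.sum_congr rfl fun i _ => ?_
          rw [map_mul, he' (ev i), show ι a0 * g * (e' (ev i) * x i) = (g * e' (ev i)) * (ι a0 * x i) by ring,
            ← hx i]
          ring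
      _ = g * ι (∑ i, φ i A * (ev i : R[X])) := by
          rw [map_sum, Finset.mul_sum]
          exact Finset.sum_congr rfl fun i _ => by rw [mul_comm (φ i A)]
      _ = ι a0 * g := by
          have := congrArg (Subtype.val (p := fun y => y ∈ I)) (hbasis A)
          simp only [AddSubmonoidClass.coe_finsetSum, SetLike.val_smul, smul_eq_mul] at this
          rw [← this, mul_comm]
  have P1 : ∀ (i : Fin m) (e : I) (p q : ℕ), ∃ r : R, algebraMap R K r = (e' e).coeff p * (x i).coeff q :=
    fun i e => coeff_mul_mem (P3 i e).symm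
  -- the image of the evaluation
  let θ : R → I → K := fun s e => (e' e).eval (algebraMap R K s)
  have P1' : ∀ (i : Fin m) (e : I) (s t : R), ∃ r : R, algebraMap R K r = θ s e * (x i).eval (algebraMap R K t) := by
    intro i e s t
    choose c hc using P1 i e
    refine ⟨∑ p ∈ Finset.range ((e' e).natDegree + 1), ∑ q ∈ Finset.range ((x i).natDegree + 1),
      c p q * (s ^ p * t ^ q), ?_⟩
    simp only [θ, map_sum, map_mul, map_pow, hc, Polynomial.eval_eq_sum_range, Finset.sum_mul, Finset.mul_sum]
    first
    | rw [Finset.sum_comm]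
      exact Finset.sum_congr rfl fun q _ => Finset.sum_congr rfl fun p _ => by ring
    | exact Finset.sum_congr rfl fun p _ => Finset.sum_congr rfl fun q _ => by ring
  have hadd : ∀ e₁ e₂ : I, e' (e₁ + e₂) = e' e₁ + e' e₂ := fun e₁ e₂ => mul_left_cancel₀ hg0 (by
    rw [← he', mul_add, ← he', ← he', ← map_add]; rfl)
  have hsmul : ∀ (c : R[X]) (e : I), e' (c • e) = ι c * e' e := fun c e => mul_left_cancel₀ hg0 (by
    rw [← he', mul_left_comm, ← he', ← map_mul]; rfl)
  have main : ∀ s : R, letI := (evalRingHom s).toAlgebra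
      ∃ F : R ⊗[R[X]] I →ₗ[R] K, Function.Injective F ∧ LinearMap.range F = Submodule.span R (Set.range (θ s)) := by
    intro s
    letI := (evalRingHom s).toAlgebra
    have hev : ∀ c : R[X], algebraMap R K (c.eval s) = (ι c).eval (algebraMap R K s) := fun c =>
      (Polynomial.eval_map_apply (algebraMap R K) s).symm
    let F₀ : R ⊗[R[X]] I →+ K := TensorProduct.liftAddHom
      { toFun := fun r =>
          { toFun := fun e => algebraMap R K r * θ s e
            map_zero' := by
              have h0 : e' 0 = 0 := by simpa using hadd 0 0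
              simp [θ, h0]
            map_add' := fun e₁ e₂ => by simp only [θ, hadd, eval_add, mul_add] }
        map_zero' := by ext e; simp
        map_add' := fun r₁ r₂ => by ext e; simp [add_mul] }
      (fun c r e => by
        show algebraMap R K (c • r) * θ s e = algebraMap R K r * θ s (c • e)
        simp only [θ, hsmul, eval_mul, ← hev, Algebra.smul_def]
        show algebraMap R K (c.eval s * r) * _ = _
        rw [map_mul]
        ring)
    let F : R ⊗[R[X]] I →ₗ[R] K :=
      { F₀ with
        map_smul' := fun r z => by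
          induction z with
          | zero => simp
          | tmul r' e =>
            show algebraMap R K (r * r') * θ s e = r • (algebraMap R K r' * θ s e)
            rw [map_mul, Algebra.smul_def, mul_assoc]
          | add z₁ z₂ h₁ h₂ =>
            simp only [smul_add] at h₁ h₂ ⊢
            change F₀ (r • z₁ + r • z₂) = r • F₀ (z₁ + z₂)
            rw [map_add, map_add, smul_add]
            exact congrArg₂ (· + ·) h₁ h₂ }
    have hF : ∀ (r : R) (e : I), F (r ⊗ₜ e) = algebraMap R K r * θ s e := fun r e => rfl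
    have key : ∀ z, ∃ c : Fin m → R, z = ∑ i, c i ⊗ₜ[R[X]] ev i ∧
        ∀ i, algebraMap R K (c i) = F z * (x i).eval (algebraMap R K s) := by
      intro z
      induction z with
      | zero => exact ⟨0, by simp, fun i => by simp⟩
      | tmul r e =>
        refine ⟨fun i => (φ i e).eval s * r, ?_, fun i => ?_⟩
        · conv_lhs => rw [hbasis e, TensorProduct.tmul_sum]
          refine Finset.sum_congr rfl fun i _ => ?_
          rw [TensorProduct.tmul_smul, TensorProduct.smul_tmul']
          rfl
        · rw [hF, map_mul, hev, P3, eval_mul]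
          ring
      | add z₁ z₂ h₁ h₂ =>
        obtain ⟨c₁, e₁, f₁⟩ := h₁
        obtain ⟨c₂, e₂, f₂⟩ := h₂
        refine ⟨c₁ + c₂, ?_, fun i => ?_⟩
        · simp only [Pi.add_apply, TensorProduct.add_tmul, Finset.sum_add_distrib, ← e₁, ← e₂]
        · rw [Pi.add_apply, map_add, f₁, f₂, map_add, add_mul]
    refine ⟨F, ?_, le_antisymm ?_ ?_⟩
    · rw [injective_iff_map_eq_zero]
      intro z hz
      obtain ⟨c, hc, hc'⟩ := key z
      rw [hc]
      refine Finset.sum_eq_zero fun i _ => ?_
      have : c i = 0 := IsFractionRing.injective R K (by rw [hc' i, hz, zero_mul, map_zero])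
      rw [this, TensorProduct.zero_tmul]
    · rintro _ ⟨z, rfl⟩
      induction z with
      | zero => rw [map_zero]; exact zero_mem _
      | tmul r e =>
        rw [hF, ← Algebra.smul_def]
        exact Submodule.smul_mem _ _ (Submodule.subset_span ⟨e, rfl⟩)
      | add z₁ z₂ h₁ h₂ => rw [map_add]; exact add_mem h₁ h₂
    · rw [Submodule.span_le]
      rintro _ ⟨e, rfl⟩
      exact ⟨1 ⊗ₜ e, by rw [hF, map_one, one_mul]⟩
  have hspan : ∀ s t : R, Submodule.span R (Set.range (θ s)) ≤ Submodule.span R (Set.range (θ t)) := by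
    intro s t
    rw [Submodule.span_le]
    rintro _ ⟨e, rfl⟩
    have h1 : θ s e = ∑ i, (θ s e * (x i).eval (algebraMap R K t)) * θ t (ev i) := by
      have h2 := congrArg (Polynomial.eval (algebraMap R K t)) P2
      simp only [eval_finsetSum, eval_mul, eval_one] at h2
      conv_lhs => rw [← mul_one (θ s e), ← h2, Finset.mul_sum]
      exact Finset.sum_congr rfl fun i _ => by simp only [θ]; ring
    rw [h1]
    refine Submodule.sum_mem _ fun i _ => ?_
    obtain ⟨r, hr⟩ := P1' i e s t
    rw [← hr, ← Algebra.smul_def]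
    exact Submodule.smul_mem _ _ (Submodule.subset_span ⟨_, rfl⟩)
  have hL : L = CommRing.Pic.mk R[X] I := (CommRing.Pic.mk_eq_iff.2 ⟨eL.symm⟩).symm
  have hcomp : ∀ s : R, ∀ N : CommRing.Pic R, CommRing.Pic.mapRingHom (evalRingHom s) L = N →
      Nonempty (N ≃ₗ[R] ↥(Submodule.span R (Set.range (θ s)))) := by
    intro s N hN
    obtain ⟨F, hFi, hFr⟩ := main s
    letI := (evalRingHom s).toAlgebra
    rw [← hN]
    exact ⟨(CommRing.Pic.mk.linearEquiv R (R ⊗[R[X]] L)).trans
      ((TensorProduct.AlgebraTensorModule.congr (LinearEquiv.refl R R) eL).trans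
        ((LinearEquiv.ofInjective F hFi).trans (LinearEquiv.ofEq _ _ hFr)))⟩
  obtain ⟨e₁⟩ := hcomp a _ rfl
  obtain ⟨e₂⟩ := hcomp b _ rfl
  exact CommRing.Pic.ext_iff.2
    ⟨(e₁.trans (LinearEquiv.ofEq _ _ (le_antisymm (hspan a b) (hspan b a)))).trans e₂.symm⟩

/-- Trivial Picard group given a contracting homotopy through a field. -/
theorem free_of_homotopy {k : Type u} [CommRing k] [Subsingleton (CommRing.Pic k)] (φ : R →+* R[X]) (i : k →+* R) (ε : R →+* k)
    (h1 : (evalRingHom 1).comp φ = RingHom.id R) (h0 : (evalRingHom 0).comp φ = i.comp ε)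
    (M : Type u) [AddCommGroup M] [Module R M] [Module.Invertible R M] : Module.Free R M := by
  rw [← CommRing.Pic.mk_eq_one_iff_free]
  have h := mapRingHom_eval_eq (CommRing.Pic.mapRingHom φ (CommRing.Pic.mk R M)) 1 0
  rw [CommRing.Pic.mapRingHom_mapRingHom, CommRing.Pic.mapRingHom_mapRingHom, h1,
    CommRing.Pic.mapRingHom_id_apply, h0, ← CommRing.Pic.mapRingHom_mapRingHom,
    Subsingleton.elim (CommRing.Pic.mapRingHom ε (CommRing.Pic.mk R M)) 1, map_one] at h
  exact h

theorem aeval_smul_of_isHomogeneous {k : Type u} [CommRing k] {σ : Type*} {S : Type u} [CommRing S] [Algebra k S]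
    (t : S) (y : σ → S) {p : MvPolynomial σ k} {d : ℕ} (hp : p.IsHomogeneous d) :
    MvPolynomial.aeval (fun v => t * y v) p = t ^ d * MvPolynomial.aeval y p := by
  classical
  simp only [MvPolynomial.aeval_def, MvPolynomial.eval₂_eq, Finset.mul_sum]
  refine Finset.sum_congr rfl fun m hm => ?_
  have hdeg : m.degree = d := hp.degree_eq_sum_deg_support hm ▸ rfl
  simp only [mul_pow, Finset.prod_mul_distrib, Finset.prod_pow_eq_pow_sum]
  rw [show ∑ i ∈ m.support, m i = d by rw [← hdeg, Finsupp.degree_apply]]
  ring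

end Groth.Agf.GradedPic
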