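import Mathlib

/-!
# The scheme of isomorphisms of two elliptic curves with the same `j ≠ 0, 1728` is étale
-/

set_option autoImplicit false
universe u

namespace Groth.Agf.IsomEtale

open WeierstrassCurve

section Lift

variable {S : Type u} [CommRing S]

/-- Linearisation of the action at a curve, in the coordinates `(u, r, s, t)` and `(a₁, a₂, a₃, a₄)`. -/
def D (W : WeierstrassCurve S) : Matrix (Fin 4) (Fin 4) S :=
  !![-W.a₁, 0, 2, 0;
     -2 * W.a₂, 3, -W.a₁, 0;
     -3 * W.a₃, W.a₁, 0, 2;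
     -4 * W.a₄, 2 * W.a₂, -W.a₃, -W.a₁]

theorem det_D (W : WeierstrassCurve S) : (D W).det = W.c₄ := by
  simp [D, c₄, b₂, b₄, Matrix.det_succ_row_zero, Fin.sum_univ_succ, Fin.succAbove]
  ring

/-- The change of variables `(1 + x₀, x₁, x₂, x₃)`. -/
noncomputable def tau (x : Fin 4 → S) (hx : x 0 * x 0 = 0) : VariableChange S where
  u :=
    { val := 1 + x 0
      inv := 1 - x 0
      val_inv := by linear_combination -hx
      inv_val := by linear_combination -hx }
  r := x 1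
  s := x 2
  t := x 3

variable {I : Ideal S}

theorem mul_eq_zero_of_mem (hI : I ^ 2 = ⊥) {a b : S} (ha : a ∈ I) (hb : b ∈ I) : a * b = 0 := by
  have : a * b ∈ I ^ 2 := by rw [pow_two]; exact Ideal.mul_mem_mul ha hb
  rwa [hI, Ideal.mem_bot] at this

theorem tau_smul (hI : I ^ 2 = ⊥) (W : WeierstrassCurve S) (x : Fin 4 → S) (hx : ∀ i, x i ∈ I) :
    ((tau x (mul_eq_zero_of_mem hI (hx 0) (hx 0))) • W).a₁ = W.a₁ + (D W).mulVec x 0 ∧
    ((tau x (mul_eq_zero_of_mem hI (hx 0) (hx 0))) • W).a₂ = W.a₂ + (D W).mulVec x 1 ∧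
    ((tau x (mul_eq_zero_of_mem hI (hx 0) (hx 0))) • W).a₃ = W.a₃ + (D W).mulVec x 2 ∧
    ((tau x (mul_eq_zero_of_mem hI (hx 0) (hx 0))) • W).a₄ = W.a₄ + (D W).mulVec x 3 := by
  have z : ∀ i j, x i * x j = 0 := fun i j => mul_eq_zero_of_mem hI (hx i) (hx j)
  simp only [variableChange_a₁, variableChange_a₂, variableChange_a₃, variableChange_a₄, tau,
    Units.inv_mk, D, Matrix.mulVec, dotProduct, Fin.sum_univ_four, Matrix.of_apply, Matrix.cons_val',
    Matrix.cons_val_zero, Matrix.cons_val_one, Matrix.cons_val, Matrix.cons_val_fin_one]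
  refine ⟨?_, ?_, ?_, ?_⟩
  · linear_combination (-2 : S) * z 0 2
  · linear_combination ((W.a₂ - x 2 * W.a₁ + 3 * x 1 - x 2 ^ 2)) * z 0 0 + (2 * W.a₁ + 2 * x 2) * z 0 2
      - 6 * z 0 1 - z 2 2
  · linear_combination (3 - x 0) * (W.a₃ + x 1 * W.a₁ + 2 * x 3) * z 0 0 - 3 * W.a₁ * z 0 1 - 6 * z 0 3
  · linear_combination (6 - 4 * x 0 + x 0 ^ 2) *
        (W.a₄ - x 2 * W.a₃ + 2 * x 1 * W.a₂ - (x 3 + x 1 * x 2) * W.a₁ + 3 * x 1 ^ 2 - 2 * x 2 * x 3) * z 0 0
      + 4 * W.a₃ * z 0 2 - 8 * W.a₂ * z 0 1 + 4 * W.a₁ * z 0 3 + (4 * W.a₁ * x 0 - W.a₁) * z 1 2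
      + (-12 * x 0 + 3) * z 1 1 + (8 * x 0 - 2) * z 2 3

theorem c₄_c₆_Δ_of_eq {W W' : WeierstrassCurve S} (h1 : W.a₁ = W'.a₁) (h2 : W.a₂ = W'.a₂)
    (h3 : W.a₃ = W'.a₃) (h4 : W.a₄ = W'.a₄) :
    W.c₄ = W'.c₄ ∧ W.Δ - W'.Δ = (W.a₆ - W'.a₆) * W'.c₆ - 432 * (W.a₆ - W'.a₆) ^ 2 := by
  constructor
  · simp only [c₄, b₂, b₄, h1, h2, h3, h4]
  · simp only [Δ, c₆, b₈, b₆, b₂, b₄, h1, h2, h3, h4]
    ring

theorem c₆_unit (W : WeierstrassCurve S) [W.IsElliptic] (h : IsUnit (W.j - 1728)) : IsUnit W.c₆ := by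
  have e : (W.j - 1728) * W.Δ = W.c₆ ^ 2 := by
    have hc := W.c_relation
    have hj : W.j * W.Δ = W.c₄ ^ 3 := by
      rw [j, mul_comm, ← mul_assoc, ← W.coe_Δ', ← Units.val_mul, mul_inv_cancel, Units.val_one, one_mul]
    linear_combination hj - hc
  exact (isUnit_pow_iff two_ne_zero).1 (e ▸ h.mul W.isUnit_Δ)

theorem c₄_unit (W : WeierstrassCurve S) [W.IsElliptic] (h : IsUnit W.j) : IsUnit W.c₄ :=
  (isUnit_pow_iff three_ne_zero).1 (isUnit_of_mul_isUnit_right (show IsUnit (↑W.Δ'⁻¹ * W.c₄ ^ 3) from h))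

/-- two nearby curves with the same `j` and the same `a₁, …, a₄` are equal -/
theorem eq_of_four (hI : I ^ 2 = ⊥) {W W' : WeierstrassCurve S} [W.IsElliptic] [W'.IsElliptic]
    (hj : W.j = W'.j) (h0 : IsUnit W'.j) (h1728 : IsUnit (W'.j - 1728)) (h1 : W.a₁ = W'.a₁)
    (h2 : W.a₂ = W'.a₂) (h3 : W.a₃ = W'.a₃) (h4 : W.a₄ = W'.a₄) (h6 : W.a₆ - W'.a₆ ∈ I) : W = W' := by
  obtain ⟨hc, hΔ⟩ := c₄_c₆_Δ_of_eq h1 h2 h3 h4
  have e : W.Δ'⁻¹ = W'.Δ'⁻¹ := by
    apply Units.ext
    have := hj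
    rw [j, j, hc] at this
    exact ((c₄_unit W' h0).pow 3).mul_right_cancel this
  have eΔ : W.Δ = W'.Δ := by rw [← W.coe_Δ', ← W'.coe_Δ', inv_injective e]
  rw [eΔ, sub_self, pow_two, mul_eq_zero_of_mem hI h6 h6, mul_zero, sub_zero] at hΔ
  have : W.a₆ - W'.a₆ = 0 := (c₆_unit W' h1728).mul_left_eq_zero.1 hΔ.symm
  exact WeierstrassCurve.ext h1 h2 h3 h4 (sub_eq_zero.1 this)

theorem exists_lift (hI : I ^ 2 = ⊥) {V V' : WeierstrassCurve S} [V.IsElliptic] [V'.IsElliptic]
    (hj : V.j = V'.j) (h0 : IsUnit V'.j) (h1728 : IsUnit (V'.j - 1728))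
    (C₀ : VariableChange (S ⧸ I)) (hC : C₀ • V.map (Ideal.Quotient.mk I) = V'.map (Ideal.Quotient.mk I)) :
    ∃ C : VariableChange S, C.map (Ideal.Quotient.mk I) = C₀ ∧ C • V = V' := by
  obtain ⟨u, hu⟩ := Ideal.Quotient.mk_surjective (C₀.u : S ⧸ I)
  have huu : IsUnit u := by
    obtain ⟨w, hw⟩ := Ideal.Quotient.mk_surjective (↑C₀.u⁻¹ : S ⧸ I)
    have hd : u * w - 1 ∈ I := by
      rw [← Ideal.Quotient.eq_zero_iff_mem, map_sub, map_mul, hu, hw, map_one, ← Units.val_mul, mul_inv_cancel,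
        Units.val_one, sub_self]
    have h2 := mul_eq_zero_of_mem hI hd hd
    exact IsUnit.of_mul_eq_one (w * (2 - u * w)) (by linear_combination -h2)
  obtain ⟨r, hr⟩ := Ideal.Quotient.mk_surjective C₀.r
  obtain ⟨s, hs⟩ := Ideal.Quotient.mk_surjective C₀.s
  obtain ⟨t, ht⟩ := Ideal.Quotient.mk_surjective C₀.t
  let C₁ : VariableChange S := ⟨huu.unit, r, s, t⟩
  have hC₁ : C₁.map (Ideal.Quotient.mk I) = C₀ :=
    VariableChange.ext (Units.ext (by simpa [VariableChange.map, C₁] using hu)) hr hs ht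
  let W := C₁ • V
  have hW : W.map (Ideal.Quotient.mk I) = V'.map (Ideal.Quotient.mk I) := by
    rw [← map_variableChange, hC₁, hC]
  have hm : ∀ {a b : S}, Ideal.Quotient.mk I a = Ideal.Quotient.mk I b → a - b ∈ I := fun h =>
    (Ideal.Quotient.eq).1 h
  have hu4 : IsUnit (D W).det := by
    rw [det_D]
    exact c₄_unit W (by rw [variableChange_j, hj]; exact h0)
  let d : Fin 4 → S := ![V'.a₁ - W.a₁, V'.a₂ - W.a₂, V'.a₃ - W.a₃, V'.a₄ - W.a₄]
  have hd : ∀ i, d i ∈ I := by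
    intro i
    fin_cases i
    exacts [hm (congrArg WeierstrassCurve.a₁ hW).symm, hm (congrArg WeierstrassCurve.a₂ hW).symm,
      hm (congrArg WeierstrassCurve.a₃ hW).symm, hm (congrArg WeierstrassCurve.a₄ hW).symm]
  let x : Fin 4 → S := (D W)⁻¹.mulVec d
  have hx : ∀ i, x i ∈ I := fun i => by
    simp only [x, Matrix.mulVec, dotProduct]
    exact Ideal.sum_mem _ fun l _ => I.mul_mem_left _ (hd l)
  have hDx : (D W).mulVec x = d := by
    simp only [x, Matrix.mulVec_mulVec, Matrix.mul_nonsing_inv _ hu4, Matrix.one_mulVec]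
  obtain ⟨e1, e2, e3, e4⟩ := tau_smul hI W x hx
  let T := tau x (mul_eq_zero_of_mem hI (hx 0) (hx 0))
  have hT : T.map (Ideal.Quotient.mk I) = 1 := by
    refine VariableChange.ext (Units.ext ?_) ?_ ?_ ?_
    · simp [VariableChange.map, VariableChange.one_def, T, tau, (Ideal.Quotient.eq_zero_iff_mem).2 (hx 0)]
    all_goals simp [VariableChange.map, VariableChange.one_def, T, tau,
      (Ideal.Quotient.eq_zero_iff_mem).2 (hx 1), (Ideal.Quotient.eq_zero_iff_mem).2 (hx 2),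
      (Ideal.Quotient.eq_zero_iff_mem).2 (hx 3)]
  have hmapeq : (T * C₁).map (Ideal.Quotient.mk I) = C₀ := by
    rw [show (T * C₁).map (Ideal.Quotient.mk I) = T.map (Ideal.Quotient.mk I) * C₁.map (Ideal.Quotient.mk I) from
      map_mul (VariableChange.mapHom (Ideal.Quotient.mk I)) T C₁, hT, hC₁, one_mul]
  refine ⟨T * C₁, hmapeq, ?_⟩
  have hW' : ((T * C₁) • V).map (Ideal.Quotient.mk I) = V'.map (Ideal.Quotient.mk I) := by
    rw [← map_variableChange, hmapeq, hC]
  rw [mul_smul] at hW' ⊢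
  refine eq_of_four hI ?_ h0 h1728 ?_ ?_ ?_ ?_ (hm (congrArg WeierstrassCurve.a₆ hW'))
  · rw [variableChange_j, variableChange_j, hj]
  · rw [show (T • W).a₁ = _ from e1, hDx]; simp [d]
  · rw [show (T • W).a₂ = _ from e2, hDx]; simp [d]
  · rw [show (T • W).a₃ = _ from e3, hDx]; simp [d]
  · rw [show (T • W).a₄ = _ from e4, hDx]; simp [d]

theorem lift_unique (hI : I ^ 2 = ⊥) {V V' : WeierstrassCurve S} [V'.IsElliptic]
    (h0 : IsUnit V'.j) {C C' : VariableChange S}
    (hm : C.map (Ideal.Quotient.mk I) = C'.map (Ideal.Quotient.mk I)) (hC : C • V = V') (hC' : C' • V = V') :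
    C = C' := by
  let T := C' * C⁻¹
  have hT : T • V' = V' := by
    rw [mul_smul, show C⁻¹ • V' = V by rw [← hC, inv_smul_smul], hC']
  have hT1 : T.map (Ideal.Quotient.mk I) = 1 := by
    have h := map_mul (VariableChange.mapHom (Ideal.Quotient.mk I)) C' C⁻¹
    rw [map_inv] at h
    refine h.trans ?_
    show C'.map _ * (C.map _)⁻¹ = 1
    rw [hm, mul_inv_cancel]
  let x : Fin 4 → S := ![(T.u : S) - 1, T.r, T.s, T.t]
  have hx : ∀ i, x i ∈ I := by
    intro i
    fin_cases i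
    · show (T.u : S) - 1 ∈ I
      have := congrArg (fun C : VariableChange (S ⧸ I) => (C.u : S ⧸ I)) hT1
      simp only [VariableChange.map, VariableChange.one_def, Units.coe_map, MonoidHom.coe_coe, Units.val_one] at this
      rw [← Ideal.Quotient.eq_zero_iff_mem, map_sub, map_one, sub_eq_zero]
      exact this
    · exact Ideal.Quotient.eq_zero_iff_mem.1 (congrArg VariableChange.r hT1)
    · exact Ideal.Quotient.eq_zero_iff_mem.1 (congrArg VariableChange.s hT1)
    · exact Ideal.Quotient.eq_zero_iff_mem.1 (congrArg VariableChange.t hT1)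
  have hTx : T = tau x (mul_eq_zero_of_mem hI (hx 0) (hx 0)) :=
    VariableChange.ext (Units.ext (by simp [tau, x])) rfl rfl rfl
  obtain ⟨e1, e2, e3, e4⟩ := tau_smul hI V' x hx
  rw [← hTx, hT] at e1 e2 e3 e4
  have hDx : (D V').mulVec x = 0 := by
    funext i
    fin_cases i
    exacts [left_eq_add.1 e1, left_eq_add.1 e2, left_eq_add.1 e3, left_eq_add.1 e4]
  have hx0 : x = 0 := by
    have hu : IsUnit (D V').det := by rw [det_D]; exact c₄_unit V' h0
    have := congrArg ((D V')⁻¹.mulVec) hDx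
    rwa [Matrix.mulVec_mulVec, Matrix.nonsing_inv_mul _ hu, Matrix.one_mulVec, Matrix.mulVec_zero] at this
  have : T = 1 := by
    refine VariableChange.ext (Units.ext ?_) ?_ ?_ ?_
    · have := congrFun hx0 0
      simpa [x, sub_eq_zero, VariableChange.one_def] using this
    · exact congrFun hx0 1
    · exact congrFun hx0 2
    · exact congrFun hx0 3
  exact (mul_inv_eq_one.1 this).symm

end Lift

section Rep

variable {A : Type u} [CommRing A] (W₁ W₂ : WeierstrassCurve A)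

/-- the polynomial ring in `u, r, s, t, u⁻¹` -/
abbrev P (A : Type u) [CommRing A] := MvPolynomial (Fin 5) A

/-- ideal of `u u⁻¹ = 1` -/
noncomputable def J₀ (A : Type u) [CommRing A] : Ideal (P A) :=
  Ideal.span {MvPolynomial.X 0 * MvPolynomial.X 4 - 1}

/-- the ring of all changes of variables -/
abbrev G (A : Type u) [CommRing A] := P A ⧸ J₀ A

/-- the universal change of variables -/
noncomputable def Cu (A : Type u) [CommRing A] : VariableChange (G A) where
  u :=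
    { val := Ideal.Quotient.mk _ (MvPolynomial.X 0)
      inv := Ideal.Quotient.mk _ (MvPolynomial.X 4)
      val_inv := by
        rw [← map_mul, ← map_one (Ideal.Quotient.mk (J₀ A))]
        exact Ideal.Quotient.eq.2 (Ideal.mem_span_singleton_self _)
      inv_val := by
        rw [mul_comm, ← map_mul, ← map_one (Ideal.Quotient.mk (J₀ A))]
        exact Ideal.Quotient.eq.2 (Ideal.mem_span_singleton_self _) }
  r := Ideal.Quotient.mk _ (MvPolynomial.X 1)
  s := Ideal.Quotient.mk _ (MvPolynomial.X 2)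
  t := Ideal.Quotient.mk _ (MvPolynomial.X 3)

/-- the five equations -/
noncomputable def J₁ : Ideal (G A) :=
  let W := Cu A • W₁.map (algebraMap A (G A))
  let W' := W₂.map (algebraMap A (G A))
  Ideal.span {W.a₁ - W'.a₁, W.a₂ - W'.a₂, W.a₃ - W'.a₃, W.a₄ - W'.a₄, W.a₆ - W'.a₆}

/-- the ring of isomorphisms -/
abbrev Isom := G A ⧸ J₁ W₁ W₂

/-- the quotient map -/
noncomputable abbrev qm : G A →+* Isom W₁ W₂ := Ideal.Quotient.mk _

/-- the universal isomorphism -/
noncomputable def Ci : VariableChange (Isom W₁ W₂) := (Cu A).map (qm W₁ W₂)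

theorem map_alg {R S : Type u} [CommRing R] [CommRing S] [Algebra A R] [Algebra A S] (f : R →ₐ[A] S)
    (W : WeierstrassCurve A) : (W.map (algebraMap A R)).map f.toRingHom = W.map (algebraMap A S) := by
  rw [WeierstrassCurve.map_map, show f.toRingHom.comp (algebraMap A R) = algebraMap A S from f.comp_algebraMap]

theorem smul_Ci : Ci W₁ W₂ • W₁.map (algebraMap A (Isom W₁ W₂)) = W₂.map (algebraMap A (Isom W₁ W₂)) := by
  rw [Ci, show algebraMap A (Isom W₁ W₂) = (qm W₁ W₂).comp (algebraMap A (G A)) from rfl,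
    ← WeierstrassCurve.map_map, ← WeierstrassCurve.map_map, map_variableChange]
  refine WeierstrassCurve.ext ?_ ?_ ?_ ?_ ?_ <;>
    · refine Ideal.Quotient.eq.2 (Ideal.subset_span ?_)
      simp

variable {W₁ W₂}

theorem exists_hom {S : Type u} [CommRing S] [Algebra A S] (C : VariableChange S)
    (hC : C • W₁.map (algebraMap A S) = W₂.map (algebraMap A S)) :
    ∃ f : Isom W₁ W₂ →ₐ[A] S, (Ci W₁ W₂).map f.toRingHom = C := by
  let g : P A →ₐ[A] S := MvPolynomial.aeval ![(C.u : S), C.r, C.s, C.t, ↑C.u⁻¹]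
  have hg : ∀ a ∈ J₀ A, g a = 0 := fun a ha => by
    obtain ⟨c, rfl⟩ := Ideal.mem_span_singleton'.1 ha
    simp [g]
  let g' : G A →ₐ[A] S := Ideal.Quotient.liftₐ (J₀ A) g hg
  have hg' : (Cu A).map g'.toRingHom = C := by
    refine VariableChange.ext (Units.ext ?_) ?_ ?_ ?_
    · show g (MvPolynomial.X 0) = _; simp [g]
    · show g (MvPolynomial.X 1) = _; simp [g]
    · show g (MvPolynomial.X 2) = _; simp [g]
    · show g (MvPolynomial.X 3) = _; simp [g]
  have hW : (Cu A • W₁.map (algebraMap A (G A))).map g'.toRingHom = (W₂.map (algebraMap A (G A))).map g'.toRingHom := by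
    rw [← map_variableChange, hg', map_alg g', map_alg g', hC]
  have hJ : ∀ a ∈ J₁ W₁ W₂, g' a = 0 := by
    intro a ha
    refine (Ideal.span_le (I := RingHom.ker g'.toRingHom)).2 ?_ ha
    rintro b (rfl | rfl | rfl | rfl | rfl) <;> rw [SetLike.mem_coe, RingHom.mem_ker, map_sub, sub_eq_zero]
    exacts [congrArg WeierstrassCurve.a₁ hW, congrArg WeierstrassCurve.a₂ hW, congrArg WeierstrassCurve.a₃ hW,
      congrArg WeierstrassCurve.a₄ hW, congrArg WeierstrassCurve.a₆ hW]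
  refine ⟨Ideal.Quotient.liftₐ (J₁ W₁ W₂) g' hJ, ?_⟩
  rw [← hg', Ci, VariableChange.map_map]
  rfl

theorem hom_ext {S : Type u} [CommRing S] [Algebra A S] {f f' : Isom W₁ W₂ →ₐ[A] S}
    (h : (Ci W₁ W₂).map f.toRingHom = (Ci W₁ W₂).map f'.toRingHom) : f = f' := by
  apply Ideal.Quotient.algHom_ext
  apply Ideal.Quotient.algHom_ext
  apply MvPolynomial.algHom_ext
  intro i
  fin_cases i
  · exact congrArg (fun C : VariableChange S => (C.u : S)) h
  · exact congrArg VariableChange.r h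
  · exact congrArg VariableChange.s h
  · exact congrArg VariableChange.t h
  · exact congrArg (fun C : VariableChange S => (↑C.u⁻¹ : S)) h

theorem smul_hom {S : Type u} [CommRing S] [Algebra A S] (f : Isom W₁ W₂ →ₐ[A] S) :
    (Ci W₁ W₂).map f.toRingHom • W₁.map (algebraMap A S) = W₂.map (algebraMap A S) := by
  rw [← map_alg (R := Isom W₁ W₂) f W₁, ← map_alg (R := Isom W₁ W₂) f W₂, map_variableChange, smul_Ci]

theorem etale [W₁.IsElliptic] [W₂.IsElliptic] (hj : W₁.j = W₂.j) (h0 : IsUnit W₁.j)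
    (h1728 : IsUnit (W₁.j - 1728)) : Algebra.Etale A (Isom W₁ W₂) := by
  haveI : Algebra.FinitePresentation A (G A) :=
    Algebra.FinitePresentation.quotient ⟨{MvPolynomial.X 0 * MvPolynomial.X 4 - 1}, by simp [J₀]⟩
  haveI : Algebra.FinitePresentation A (Isom W₁ W₂) :=
    Algebra.FinitePresentation.quotient (by
      rw [J₁]
      exact Submodule.fg_span (by simp))
  haveI : Algebra.FormallyEtale A (Isom W₁ W₂) := by
    rw [Algebra.FormallyEtale.iff_comp_bijective]
    intro S _ _ I hI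
    have hjS : ∀ W : WeierstrassCurve A, ∀ [W.IsElliptic], (W.map (algebraMap A S)).j = algebraMap A S W.j :=
      fun W _ => map_j W _
    have h0' : IsUnit (W₂.map (algebraMap A S)).j := by rw [hjS, ← hj]; exact h0.map _
    have h1728' : IsUnit ((W₂.map (algebraMap A S)).j - 1728) := by
      rw [hjS, ← hj, ← map_ofNat (algebraMap A S) 1728, ← map_sub]; exact h1728.map _
    have hmapI : ∀ W : WeierstrassCurve A,
        (W.map (algebraMap A S)).map (Ideal.Quotient.mk I) = W.map (algebraMap A (S ⧸ I)) := fun W =>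
      map_alg (Ideal.Quotient.mkₐ A I) W
    have hcomp : ∀ f : Isom W₁ W₂ →ₐ[A] S,
        (Ci W₁ W₂).map ((Ideal.Quotient.mkₐ A I).comp f).toRingHom =
          ((Ci W₁ W₂).map f.toRingHom).map (Ideal.Quotient.mk I) := fun f => by
      rw [VariableChange.map_map]; rfl
    constructor
    · intro f f' h
      refine hom_ext (lift_unique hI h0' ?_ (smul_hom f) (smul_hom f'))
      rw [← hcomp, ← hcomp]
      exact congrArg (fun g : Isom W₁ W₂ →ₐ[A] S ⧸ I => (Ci W₁ W₂).map g.toRingHom) h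
    · intro g
      obtain ⟨C, hC1, hC2⟩ := exists_lift (S := S) hI (V := W₁.map (algebraMap A S)) (V' := W₂.map (algebraMap A S))
        (by rw [hjS, hjS, hj]) h0' h1728' ((Ci W₁ W₂).map g.toRingHom)
        (by rw [hmapI, hmapI]; exact smul_hom g)
      obtain ⟨f, hf⟩ := exists_hom C hC2
      exact ⟨f, hom_ext (by rw [hcomp, hf, hC1])⟩
  exact ⟨inferInstance, inferInstance⟩

end Rep

end Groth.Agf.IsomEtale
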