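import Groth.Agent.Variety2.DimAffine

/-!
A formally unramified endomorphism of a finitely generated domain over a field is injective; two injective
endomorphisms of finitely presented type have images in the spectrum which share a closed point.
-/

universe u

noncomputable section

namespace Groth.Agf

variable {K : Type u} [Field K] {A : Type u} [CommRing A] [IsDomain A] [Algebra K A] [Algebra.FiniteType K A]

/-- A finitely generated domain which is formally unramified over a subalgebra is algebraic over it. -/
theorem isAlgebraic_of_formallyUnramified (R : Subalgebra K A) [Algebra.FormallyUnramified R A] :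
    Algebra.IsAlgebraic R A := by
  let L := FractionRing A
  have hinj : Function.Injective (algebraMap R L) := by
    rw [IsScalarTower.algebraMap_eq R A L]
    exact (IsFractionRing.injective A L).comp Subtype.val_injective
  have : FaithfulSMul R L := (faithfulSMul_iff_algebraMap_injective _ _).2 hinj
  let F := FractionRing R
  let : Algebra F L := FractionRing.liftAlgebra R L
  have : IsScalarTower R F L := FractionRing.isScalarTower_liftAlgebra R L
  have : Algebra.FormallyUnramified A L :=
    Algebra.FormallyUnramified.of_isLocalization (nonZeroDivisors A)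
  have : Algebra.FormallyUnramified R L := Algebra.FormallyUnramified.comp R A L
  have : Algebra.FormallyUnramified F L := Algebra.FormallyUnramified.of_restrictScalars R F L
  have : Algebra.EssFiniteType A L := Algebra.EssFiniteType.of_isLocalization L (nonZeroDivisors A)
  have : Algebra.EssFiniteType K L := Algebra.EssFiniteType.comp K A L
  have : IsScalarTower K R L := IsScalarTower.of_algebraMap_eq fun c => by
    rw [IsScalarTower.algebraMap_apply K A L, IsScalarTower.algebraMap_apply R A L]; rfl
  have : Algebra.EssFiniteType R L := Algebra.EssFiniteType.of_comp K R L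
  have : Algebra.EssFiniteType F L := Algebra.EssFiniteType.of_comp R F L
  have : Module.Finite F L := Algebra.FormallyUnramified.finite_of_free F L
  have : Algebra.IsAlgebraic F L := Algebra.IsAlgebraic.of_finite F L
  have : Algebra.IsAlgebraic R F := IsLocalization.isAlgebraic _ (nonZeroDivisors R)
  have : Algebra.IsAlgebraic R L := Algebra.IsAlgebraic.trans R F L
  exact ⟨fun a => (isAlgebraic_algHom_iff (IsScalarTower.toAlgHom R A L) (IsFractionRing.injective A L)).1
    (Algebra.IsAlgebraic.isAlgebraic _)⟩

/-- A formally unramified endomorphism of a finitely generated domain is injective. -/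
theorem injective_of_formallyUnramified (φ : A →ₐ[K] A) (h : φ.toRingHom.FormallyUnramified) :
    Function.Injective φ := by
  let R := φ.range
  have hR : Algebra.FormallyUnramified R A := by
    rw [← RingHom.formallyUnramified_algebraMap]
    exact RingHom.FormallyUnramified.of_comp (f := φ.rangeRestrict.toRingHom) h
  have := isAlgebraic_of_formallyUnramified R
  have : Algebra.FiniteType K R := Algebra.FiniteType.of_surjective φ.rangeRestrict φ.rangeRestrict_surjective
  obtain ⟨n, hn, hn', -⟩ := Groth.Variety2.Dim.exists_dim K R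
  obtain ⟨m, hm, hm', -⟩ := Groth.Variety2.Dim.exists_dim K A
  have hnm : n = m := by
    have h1 := trdeg_add_eq K R (A := A)
    rw [trdeg_eq_zero (R := R) (A := A), add_zero] at h1
    have h2 := trdeg_add_eq K R (A := FractionRing R)
    have : Algebra.IsAlgebraic R (FractionRing R) := IsLocalization.isAlgebraic _ (nonZeroDivisors R)
    rw [trdeg_eq_zero (R := R) (A := FractionRing R), add_zero] at h2
    have h3 := trdeg_add_eq K A (A := FractionRing A)
    have : Algebra.IsAlgebraic A (FractionRing A) := IsLocalization.isAlgebraic _ (nonZeroDivisors A)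
    rw [trdeg_eq_zero (R := A) (A := FractionRing A), add_zero] at h3
    rw [← h2, h1, h3, hm] at hn
    exact_mod_cast hn.symm
  by_contra hni
  obtain ⟨a, b, hab, hne⟩ := Function.not_injective_iff.1 hni
  let r := a - b
  have hr : r ∈ nonZeroDivisors A := mem_nonZeroDivisors_of_ne_zero (sub_ne_zero.2 hne)
  have hker : Ideal.span {r} ≤ RingHom.ker φ.rangeRestrict := by
    rw [Ideal.span_singleton_le_iff_mem, RingHom.mem_ker]
    ext
    simp [r, hab]
  have h1 := ringKrullDim_quotient_succ_le_of_nonZeroDivisor hr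
  have h2 := ringKrullDim_le_of_surjective (Ideal.Quotient.lift (Ideal.span {r}) φ.rangeRestrict.toRingHom
    fun x hx => hker hx) (Ideal.Quotient.lift_surjective_of_surjective _ _ φ.rangeRestrict_surjective)
  rw [hm'] at h1
  change ringKrullDim R ≤ _ at h2
  rw [hn', hnm] at h2
  have := (add_le_add_left h2 1).trans h1
  exact (Nat.lt_succ_self m).not_ge (by exact_mod_cast this)

omit [Algebra.FiniteType K A] [Algebra K A] in
/-- A constructible set of the spectrum of a domain containing the generic point contains a nonempty open. -/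
theorem exists_ne_zero_of_bot_mem {s : Set (PrimeSpectrum A)} (hs : Topology.IsConstructible s)
    (h : (⊥ : PrimeSpectrum A) ∈ s) :
    ∃ r : A, r ≠ 0 ∧ ∀ p : PrimeSpectrum A, r ∉ p.asIdeal → p ∈ s := by
  obtain ⟨S, rfl⟩ := PrimeSpectrum.exists_constructibleSetData_iff.2 hs
  simp only [PrimeSpectrum.ConstructibleSetData.toSet, Set.mem_iUnion] at h ⊢
  obtain ⟨C, hC, hg, hf⟩ := h
  have hg' : ∀ i, C.g i = 0 := fun i => by simpa using hg (Set.mem_range_self i)
  refine ⟨C.f, fun e => hf (by simp [e]), fun p hp => ⟨C, hC, ?_, by simpa using hp⟩⟩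
  rintro _ ⟨i, rfl⟩
  simp [hg' i]

/-- Images of two injective endomorphisms share a rational point. -/
theorem exists_common_point [IsAlgClosed K] (φ₁ φ₂ : A →ₐ[K] A) (h₁ : Function.Injective φ₁)
    (h₂ : Function.Injective φ₂) : ∃ g h : A →ₐ[K] K, g.comp φ₁ = h.comp φ₂ := by
  have hN : IsNoetherianRing A := Algebra.FiniteType.isNoetherianRing K A
  have key : ∀ φ : A →ₐ[K] A, Function.Injective φ →
      ∃ r : A, r ≠ 0 ∧ ∀ p : PrimeSpectrum A, r ∉ p.asIdeal → p ∈ Set.range (PrimeSpectrum.comap φ.toRingHom) := by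
    intro φ hφ
    refine exists_ne_zero_of_bot_mem (PrimeSpectrum.isConstructible_range_comap ?_) ⟨⊥, ?_⟩
    · refine (RingHom.FinitePresentation.of_finiteType).1 ?_
      exact RingHom.FiniteType.of_comp_finiteType (f := algebraMap K A) (g := φ.toRingHom)
        (by rw [AlgHom.toRingHom_eq_coe, φ.comp_algebraMap]; exact RingHom.finiteType_algebraMap.2 ‹_›)
    · ext x
      simp [map_eq_zero_iff φ hφ]
  obtain ⟨r₁, hr₁, k₁⟩ := key φ₁ h₁
  obtain ⟨r₂, hr₂, k₂⟩ := key φ₂ h₂
  have : IsJacobsonRing A := isJacobsonRing_of_finiteType (A := K)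
  have hJ : (⊥ : Ideal A).jacobson = ⊥ := IsJacobsonRing.out' _ (Ideal.isRadical_bot)
  obtain ⟨m, hm, hrm⟩ : ∃ m : Ideal A, m.IsMaximal ∧ r₁ * r₂ ∉ m := by
    by_contra hc
    refine mul_ne_zero hr₁ hr₂ ((Submodule.mem_bot A).1 (hJ ▸ ?_))
    rw [Ideal.jacobson, Submodule.mem_sInf]
    intro m hm
    by_contra hn
    exact hc ⟨m, hm.2, hn⟩
  have lift : ∀ (φ : A →ₐ[K] A), ⟨m, hm.isPrime⟩ ∈ Set.range (PrimeSpectrum.comap φ.toRingHom) →
      ∃ g : A →ₐ[K] K, RingHom.ker (g.comp φ) = m := by
    rintro φ ⟨p, hp⟩
    obtain ⟨M, hM, hpM⟩ := Ideal.exists_le_maximal p.asIdeal p.isPrime.ne_top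
    let : Field (A ⧸ M) := Ideal.Quotient.field M
    have : Module.Finite K (A ⧸ M) := finite_of_finite_type_of_isJacobsonRing K (A ⧸ M)
    let e : K ≃ₐ[K] A ⧸ M := AlgEquiv.ofBijective (Algebra.ofId K _)
      (IsAlgClosed.algebraMap_bijective_of_isIntegral (k := K) (K := A ⧸ M))
    refine ⟨e.symm.toAlgHom.comp (Ideal.Quotient.mkₐ K M), (hm.eq_of_le (RingHom.ker_ne_top _) ?_).symm⟩
    intro x hx
    rw [show m = p.asIdeal.comap φ.toRingHom from (congrArg PrimeSpectrum.asIdeal hp).symm] at hx
    simpa [RingHom.mem_ker, Ideal.Quotient.eq_zero_iff_mem] using hpM hx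
  obtain ⟨g, hg⟩ := lift φ₁ (k₁ ⟨m, hm.isPrime⟩ fun hh => hrm (m.mul_mem_right _ hh))
  obtain ⟨h, hh⟩ := lift φ₂ (k₂ ⟨m, hm.isPrime⟩ fun hh' => hrm (m.mul_mem_left _ hh'))
  refine ⟨g, h, AlgHom.ext fun x => ?_⟩
  have hx : x - algebraMap K A ((g.comp φ₁) x) ∈ m := by
    rw [← hg, RingHom.mem_ker, map_sub, AlgHom.commutes]
    simp
  rw [← hh, RingHom.mem_ker, map_sub, AlgHom.commutes, sub_eq_zero] at hx
  exact hx.symm

end Groth.Agf
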