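import Groth.Agent.Agf.Fn
import Groth.Agent.Agf.UnramifiedDominant
import Groth.Agent.AlgGrp1.Geom

/-!
Lang's theorem for a connected smooth affine group scheme over a finite field, on points with values in an
algebraic closure.
-/

universe u

open CategoryTheory Limits MonoidalCategory CartesianMonoidalCategory MonObj GrpObj AlgebraicGeometry
open scoped TensorProduct

noncomputable section

namespace Groth.Agf

variable {k : Type u} [Field k] [Finite k]

/-- The `q`-th power map, `q = #k`. -/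
def frob (k : Type u) [Field k] [Finite k] (B : Type u) [CommRing B] [Algebra k B] : B →ₐ[k] B :=
  haveI := Fintype.ofFinite k
  FiniteField.frobeniusAlgHom k B

theorem frob_apply {B : Type u} [CommRing B] [Algebra k B] (x : B) : frob k B x = x ^ Nat.card k := by
  let := Fintype.ofFinite k
  show x ^ Fintype.card k = _
  rw [Nat.card_eq_fintype_card]

variable {G : Over (Spec (CommRingCat.of k))} [GrpObj G] [IsAffine G.left]

/-- The Frobenius of a point. -/
def frobPt {B : Type u} [CommRing B] [Algebra k B] (g : VecGrp.pt k B ⟶ G) : VecGrp.pt k B ⟶ G :=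
  VecGrp.ptMap (frob k B) ≫ g

omit [IsAffine G.left] in
theorem frobPt_mul {B : Type u} [CommRing B] [Algebra k B] (g h : VecGrp.pt k B ⟶ G) :
    frobPt (g * h) = frobPt g * frobPt h := MonObj.comp_mul _ _ _

omit [IsAffine G.left] in
theorem frobPt_inv {B : Type u} [CommRing B] [Algebra k B] (g : VecGrp.pt k B ⟶ G) :
    frobPt g⁻¹ = (frobPt g)⁻¹ := GrpObj.comp_inv _ _

omit [GrpObj G] [IsAffine G.left] in
theorem evalPt_frobPt {B : Type u} [CommRing B] [Algebra k B] (g : VecGrp.pt k B ⟶ G) (s : Fn G) :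
    evalPt (frobPt g) s = evalPt g s ^ Nat.card k := by
  rw [frobPt, evalPt_ptMap]
  exact frob_apply _

omit [GrpObj G] in
theorem ptMap_frobPt {B C : Type u} [CommRing B] [Algebra k B] [CommRing C] [Algebra k C] (ψ : B →ₐ[k] C)
    (g : VecGrp.pt k B ⟶ G) : VecGrp.ptMap ψ ≫ frobPt g = frobPt (VecGrp.ptMap ψ ≫ g) := by
  refine pt_ext (AlgHom.ext fun s => ?_)
  rw [evalPt_ptMap, AlgHom.comp_apply, evalPt_frobPt, evalPt_frobPt, map_pow, evalPt_ptMap]
  rfl

omit [GrpObj G] in
theorem comp_eq_frobPt (F : G ⟶ G) (hF : ∀ s : Γ(G.left, ⊤), F.left.appTop s = s ^ Nat.card k)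
    {B : Type u} [CommRing B] [Algebra k B] (g : VecGrp.pt k B ⟶ G) : g ≫ F = frobPt g := by
  refine pt_ext (AlgHom.ext fun s => ?_)
  rw [evalPt_comp_apply, evalPt_frobPt, pull_apply, hF, map_pow]

section

variable (K : Type u) [Field K] [Algebra k K]

/-- The universal point over `K ⊗ k[G]`. -/
def univK (G : Over (Spec (CommRingCat.of k))) [IsAffine G.left] : VecGrp.pt k (K ⊗[k] Fn G) ⟶ G :=
  ptOf G Algebra.TensorProduct.includeRight

variable {K}

/-- A `K`-point as a point over `K ⊗ k[G]`. -/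
def constK (a : VecGrp.pt k K ⟶ G) : VecGrp.pt k (K ⊗[k] Fn G) ⟶ G :=
  VecGrp.ptMap (Algebra.TensorProduct.includeLeft : K →ₐ[k] K ⊗[k] Fn G) ≫ a

/-- The twisted Lang map `g ↦ g · a · F(g)⁻¹`. -/
def langHom (a : VecGrp.pt k K ⟶ G) : K ⊗[k] Fn G →ₐ[K] K ⊗[k] Fn G :=
  Algebra.TensorProduct.lift (Algebra.ofId K _) (evalPt (univK K G * constK a * (frobPt (univK K G))⁻¹))
    fun _ _ => Commute.all _ _

theorem langHom_comp (a : VecGrp.pt k K ⟶ G) {C : Type u} [CommRing C] [Algebra k C]
    (ψ : K ⊗[k] Fn G →ₐ[k] C) :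
    evalPt ((VecGrp.ptMap ψ ≫ univK K G) * (VecGrp.ptMap ψ ≫ constK a) * (frobPt (VecGrp.ptMap ψ ≫ univK K G))⁻¹)
      = (ψ.comp ((langHom a).restrictScalars k)).comp Algebra.TensorProduct.includeRight := by
  rw [← ptMap_frobPt, ← GrpObj.comp_inv, ← MonObj.comp_mul, ← MonObj.comp_mul, evalPt_ptMap, AlgHom.comp_assoc]
  congr 1
  ext s
  simp [langHom]

theorem langHom_formallyUnramified (a : VecGrp.pt k K ⟶ G) :
    (langHom a).toRingHom.FormallyUnramified := by
  let φ := langHom a
  show @Algebra.FormallyUnramified _ _ _ _ φ.toRingHom.toAlgebra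
  let := φ.toRingHom.toAlgebra
  rw [Algebra.FormallyUnramified.iff_comp_injective]
  intro C _ _ I hI f₁ f₂ hf
  have hφ : ∀ x : K ⊗[k] Fn G, f₁.toRingHom (φ x) = f₂.toRingHom (φ x) := fun x =>
    (f₁.commutes x).trans (f₂.commutes x).symm
  have hK : ∀ c : K, f₁.toRingHom (algebraMap K (K ⊗[k] Fn G) c) = f₂.toRingHom (algebraMap K (K ⊗[k] Fn G) c) :=
    fun c => by
      have h := hφ (algebraMap K _ c)
      rwa [φ.commutes] at h
  have hmk : ∀ x : K ⊗[k] Fn G, f₁.toRingHom x - f₂.toRingHom x ∈ I := fun x =>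
    Ideal.Quotient.eq.1 (DFunLike.congr_fun hf x)
  have key : f₁.toRingHom = f₂.toRingHom := by
    generalize f₁.toRingHom = ψ₁, f₂.toRingHom = ψ₂ at hφ hK hmk ⊢
    let : Algebra k C := ((ψ₁.comp (algebraMap K (K ⊗[k] Fn G))).comp (algebraMap k K)).toAlgebra
    have hk₁ : ∀ c : k, ψ₁ (algebraMap k _ c) = ψ₁ (algebraMap K _ (algebraMap k K c)) := fun c => by
      rw [← IsScalarTower.algebraMap_apply]
    have hk₂ : ∀ c : k, ψ₂ (algebraMap k _ c) = ψ₁ (algebraMap K _ (algebraMap k K c)) := fun c => by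
      rw [hK, ← IsScalarTower.algebraMap_apply]
    let χ₁ : K ⊗[k] Fn G →ₐ[k] C := { ψ₁ with commutes' := hk₁ }
    let χ₂ : K ⊗[k] Fn G →ₐ[k] C := { ψ₂ with commutes' := hk₂ }
    have hc : VecGrp.ptMap χ₁ ≫ constK a = VecGrp.ptMap χ₂ ≫ constK a := by
      refine pt_ext (AlgHom.ext fun s => ?_)
      simp only [evalPt_ptMap, constK, AlgHom.comp_apply, Algebra.TensorProduct.includeLeft_apply]
      exact hK _
    have hfr : frobPt (VecGrp.ptMap χ₁ ≫ univK K G) = frobPt (VecGrp.ptMap χ₂ ≫ univK K G) := by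
      refine pt_ext (AlgHom.ext fun s => ?_)
      rw [evalPt_frobPt, evalPt_frobPt, evalPt_ptMap, evalPt_ptMap, univK, evalPt_ptOf, AlgHom.comp_apply,
        AlgHom.comp_apply, ← frob_apply, ← frob_apply, ← sub_eq_zero, ← map_sub, frob_apply]
      refine eq_bot_iff.1 hI ?_
      have h2 : 2 ≤ Nat.card k := Finite.one_lt_card
      exact Ideal.pow_le_pow_right h2 (Ideal.pow_mem_pow (hmk _) _)
    have h12 : (χ₁.comp ((langHom a).restrictScalars k)).comp Algebra.TensorProduct.includeRight =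
        (χ₂.comp ((langHom a).restrictScalars k)).comp Algebra.TensorProduct.includeRight :=
      AlgHom.ext fun s => hφ _
    rw [← langHom_comp, ← langHom_comp, hc, hfr] at h12
    have h3 := congrArg evalPt (mul_right_cancel (mul_right_cancel (pt_ext h12)))
    rw [evalPt_ptMap, evalPt_ptMap, univK, evalPt_ptOf] at h3
    have : χ₁ = χ₂ := Algebra.TensorProduct.ext (AlgHom.ext fun c => hK c) h3
    exact congrArg AlgHom.toRingHom this
  exact AlgHom.ext fun x => RingHom.congr_fun key x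

end

omit [Finite k] in
theorem isDomain_tensor_of_connected [Smooth G.hom] [ConnectedSpace G.left] (K : Type u) [Field K]
    [Algebra k K] : IsDomain (K ⊗[k] Fn G) := by
  have := Groth.AlgGrp1.geometricallyIntegral_of_smooth G
  have hw : G.left.isoSpec.inv ≫ G.hom = Spec.map (CommRingCat.ofHom (algebraMap k (Fn G))) := by
    have := Over.w (univ G)
    simpa [univ, ptOf, Category.assoc] using this
  have h := isPullback_SpecMap_of_isPushout _ _ _ _
    (CommRingCat.isPushout_tensorProduct k (Fn G) K)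
  have h' : IsPullback (Spec.map (CommRingCat.ofHom (Algebra.TensorProduct.includeLeftRingHom :
      Fn G →+* Fn G ⊗[k] K)) ≫ G.left.isoSpec.inv)
      (Spec.map (CommRingCat.ofHom (Algebra.TensorProduct.includeRight : K →ₐ[k] Fn G ⊗[k] K).toRingHom))
      G.hom (Spec.map (CommRingCat.ofHom (algebraMap k K))) :=
    h.of_iso (Iso.refl _) G.left.isoSpec.symm (Iso.refl _) (Iso.refl _) (by simp) (by simp) (by simp [hw]) (by simp)
  have hint := GeometricallyIntegral.geometrically_isIntegral (f := G.hom) _ _ _ h'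
  have : IsDomain (Fn G ⊗[k] K) := (affine_isIntegral_iff (CommRingCat.of (Fn G ⊗[k] K))).1 hint
  exact (Algebra.TensorProduct.comm k K (Fn G)).toMulEquiv.isDomain _

/-- **Lang's theorem** on geometric points. -/
theorem exists_lang [Smooth G.hom] [ConnectedSpace G.left] (K : Type u) [Field K] [IsAlgClosed K]
    [Algebra k K] (a : VecGrp.pt k K ⟶ G) : ∃ g : VecGrp.pt k K ⟶ G, g * (frobPt g)⁻¹ = a := by
  have := isDomain_tensor_of_connected (G := G) K
  have := fn_finiteType (k := k) G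
  have : Algebra.FiniteType K (K ⊗[k] Fn G) := inferInstance
  obtain ⟨χ₁, χ₂, h⟩ := exists_common_point (langHom (1 : VecGrp.pt k K ⟶ G)) (langHom a)
    (injective_of_formallyUnramified _ (langHom_formallyUnramified _))
    (injective_of_formallyUnramified _ (langHom_formallyUnramified _))
  have hc : ∀ (χ : K ⊗[k] Fn G →ₐ[K] K) (b : VecGrp.pt k K ⟶ G),
      VecGrp.ptMap (χ.restrictScalars k) ≫ constK b = b := by
    intro χ b
    refine pt_ext (AlgHom.ext fun s => ?_)
    simp only [evalPt_ptMap, constK, AlgHom.comp_apply, Algebra.TensorProduct.includeLeft_apply]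
    exact χ.commutes _
  have h1 := langHom_comp (1 : VecGrp.pt k K ⟶ G) (χ₁.restrictScalars k)
  have h2 := langHom_comp a (χ₂.restrictScalars k)
  rw [hc] at h1 h2
  rw [show (χ₁.restrictScalars k).comp ((langHom 1).restrictScalars k) =
      (χ₂.restrictScalars k).comp ((langHom a).restrictScalars k) from
    AlgHom.ext fun x => DFunLike.congr_fun h x, ← h2] at h1
  have h3 := pt_ext h1
  generalize VecGrp.ptMap (χ₁.restrictScalars k) ≫ univK K G = g₁,
    VecGrp.ptMap (χ₂.restrictScalars k) ≫ univK K G = g₂ at h3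
  refine ⟨g₂⁻¹ * g₁, ?_⟩
  rw [frobPt_mul, frobPt_inv, _root_.mul_inv_rev, _root_.inv_inv]
  rw [_root_.mul_one] at h3
  calc g₂⁻¹ * g₁ * ((frobPt g₁)⁻¹ * frobPt g₂) = g₂⁻¹ * (g₁ * (frobPt g₁)⁻¹) * frobPt g₂ := by group
    _ = g₂⁻¹ * (g₂ * a * (frobPt g₂)⁻¹) * frobPt g₂ := by rw [h3]
    _ = a := by group

end Groth.Agf
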