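import Groth.Agent.Calg8.IntegralDimEq
import Mathlib

/-!
# The nilpotent cone of `n × n` matrices

Irreducibility (parametrised by conjugates of strictly upper triangular matrices) and the dimension
(the coefficients of the characteristic polynomial together with the off diagonal entries form a
Noether normalisation).
-/

set_option autoImplicit false
universe u v

open Polynomial

noncomputable section

namespace Groth.Agf.NilpotentCone

variable {k : Type u} [Field k]

theorem exists_flag : ∀ (d : ℕ) (V : Type u) [AddCommGroup V] [Module k V] [FiniteDimensional k V]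
    (f : Module.End k V), Module.finrank k V = d → IsNilpotent f →
    ∃ b : Module.Basis (Fin d) k V, ∀ j, f (b j) ∈ Submodule.span k (b '' {i | i < j}) := by
  intro d
  induction d using Nat.strong_induction_on with
  | _ d ih =>
    intro V _ _ _ f hd hf
    rcases Nat.eq_zero_or_pos d with rfl | hpos
    · exact ⟨Module.finBasisOfFinrankEq k V hd, fun j => j.elim0⟩
    have hne : LinearMap.range f ≠ ⊤ := by
      intro htop
      obtain ⟨m, hm⟩ := hf
      have hsurj : Function.Surjective (⇑f)^[m] := (LinearMap.range_eq_top.1 htop).iterate m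
      rw [← Module.End.coe_pow, hm] at hsurj
      have : Subsingleton V := ⟨fun a b => by
        obtain ⟨x, rfl⟩ := hsurj a
        obtain ⟨y, rfl⟩ := hsurj b
        rfl⟩
      rw [Module.finrank_zero_of_subsingleton] at hd
      omega
    let W := LinearMap.range f
    have hlt : Module.finrank k W < d := hd ▸ Submodule.finrank_lt hne
    let g : Module.End k W := f.restrict fun x _ => LinearMap.mem_range_self f x
    have hg : IsNilpotent g := by
      obtain ⟨m, hm⟩ := hf
      refine ⟨m, LinearMap.ext fun x => Subtype.ext ?_⟩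
      rw [Module.End.pow_restrict]
      simp [hm]
    obtain ⟨b', hb'⟩ := ih _ hlt W g rfl hg
    obtain ⟨C, hC⟩ := W.exists_isCompl
    let c := Module.finBasis k C
    have hsum : Module.finrank k W + Module.finrank k C = d := by
      rw [Submodule.finrank_add_eq_of_isCompl hC, hd]
    let b : Module.Basis (Fin d) k V :=
      ((b'.prod c).map (Submodule.prodEquivOfIsCompl W C hC)).reindex (finSumFinEquiv.trans (finCongr hsum))
    have hbl : ∀ i, b (finCongr hsum (Fin.castAdd _ i)) = (b' i : V) := fun i => by
      simp [b, Module.Basis.prod_apply]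
    refine ⟨b, fun j => ?_⟩
    obtain ⟨j', rfl⟩ := (finCongr hsum).surjective j
    refine Fin.addCases (fun i => ?_) (fun i => ?_) j'
    · rw [hbl]
      have h1 : (g (b' i) : V) = f (b' i) := rfl
      rw [← h1]
      have h2 := Submodule.apply_mem_span_image_of_mem_span W.subtype (hb' i)
      refine Submodule.span_mono ?_ h2
      rintro _ ⟨_, ⟨l, hl, rfl⟩, rfl⟩
      exact ⟨finCongr hsum (Fin.castAdd _ l), Fin.lt_def.2 (show (l : ℕ) < (i : ℕ) from hl), hbl l⟩
    · have h1 : f (b (finCongr hsum (Fin.natAdd _ i))) ∈ W := LinearMap.mem_range_self f _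
      have h2 := Submodule.apply_mem_span_image_of_mem_span W.subtype (b'.mem_span ⟨_, h1⟩)
      refine Submodule.span_mono ?_ h2
      rintro _ ⟨_, ⟨l, rfl⟩, rfl⟩
      refine ⟨finCongr hsum (Fin.castAdd _ l), ?_, hbl l⟩
      show finCongr hsum (Fin.castAdd _ l) < finCongr hsum (Fin.natAdd _ i)
      simp [Fin.lt_def]
      omega

theorem exists_conj {n : ℕ} (M : Matrix (Fin n) (Fin n) k) (hM : IsNilpotent M) :
    ∃ g U : Matrix (Fin n) (Fin n) k, g.det ≠ 0 ∧ (∀ i j, ¬ i < j → U i j = 0) ∧ g * U * g.adjugate = g.det • M := by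
  let f : Module.End k (Fin n → k) := Matrix.toLin' M
  obtain ⟨b, hb⟩ := exists_flag n (Fin n → k) f (by simp) (hM.map (Matrix.toLinAlgEquiv' (R := k) (n := Fin n)))
  let e := Pi.basisFun k (Fin n)
  let g := e.toMatrix b
  let U := LinearMap.toMatrix b b f
  haveI := e.invertibleToMatrix b
  refine ⟨g, U, (Matrix.isUnit_det_of_invertible g).ne_zero, fun i j hij => ?_, ?_⟩
  · rw [show U i j = b.repr (f (b j)) i from LinearMap.toMatrix_apply _ _ _ _ _]
    have h := (Module.Basis.mem_span_image b).1 (hb j)
    by_contra hne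
    exact hij (h (Finsupp.mem_support_iff.2 hne))
  · have h1 : g * U = M * g := by
      rw [basis_toMatrix_mul_linearMap_toMatrix, ← linearMap_toMatrix_mul_basis_toMatrix b e e f]
      congr 1
      simp [e, f, LinearMap.toMatrix_eq_toMatrix']
    rw [h1, Matrix.mul_assoc, Matrix.mul_adjugate, Matrix.mul_smul, Matrix.mul_one]

variable (k) (n : ℕ)

local notation "σ" => (Fin n × Fin n)
local notation "gen" => Matrix.mvPolynomialX (Fin n) (Fin n) k

/-- The ideal of the cone. -/
def coneIdeal : Ideal (MvPolynomial σ k) :=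
  Ideal.span (Set.range fun i : Fin n => (Matrix.charpoly (Matrix.mvPolynomialX (Fin n) (Fin n) k)).coeff (i : ℕ))

theorem mem_zeroLocus_iff (x : σ → k) :
    x ∈ MvPolynomial.zeroLocus k (coneIdeal k n) ↔ IsNilpotent (Matrix.of fun i j => x (i, j)) := by
  have hmap : (gen).map (MvPolynomial.aeval x).toRingHom = Matrix.of fun i j => x (i, j) := by
    ext i j; simp
  let M : Matrix (Fin n) (Fin n) k := Matrix.of fun i j => x (i, j)
  have hcoeff : ∀ i : ℕ, MvPolynomial.aeval x ((gen).charpoly.coeff i) = M.charpoly.coeff i := fun i => by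
    show _ = (Matrix.of fun i j => x (i, j)).charpoly.coeff i
    rw [← hmap, Matrix.charpoly_map, Polynomial.coeff_map]
    rfl
  constructor
  · intro h
    refine ⟨n, ?_⟩
    have hX : M.charpoly = X ^ n := Polynomial.ext fun i => by
      rcases lt_trichotomy i n with hi | rfl | hi
      · rw [coeff_X_pow, if_neg hi.ne, ← hcoeff]
        exact h _ (Ideal.subset_span ⟨⟨i, hi⟩, rfl⟩)
      · rw [coeff_X_pow_self]
        simpa [Matrix.charpoly_natDegree_eq_dim] using (Matrix.charpoly_monic M).coeff_natDegree
      · rw [coeff_X_pow, if_neg hi.ne', Polynomial.coeff_eq_zero_of_natDegree_lt]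
        simpa [Matrix.charpoly_natDegree_eq_dim] using hi
    have := Matrix.aeval_self_charpoly M
    rwa [hX, map_pow, aeval_X] at this
  · intro h
    have hX : M.charpoly = X ^ n := by
      have := (Matrix.isNilpotent_charpoly_sub_pow_of_isNilpotent (M := M) h).eq_zero
      rwa [sub_eq_zero, Fintype.card_fin] at this
    intro p hp
    have : coneIdeal k n ≤ RingHom.ker (MvPolynomial.aeval x) := by
      rw [coneIdeal, Ideal.span_le]
      rintro _ ⟨i, rfl⟩
      show MvPolynomial.aeval x ((gen).charpoly.coeff i) = 0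
      rw [hcoeff, hX, coeff_X_pow, if_neg i.2.ne]
    exact this hp

theorem isPrime_radical [IsAlgClosed k] (hn : 1 ≤ n) : (coneIdeal k n).radical.IsPrime := by
  classical
  let P := MvPolynomial (σ ⊕ σ) k
  let G : Matrix (Fin n) (Fin n) P := Matrix.of fun i j => MvPolynomial.X (Sum.inl (i, j))
  let U : Matrix (Fin n) (Fin n) P := Matrix.of fun i j => if i < j then MvPolynomial.X (Sum.inr (i, j)) else 0
  let Φ : Matrix (Fin n) (Fin n) P := G * U * G.adjugate
  let φ : MvPolynomial σ k →ₐ[k] P := MvPolynomial.aeval fun p => Φ p.1 p.2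
  suffices h : (coneIdeal k n).radical = RingHom.ker φ by rw [h]; exact RingHom.ker_isPrime φ
  have hev : ∀ (z : σ ⊕ σ → k) (p : MvPolynomial σ k), MvPolynomial.eval z (φ p) =
      MvPolynomial.aeval (fun q : σ => MvPolynomial.eval z (Φ q.1 q.2)) p := fun z p => by
    rw [← MvPolynomial.aeval_eq_eval, ← MvPolynomial.comp_aeval_apply]
  have hΦ : ∀ z : σ ⊕ σ → k, Φ.map (MvPolynomial.eval z) =
      (Matrix.of fun i j => z (Sum.inl (i, j))) * (Matrix.of fun i j => if i < j then z (Sum.inr (i, j)) else 0) *
        (Matrix.of fun i j => z (Sum.inl (i, j))).adjugate := fun z => by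
    have hG : G.map (MvPolynomial.eval z) = Matrix.of fun i j => z (Sum.inl (i, j)) := by ext; simp [G]
    have hU : U.map (MvPolynomial.eval z) = Matrix.of fun i j => if i < j then z (Sum.inr (i, j)) else 0 := by
      ext i j; simp [U, apply_ite (MvPolynomial.eval z)]
    simp only [Φ, Matrix.map_mul, hU, ← hG]
    congr 1
    exact RingHom.map_adjugate (MvPolynomial.eval z) G
  have hnil : ∀ z : σ ⊕ σ → k, IsNilpotent (Φ.map (MvPolynomial.eval z)) := fun z => by
    rw [hΦ]
    set g : Matrix (Fin n) (Fin n) k := Matrix.of fun i j => z (Sum.inl (i, j))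
    set u : Matrix (Fin n) (Fin n) k := Matrix.of fun i j => if i < j then z (Sum.inr (i, j)) else 0
    have hu : u ^ n = 0 := by
      have htri : u.BlockTriangular id := fun i j hij => if_neg (not_lt.2 (le_of_lt hij))
      have hdiag : ∀ i, u i i = 0 := fun i => if_neg (lt_irrefl i)
      have hch : u.charpoly = X ^ n := by
        rw [Matrix.charpoly_of_upperTriangular u htri]
        simp [hdiag]
      have := Matrix.aeval_self_charpoly u
      rwa [hch, map_pow, aeval_X] at this
    have hpow : ∀ m, (g * u * g.adjugate) ^ (m + 1) = g.det ^ m • (g * u ^ (m + 1) * g.adjugate) := by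
      intro m
      induction m with
      | zero => simp
      | succ m ih =>
        rw [pow_succ, ih, Matrix.smul_mul, pow_succ g.det, mul_smul]
        congr 1
        rw [show g * u ^ (m + 1) * g.adjugate * (g * u * g.adjugate) =
          g * u ^ (m + 1) * (g.adjugate * g) * (u * g.adjugate) by simp only [Matrix.mul_assoc],
          Matrix.adjugate_mul, Matrix.mul_smul, Matrix.mul_one, Matrix.smul_mul, pow_succ u (m + 1)]
        simp only [Matrix.mul_assoc]
    obtain ⟨m, rfl⟩ : ∃ m, n = m + 1 := ⟨n - 1, by omega⟩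
    exact ⟨m + 1, by rw [hpow, hu]; simp⟩
  ext p
  rw [← MvPolynomial.vanishingIdeal_zeroLocus_eq_radical (K := k), MvPolynomial.mem_vanishingIdeal_iff, RingHom.mem_ker]
  constructor
  · intro h
    refine MvPolynomial.funext fun z => ?_
    rw [map_zero, hev]
    exact h _ ((mem_zeroLocus_iff k n _).2 (hnil z))
  · intro h x hx
    obtain ⟨g, V, hdet, hV, hgV⟩ := exists_conj _ ((mem_zeroLocus_iff k n x).1 hx)
    let z : σ ⊕ σ → k := Sum.elim (fun q => g q.1 q.2) (fun q => g.det⁻¹ * V q.1 q.2)
    have hz : Φ.map (MvPolynomial.eval z) = Matrix.of fun i j => x (i, j) := by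
      rw [hΦ]
      have e1 : (Matrix.of fun i j => z (Sum.inl (i, j))) = g := rfl
      have e2 : (Matrix.of fun i j => if i < j then z (Sum.inr (i, j)) else 0) = g.det⁻¹ • V := by
        ext i j
        by_cases hij : i < j
        · simp [z, hij]
        · simp [z, hij, hV i j hij]
      rw [e1, e2, Matrix.mul_smul, Matrix.smul_mul, hgV, smul_smul, inv_mul_cancel₀ hdet, one_smul]
    have := hev z p
    rw [h, map_zero] at this
    have hfun : (fun q : σ => MvPolynomial.eval z (Φ q.1 q.2)) = x := funext fun q => congrFun (congrFun hz q.1) q.2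
    rw [hfun] at this
    exact this.symm

/-- Off diagonal entries. -/
abbrev Off : Type := {p : Fin n × Fin n // p.1 ≠ p.2}

theorem card_off : Nat.card (Off n) = n ^ 2 - n := by
  rw [Nat.card_eq_fintype_card, Fintype.card_subtype_compl, Fintype.card_prod, Fintype.card_fin, pow_two,
    Fintype.card_congr (α := {x : Fin n × Fin n // x.1 = x.2}) (β := Fin n)
      { toFun := fun x => x.1.1, invFun := fun i => ⟨(i, i), rfl⟩,
        left_inv := fun ⟨⟨a, b⟩, h⟩ => by cases h; rfl, right_inv := fun _ => rfl }, Fintype.card_fin]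

theorem ringKrullDim_quotient :
    ringKrullDim (MvPolynomial σ k ⧸ coneIdeal k n) = ((n ^ 2 - n : ℕ) : WithBot ℕ∞) := by
  classical
  let R := MvPolynomial σ k
  let T := MvPolynomial (Fin n ⊕ Off n) k
  let ψ : T →ₐ[k] R := MvPolynomial.aeval (Sum.elim (fun i => (gen).charpoly.coeff (i : ℕ)) fun p => MvPolynomial.X p.1)
  letI algT : Algebra T R := ψ.toRingHom.toAlgebra
  have hψd : ∀ i : Fin n, ψ (MvPolynomial.X (Sum.inl i)) = (gen).charpoly.coeff i := fun i => MvPolynomial.aeval_X _ _
  have hψo : ∀ (p : σ) (hp : p.1 ≠ p.2), ψ (MvPolynomial.X (Sum.inr ⟨p, hp⟩)) = MvPolynomial.X p := fun p hp => MvPolynomial.aeval_X _ _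
  let K := FractionRing R
  haveI : IsScalarTower T R K := inferInstance
  have hint : ∀ p : σ, IsIntegral T (MvPolynomial.X p : R) := by
    intro p
    refine (isIntegral_algebraMap_iff (IsFractionRing.injective R K)).1 ?_
    let S := (integralClosure T K).toSubring
    haveI : IsIntegrallyClosedIn S K := inferInstanceAs (IsIntegrallyClosedIn (integralClosure T K) K)
    show algebraMap R K (MvPolynomial.X p) ∈ S
    rw [Subring.eq_iInf_of_isIntegrallyClosedIn (R := S), Subring.mem_iInf]
    rintro ⟨V, hV⟩
    show algebraMap R K (MvPolynomial.X p) ∈ V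
    have hT : ∀ t : T, algebraMap R K (ψ t) ∈ V := fun t =>
      hV ((integralClosure T K).algebraMap_mem t)
    by_cases hp : p.1 = p.2
    swap
    · rw [← hψo p hp]; exact hT _
    by_contra hout
    obtain ⟨i, j⟩ := p
    obtain rfl : i = j := hp
    let y : Fin n → K := fun i => algebraMap R K (MvPolynomial.X (i, i))
    obtain ⟨m, -, hm⟩ := Finset.exists_max_image Finset.univ (fun l => V.valuation (y l)) ⟨i, Finset.mem_univ i⟩
    have h1 : 1 < V.valuation (y m) := by
      refine lt_of_lt_of_le ?_ (hm i (Finset.mem_univ i))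
      rwa [lt_iff_not_ge, V.valuation_le_one_iff]
    have hy0 : y m ≠ 0 := fun h => by rw [h, map_zero] at h1; exact absurd h1 (not_lt.2 zero_le')
    have hinv : V.valuation (y m)⁻¹ < 1 := by rw [map_inv₀]; exact inv_lt_one_of_one_lt₀ h1
    let N : Matrix (Fin n) (Fin n) K := (y m)⁻¹ • (gen).map (algebraMap R K)
    have hN : ∀ a b, V.valuation (N a b) ≤ 1 ∧ (a ≠ b → V.valuation (N a b) < 1) := by
      intro a b
      have e : N a b = (y m)⁻¹ * algebraMap R K (MvPolynomial.X (a, b)) := by simp [N]
      by_cases hab : a = b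
      · subst hab
        refine ⟨?_, fun h => absurd rfl h⟩
        rw [e, map_mul, map_inv₀]
        calc (V.valuation (y m))⁻¹ * V.valuation (y a) ≤ (V.valuation (y m))⁻¹ * V.valuation (y m) := by
              gcongr; exact hm a (Finset.mem_univ a)
          _ = 1 := inv_mul_cancel₀ (lt_trans zero_lt_one h1).ne'
      · have hlt : V.valuation (N a b) < 1 := by
          rw [e, map_mul]
          refine mul_lt_one_of_lt_of_le hinv ((V.valuation_le_one_iff _).2 ?_)
          rw [← hψo (a, b) hab]
          exact hT _
        exact ⟨hlt.le, fun _ => hlt⟩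
    let N' : Matrix (Fin n) (Fin n) V := Matrix.of fun a b => ⟨N a b, (V.valuation_le_one_iff _).1 (hN a b).1⟩
    have hN' : N'.map V.subtype = N := rfl
    -- `det (1 - N)` has value `< 1`
    have hsmall : V.valuation (Matrix.det (1 - N)) < 1 := by
      have e : Matrix.det (1 - N) = ((Matrix.det (1 - N') : V) : K) := by
        rw [← hN']
        show _ = V.subtype _
        rw [RingHom.map_det, map_sub, map_one]
        rfl
      rw [e, ← ValuationSubring.valuation_lt_one_iff, ← IsLocalRing.residue_eq_zero_iff, RingHom.map_det]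
      have hres : (IsLocalRing.residue V).mapMatrix (1 - N') =
          Matrix.diagonal fun a => 1 - IsLocalRing.residue V (N' a a) := by
        ext a b
        by_cases hab : a = b
        · subst hab; simp
        · have : IsLocalRing.residue V (N' a b) = 0 := by
            rw [IsLocalRing.residue_eq_zero_iff, ValuationSubring.valuation_lt_one_iff]
            exact (hN a b).2 hab
          simp [Matrix.one_apply_ne hab, Matrix.diagonal_apply_ne _ hab, this]
      rw [hres, Matrix.det_diagonal]
      refine Finset.prod_eq_zero (Finset.mem_univ m) ?_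
      have : N' m m = 1 := Subtype.ext (by
        show N m m = 1
        simp only [N, Matrix.smul_apply, Matrix.map_apply, Matrix.mvPolynomialX_apply, smul_eq_mul]
        exact inv_mul_cancel₀ hy0)
      rw [this, map_one, sub_self]
    -- and value `1`
    have hdet : (y m) ^ n * Matrix.det (1 - N) = algebraMap R K ((gen).charpoly.eval (MvPolynomial.X (m, m))) := by
      rw [Matrix.eval_charpoly, RingHom.map_det]
      have e : (algebraMap R K).mapMatrix (Matrix.scalar (Fin n) (MvPolynomial.X (m, m) : R) - gen) =
          (y m) • (1 - N) := by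
        rw [smul_sub, show (y m) • N = (gen).map (algebraMap R K) by
          simp only [N, smul_smul, mul_inv_cancel₀ hy0, one_smul], map_sub]
        congr 1
        ext a b
        by_cases hab : a = b <;> simp [hab, y, Matrix.one_apply]
      rw [e, Matrix.det_smul, Fintype.card_fin]
    rw [Polynomial.eval_eq_sum_range, Matrix.charpoly_natDegree_eq_dim, Fintype.card_fin, Finset.sum_range_succ,
      show (gen).charpoly.coeff n = 1 by
        simpa [Matrix.charpoly_natDegree_eq_dim] using (Matrix.charpoly_monic gen).coeff_natDegree,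
      one_mul, map_add, map_sum, map_pow] at hdet
    have hrest : V.valuation (∑ l ∈ Finset.range n, algebraMap R K ((gen).charpoly.coeff l * MvPolynomial.X (m, m) ^ l)) <
        V.valuation (y m) ^ n := by
      refine Valuation.map_sum_lt _ (pow_ne_zero _ (lt_trans zero_lt_one h1).ne') fun l hl => ?_
      rw [Finset.mem_range] at hl
      rw [map_mul, map_pow, map_mul, map_pow]
      refine lt_of_le_of_lt (mul_le_of_le_one_left' ((V.valuation_le_one_iff _).2 ?_)) (pow_lt_pow_right₀ h1 hl)
      have := hT (MvPolynomial.X (Sum.inl ⟨l, hl⟩))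
      rwa [hψd] at this
    have h2 := congrArg V.valuation hdet
    rw [map_mul, map_pow, Valuation.map_add_eq_of_lt_right _ (by rwa [map_pow]), map_pow] at h2
    have hpos : 0 < V.valuation (y m) ^ n := pow_pos (lt_trans zero_lt_one h1) n
    have : V.valuation (Matrix.det (1 - N)) = 1 := mul_left_cancel₀ hpos.ne' (h2.trans (mul_one _).symm)
    exact absurd this hsmall.ne
  haveI hTint : Algebra.IsIntegral T R := ⟨fun f => by
    induction f using MvPolynomial.induction_on with
    | C c =>
      have : (MvPolynomial.C c : R) = algebraMap T R (MvPolynomial.C c) := (ψ.commutes c).symm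
      rw [this]; exact isIntegral_algebraMap
    | add a b ha hb => exact ha.add hb
    | mul_X a p ha => exact ha.mul (hint p)⟩
  have hdimR : ringKrullDim R = ((n * n : ℕ) : WithBot ℕ∞) := by
    rw [MvPolynomial.ringKrullDim_of_isNoetherianRing, ringKrullDim_eq_zero_of_field, zero_add,
      Nat.card_prod, Nat.card_fin]
  have hdimT : ringKrullDim T = ((n * n : ℕ) : WithBot ℕ∞) := by
    rw [MvPolynomial.ringKrullDim_of_isNoetherianRing, ringKrullDim_eq_zero_of_field, zero_add,
      Nat.card_sum, Nat.card_fin, card_off, ← pow_two]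
    have := Nat.le_self_pow two_ne_zero n
    congr 2
    omega
  have hψinj : Function.Injective (algebraMap T R) := by
    by_contra hni
    rw [injective_iff_map_eq_zero] at hni
    push Not at hni
    obtain ⟨f, hf, hf0⟩ := hni
    let J := RingHom.ker (algebraMap T R)
    letI : Algebra (T ⧸ J) R := (Ideal.Quotient.lift J (algebraMap T R) fun _ h => h).toAlgebra
    haveI : Algebra.IsIntegral (T ⧸ J) R := ⟨fun x => by
      obtain ⟨P, hP, hPx⟩ := Algebra.IsIntegral.isIntegral (R := T) x
      refine ⟨P.map (Ideal.Quotient.mk J), hP.map _, ?_⟩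
      rw [Polynomial.eval₂_map]
      exact hPx⟩
    have h1 := Groth.Calg8.ringKrullDim_eq_of_integral (T ⧸ J) R
      (RingHom.lift_injective_of_ker_le_ideal J (fun _ h => h) le_rfl)
    have h2 : ringKrullDim (T ⧸ J) ≤ ringKrullDim (T ⧸ Ideal.span {f}) :=
      ringKrullDim_le_of_surjective (Ideal.Quotient.factor ((Ideal.span_singleton_le_iff_mem J).2 hf))
        (Ideal.Quotient.factor_surjective _)
    have h3 := ringKrullDim_quotient_succ_le_of_nonZeroDivisor (mem_nonZeroDivisors_of_ne_zero hf0)
    rw [← h1] at h2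
    have h4 : ringKrullDim R + 1 ≤ ringKrullDim T := le_trans (add_le_add h2 le_rfl) h3
    rw [hdimR, hdimT] at h4
    have : n * n + 1 ≤ n * n := by exact_mod_cast h4
    omega
  let B := MvPolynomial (Off n) k
  let A := R ⧸ coneIdeal k n
  let π : T →ₐ[k] B := MvPolynomial.aeval (Sum.elim (fun _ => 0) MvPolynomial.X)
  let β : B →ₐ[k] A := MvPolynomial.aeval fun p => Ideal.Quotient.mk _ (MvPolynomial.X p.1)
  have hdiag : ∀ i : Fin n, Ideal.Quotient.mk (coneIdeal k n) ((gen).charpoly.coeff i) = 0 := fun i =>
    Ideal.Quotient.eq_zero_iff_mem.2 (Ideal.subset_span ⟨i, rfl⟩)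
  have hcomm : β.comp π = (Ideal.Quotient.mkₐ k _).comp ψ := by
    refine MvPolynomial.algHom_ext fun p => ?_
    rw [AlgHom.comp_apply, AlgHom.comp_apply, MvPolynomial.aeval_X]
    rcases p with i | ⟨p, hp⟩
    · rw [Sum.elim_inl, map_zero, hψd]
      exact (hdiag i).symm
    · rw [Sum.elim_inr, MvPolynomial.aeval_X, hψo p hp]
      rfl
  letI : Algebra B A := β.toRingHom.toAlgebra
  haveI : Algebra.IsIntegral B A := ⟨fun x => by
    obtain ⟨r, rfl⟩ := Ideal.Quotient.mk_surjective x
    obtain ⟨P, hP, hPr⟩ := Algebra.IsIntegral.isIntegral (R := T) r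
    refine ⟨P.map π.toRingHom, hP.map _, ?_⟩
    have e : (algebraMap B A).comp π.toRingHom = (Ideal.Quotient.mk (coneIdeal k n)).comp (algebraMap T R) :=
      RingHom.ext fun t => DFunLike.congr_fun hcomm t
    rw [Polynomial.eval₂_map, e, ← Polynomial.hom_eval₂, hPr, map_zero]⟩
  have hβinj : Function.Injective (algebraMap B A) := by
    rw [injective_iff_map_eq_zero]
    intro b hb
    let t : T := MvPolynomial.rename Sum.inr b
    have hπt : π t = b := by
      show π (MvPolynomial.rename _ b) = b
      rw [MvPolynomial.aeval_rename]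
      refine DFunLike.congr_fun (MvPolynomial.algHom_ext (f := MvPolynomial.aeval _) (g := AlgHom.id k B) fun p => ?_) b
      rw [MvPolynomial.aeval_X]
      rfl
    let J := RingHom.ker π
    haveI : J.IsPrime := RingHom.ker_isPrime π
    obtain ⟨Q, -, hQ, hQJ⟩ := Ideal.exists_ideal_over_prime_of_isIntegral J (⊥ : Ideal R) (by
      rw [Ideal.comap_bot_of_injective _ hψinj]; exact bot_le)
    have hIQ : coneIdeal k n ≤ Q := by
      rw [coneIdeal, Ideal.span_le]
      rintro _ ⟨i, rfl⟩
      have : (MvPolynomial.X (Sum.inl i) : T) ∈ J := by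
        show π _ = 0
        rw [MvPolynomial.aeval_X, Sum.elim_inl]
      rw [← hQJ, Ideal.mem_comap] at this
      show (gen).charpoly.coeff (i : ℕ) ∈ Q
      rw [← hψd]
      exact this
    have : ψ t ∈ coneIdeal k n := by
      rw [← Ideal.Quotient.eq_zero_iff_mem]
      refine (DFunLike.congr_fun hcomm t).symm.trans ?_
      rw [AlgHom.comp_apply, hπt]
      exact hb
    have : t ∈ J := hQJ ▸ hIQ this
    rw [← hπt]
    exact this
  show ringKrullDim A = _
  rw [Groth.Calg8.ringKrullDim_eq_of_integral B A hβinj, MvPolynomial.ringKrullDim_of_isNoetherianRing,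
    ringKrullDim_eq_zero_of_field, zero_add, card_off]

end Groth.Agf.NilpotentCone
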