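import Groth.Agent.Agf.Observable
import Mathlib.GroupTheory.CosetCover
import Mathlib.RingTheory.Spectrum.Prime.Topology
import Mathlib.AlgebraicGeometry.Morphisms.ClosedImmersion
import Mathlib.AlgebraicGeometry.AlgClosed.Basic

/-! Observability and the identity component. -/

set_option autoImplicit false
universe u

open CategoryTheory MonoidalCategory CartesianMonoidalCategory MonObj GrpObj AlgebraicGeometry
open scoped TensorProduct

noncomputable section

namespace Groth.Agf

variable {k : Type u} [Field k] {G G₀ H L : Over (Spec (CommRingCat.of k))} [GrpObj G] [GrpObj G₀] [GrpObj H] [GrpObj L]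

/-- A homomorphism on rational points. -/
def ratHom (c : L ⟶ G) [IsMonHom c] : (VecGrp.pt k k ⟶ L) →* (VecGrp.pt k k ⟶ G) where
  toFun x := x ≫ c
  map_one' := MonObj.one_comp c
  map_mul' x y := MonObj.mul_comp x y c

@[simp] theorem ratHom_apply (c : L ⟶ G) [IsMonHom c] (x : VecGrp.pt k k ⟶ L) : ratHom c x = x ≫ c := rfl

omit [GrpObj L] in
theorem cst_comp (x : VecGrp.pt k k ⟶ L) (T : Over (Spec (CommRingCat.of k))) (y : VecGrp.pt k k ⟶ T) :
    y ≫ toUnit T ≫ lTrans.toUnit' ≫ x = x := by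
  rw [← Category.assoc, ← Category.assoc, constPt_unique ((y ≫ toUnit T) ≫ lTrans.toUnit'),
    show (Algebra.ofId k k : k →ₐ[k] k) = AlgHom.id k k from Subsingleton.elim _ _]
  conv_rhs => rw [← Category.id_comp x]
  congr 1
  exact (constPt_unique _).trans (congrArg _ (Subsingleton.elim _ _)) |>.symm

/-- The point underlying a rational point. -/
def pp (x : VecGrp.pt k k ⟶ G) : G.left :=
  x.left.base (IsLocalRing.closedPoint (CommRingCat.of k))

omit [GrpObj G] in
theorem exists_pp_eq [IsAlgClosed k] [LocallyOfFiniteType G.hom] {z : G.left} (hz : IsClosed {z}) :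
    ∃ x : VecGrp.pt k k ⟶ G, pp x = z :=
  ⟨Over.homMk (pointOfClosedPoint G.hom z hz) (by
      show _ = Spec.map (CommRingCat.ofHom (algebraMap k k))
      rw [pointOfClosedPoint_comp, Algebra.algebraMap_self]
      simp), pointOfClosedPoint_apply G.hom z hz _⟩

omit [GrpObj G] [GrpObj G₀] in
theorem exists_lift_of_mem (j : G₀ ⟶ G) [IsOpenImmersion j.left] (x : VecGrp.pt k k ⟶ G)
    (h : pp x ∈ Set.range j.left.base) : ∃ y : VecGrp.pt k k ⟶ G₀, y ≫ j = x := by
  have hr : Set.range x.left.base ⊆ Set.range j.left.base := by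
    rintro _ ⟨t, rfl⟩
    rw [show t = IsLocalRing.closedPoint (CommRingCat.of k) from
      Subsingleton.elim (α := ↥(Spec (CommRingCat.of k))) _ _]
    exact h
  refine ⟨Over.homMk (IsOpenImmersion.lift j.left x.left hr) ?_, Over.OverMorphism.ext
    (IsOpenImmersion.lift_fac _ _ _)⟩
  show _ ≫ G₀.hom = _
  rw [← Over.w j, ← Category.assoc, IsOpenImmersion.lift_fac, Over.w]

section

variable [IsAlgClosed k] [IsAffine G.left] [Smooth G.hom] (j : G₀ ⟶ G) [IsMonHom j] [IsOpenImmersion j.left]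

omit [IsAffine G.left] [IsAlgClosed k] [Smooth G.hom] in
theorem mem_range_ratHom_iff (x : VecGrp.pt k k ⟶ G) :
    x ∈ (ratHom j).range ↔ pp x ∈ Set.range j.left.base :=
  ⟨fun ⟨y, hy⟩ => hy ▸ ⟨pp y, rfl⟩, fun h => exists_lift_of_mem j x h⟩

omit [IsAffine G.left] [IsAlgClosed k] [Smooth G.hom] [IsMonHom j] [IsOpenImmersion j.left] in
/-- Right translation by the inverse of a rational point, on underlying points. -/
theorem pp_translate (x y : VecGrp.pt k k ⟶ G) :
    (𝟙 G * (toUnit G ≫ lTrans.toUnit' ≫ x⁻¹)).left.base (pp y) = pp (y * x⁻¹) := by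
  show pp (y ≫ (𝟙 G * (toUnit G ≫ lTrans.toUnit' ≫ x⁻¹))) = _
  rw [MonObj.comp_mul, Category.comp_id, cst_comp]

omit [IsAffine G.left] in
/-- An open subgroup is closed. -/
theorem isClosed_range_openSubgroup : IsClosed (Set.range j.left.base) := by
  have := LocallyOfFiniteType.jacobsonSpace G.hom
  set U := Set.range j.left.base
  have hU : IsOpen U := j.left.isOpenEmbedding.isOpen_range
  rw [← closure_subset_iff_isClosed]
  by_contra hne
  obtain ⟨z, hz, hzc⟩ := nonempty_inter_closedPoints (Set.sdiff_nonempty.2 hne)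
    (show IsLocallyClosed (closure U \ U) from
      (isClosed_closure.inter hU.isClosed_compl).isLocallyClosed)
  obtain ⟨x, rfl⟩ := exists_pp_eq hzc
  let τ := (𝟙 G * (toUnit G ≫ lTrans.toUnit' ≫ x⁻¹)).left.base
  have hxmem : pp x ∈ τ ⁻¹' U := by
    rw [Set.mem_preimage, pp_translate, mul_inv_cancel, ← mem_range_ratHom_iff]
    exact one_mem _
  obtain ⟨w, hw, hwc⟩ := nonempty_inter_closedPoints
    (mem_closure_iff.1 hz.1 _ (hU.preimage τ.hom.continuous) hxmem)
    ((hU.preimage τ.hom.continuous).inter hU).isLocallyClosed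
  obtain ⟨y, rfl⟩ := exists_pp_eq hwc
  have h1 : y * x⁻¹ ∈ (ratHom j).range := (mem_range_ratHom_iff j _).2 (pp_translate x y ▸ hw.1)
  have h2 : y ∈ (ratHom j).range := (mem_range_ratHom_iff j _).2 hw.2
  have h3 := mul_mem (inv_mem h1) h2
  rw [_root_.mul_inv_rev, _root_.inv_inv, inv_mul_cancel_right] at h3
  exact hz.2 ((mem_range_ratHom_iff j _).1 h3)

/-- An open subgroup of a group of finite type has finite index on rational points. -/
theorem finite_quotient_range : Finite ((VecGrp.pt k k ⟶ G) ⧸ (ratHom j).range) := by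
  classical
  have := LocallyOfFiniteType.jacobsonSpace G.hom
  have : CompactSpace G.left := inferInstance
  have hU : IsOpen (Set.range j.left.base) := j.left.isOpenEmbedding.isOpen_range
  let V : (VecGrp.pt k k ⟶ G) → Set G.left := fun x =>
    (𝟙 G * (toUnit G ≫ lTrans.toUnit' ≫ x⁻¹)).left.base ⁻¹' Set.range j.left.base
  have hVo : ∀ x, IsOpen (V x) := fun x =>
    hU.preimage (𝟙 G * (toUnit G ≫ lTrans.toUnit' ≫ x⁻¹)).left.continuous
  have hmem : ∀ x, pp x ∈ V x := fun x => by
    rw [Set.mem_preimage, pp_translate, mul_inv_cancel, ← mem_range_ratHom_iff]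
    exact one_mem _
  have hcov : Set.univ ⊆ ⋃ x, V x := by
    by_contra h
    obtain ⟨z, hz, hzc⟩ := nonempty_inter_closedPoints
      (Set.sdiff_nonempty.2 h) ((isClosed_univ.inter (isOpen_iUnion hVo).isClosed_compl).isLocallyClosed)
    obtain ⟨x, rfl⟩ := exists_pp_eq hzc
    exact hz.2 (Set.mem_iUnion.2 ⟨x, hmem x⟩)
  obtain ⟨t, ht⟩ := isCompact_univ.elim_finite_subcover V hVo hcov
  refine Finite.of_surjective (fun x : t => QuotientGroup.mk (x.1⁻¹)) fun q => ?_
  obtain ⟨y, rfl⟩ := QuotientGroup.mk_surjective q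
  obtain ⟨x, hx, hy⟩ := Set.mem_iUnion₂.1 (ht (Set.mem_univ (pp y⁻¹)))
  refine ⟨⟨x, hx⟩, QuotientGroup.eq.2 ?_⟩
  rw [Set.mem_preimage, pp_translate, ← mem_range_ratHom_iff] at hy
  simpa using inv_mem hy

omit [GrpObj G] [IsAffine G.left] [IsMonHom j] [IsAlgClosed k] [Smooth G.hom] [IsOpenImmersion j.left] in
theorem evalPt_ne_zero_iff (x : VecGrp.pt k k ⟶ G) (f : Fn G) :
    evalPt x f ≠ 0 ↔ pp x ∈ G.left.basicOpen f := by
  show ptFn k (x.left.appTop f) ≠ 0 ↔ _
  rw [show (pp x ∈ G.left.basicOpen f) ↔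
      IsLocalRing.closedPoint (CommRingCat.of k) ∈ x.left ⁻¹ᵁ G.left.basicOpen f from Iff.rfl,
    Scheme.preimage_basicOpen_top]
  constructor
  · intro h
    have hu : IsUnit (x.left.appTop f) :=
      (isUnit_map_iff (RingEquiv.ofBijective (ptFn (k := k) k).toRingHom ptFn_bijective) _).1
        (isUnit_iff_ne_zero.2 h)
    rw [Scheme.basicOpen_of_isUnit _ hu]
    trivial
  · intro h h0
    have h1 : x.left.appTop f = 0 := ptFn_bijective.1 (h0.trans (map_zero _).symm)
    rw [h1, Scheme.basicOpen_zero] at h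
    exact h

/-- Extension of functions from an open subgroup by zero. -/
theorem exists_extension [IsAffine G₀.left] (f₀ : Fn G₀) : ∃ F : Fn G,
    (∀ y : VecGrp.pt k k ⟶ G₀, evalPt (y ≫ j) F = evalPt y f₀) ∧
      ∀ x, x ∉ (ratHom j).range → evalPt x F = 0 := by
  have hcl := isClosed_range_openSubgroup j
  have : IsClosedImmersion j.left := IsClosedImmersion.of_isPreimmersion j.left hcl
  obtain ⟨f, hf⟩ := (IsClosedImmersion.isAffine_surjective_of_isAffine (f := j.left)).2 f₀
  have hclopen : IsClopen (G.left.isoSpec.inv.base ⁻¹' Set.range j.left.base) :=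
    IsClopen.preimage ⟨hcl, j.left.isOpenEmbedding.isOpen_range⟩ G.left.isoSpec.inv.continuous
  obtain ⟨e, he, hse⟩ := PrimeSpectrum.exists_idempotent_basicOpen_eq_of_isClopen hclopen
  have hmem : ∀ x : G.left, x ∈ G.left.basicOpen e ↔ x ∈ Set.range j.left.base := by
    intro x
    rw [← Scheme.toSpecΓ_preimage_basicOpen]
    show G.left.toSpecΓ.base x ∈ PrimeSpectrum.basicOpen e ↔ _
    refine (Set.ext_iff.1 hse (G.left.toSpecΓ.base x)).symm.trans ?_
    show G.left.isoSpec.inv.base (G.left.toSpecΓ.base x) ∈ Set.range j.left.base ↔ _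
    have := congr(($(G.left.isoSpec.hom_inv_id)).base x)
    exact (iff_of_eq (congrArg (· ∈ Set.range j.left.base) this))
  have hval : ∀ x : VecGrp.pt k k ⟶ G, evalPt x e = 0 ∨ evalPt x e = 1 := fun x =>
    IsIdempotentElem.iff_eq_zero_or_one.1 (he.map (evalPt x))
  refine ⟨e * f, fun y => ?_, fun x hx => ?_⟩
  · have h1 : evalPt (y ≫ j) e = 1 := (hval _).resolve_left
      ((evalPt_ne_zero_iff _ _).2 ((hmem _).2 ⟨pp y, rfl⟩))
    rw [map_mul, h1, _root_.one_mul, evalPt_comp_apply]
    exact congrArg _ hf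
  · have h1 : evalPt x e = 0 := by
      by_contra h
      exact hx ((mem_range_ratHom_iff j x).2 ((hmem _).1 ((evalPt_ne_zero_iff _ _).1 h)))
    rw [map_mul, h1, zero_mul]

end

omit [GrpObj L] in
/-- Invariance tested on rational points. -/
theorem isRTransInv_iff_rat [IsAlgClosed k] [IsAffine G.left] [Smooth G.hom] [IsAffine L.left] [Smooth L.hom]
    (c : L ⟶ G) (f : Fn G) :
    AGF.IsRTransInv c f ↔ ∀ (x : VecGrp.pt k k ⟶ G) (t : VecGrp.pt k k ⟶ L),
      evalPt (x * (t ≫ c)) f = evalPt x f := by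
  constructor
  · intro h x t
    exact (isRTransInv_iff c f).1 h k x t
  · intro h
    have := tensor_isAffine G L
    have := tensor_lft G L
    have : Smooth (G ⊗ L).hom := inferInstanceAs (Smooth (Limits.pullback.fst G.hom L.hom ≫ G.hom))
    have := fn_isReduced_of_smooth (G ⊗ L)
    refine fn_ext_ratPts (G ⊗ L) fun z => ?_
    show evalPt z (pull ((G ◁ c) ≫ μ[G]) f) = evalPt z (pull (fst G L) f)
    rw [← evalPt_comp_apply, evalPt_mulWhisker, h, ← evalPt_comp_apply]

variable [IsAlgClosed k] [IsAffine G.left] [Smooth G.hom]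
  (i : H ⟶ G) [IsMonHom i] (j : G₀ ⟶ G) [IsMonHom j] [IsOpenImmersion j.left]
  (c : L ⟶ H) [IsMonHom c] (i₀ : L ⟶ G₀) [IsMonHom i₀]
  [IsAffine G₀.left] [Smooth G₀.hom] [IsAffine H.left] [Smooth H.hom] [IsAffine L.left] [Smooth L.hom]

omit [GrpObj H] [GrpObj L] [IsMonHom i] [IsMonHom c] [IsOpenImmersion j.left] [IsMonHom i₀] [Smooth H.hom] in
/-- Observability passes down to the intersection with an open subgroup, on rational points. -/
theorem exists_of_obs (hc : c ≫ i = i₀ ≫ j) (hobs : AGF.IsObservableIn k i) (g : VecGrp.pt k k ⟶ G₀)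
    (hg : ∀ f : Fn G₀, AGF.IsRTransInv i₀ f → AGF.IsRTransInv g f) : ∃ h, h ≫ i = g ≫ j := by
  refine hobs _ fun F hF => (isRTransInv_ratPt_iff _ _).2 ?_
  have key : ∀ x : VecGrp.pt k k ⟶ G, evalPt (x * (g ≫ j)) F = evalPt x F := by
    intro x
    have hr : AGF.IsRTransInv i₀ (pull j (lTrans x F)) := (isRTransInv_iff_rat i₀ _).2 fun y t => by
      rw [← evalPt_comp_apply, ← evalPt_comp_apply, MonObj.mul_comp, Category.assoc, ← hc, ← Category.assoc,
        evalPt_lTrans, evalPt_lTrans, cst_self, ← _root_.mul_assoc, (isRTransInv_iff i F).1 hF k]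
    have h1 := evalPt_one_of_isRTransInv (hg _ hr)
    rwa [← evalPt_comp_apply, ← evalPt_comp_apply, MonObj.one_comp, evalPt_lTrans, evalPt_lTrans, cst_self,
      _root_.mul_one] at h1
  intro B _ _ z
  have := fn_isReduced_of_smooth G
  have e : pull (𝟙 G * (toUnit G ≫ lTrans.toUnit' ≫ (g ≫ j))) F = F := by
    refine fn_ext_ratPts G fun x => ?_
    rw [← evalPt_comp_apply, MonObj.comp_mul, Category.comp_id, cst_comp, key]
  conv_rhs => rw [← e]
  rw [← evalPt_comp_apply, MonObj.comp_mul, Category.comp_id]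
  congr 3
  rw [← Category.assoc, ← Category.assoc, constPt_unique ((z ≫ toUnit G) ≫ lTrans.toUnit')]
  rfl

omit [IsMonHom i₀] in
/-- Observability is inherited from a subgroup of finite index of the intersection with an open subgroup. -/
theorem obs_of_finite (hc : c ≫ i = i₀ ≫ j) [Finite ((VecGrp.pt k k ⟶ H) ⧸ (ratHom c).range)]
    (hobs : AGF.IsObservableIn k i₀) : AGF.IsObservableIn k i := by
  classical
  intro g hg
  have := fn_isReduced_of_smooth G
  let Q := (VecGrp.pt k k ⟶ H) ⧸ (ratHom c).range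
  let : Fintype Q := Fintype.ofFinite Q
  let L' : Submodule k (Fn G) :=
    { carrier := {f | AGF.IsRTransInv (c ≫ i) f}
      add_mem' := fun {a b} ha hb => by
        show _ = _
        rw [map_add, map_add, show _ = _ from ha, show _ = _ from hb]
      zero_mem' := by show _ = _; rw [map_zero, map_zero]
      smul_mem' := fun r a ha => by
        show pull _ (r • a) = pull _ (r • a)
        rw [map_smul, map_smul]
        exact congrArg (r • ·) ha }
  have hroot : ∀ f ∈ L', ∃ q : Q, evalPt g f = evalPt (q.out ≫ i) f := by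
    intro f hf
    let F : Q → Fn G := fun q => pull (𝟙 G * (toUnit G ≫ lTrans.toUnit' ≫ (q.out ≫ i))) f
    have hF : ∀ (x : VecGrp.pt k k ⟶ G) (h : VecGrp.pt k k ⟶ H),
        evalPt x (F (QuotientGroup.mk h)) = evalPt (x * (h ≫ i)) f := by
      intro x h
      rw [← evalPt_comp_apply, MonObj.comp_mul, Category.comp_id, cst_comp]
      obtain ⟨⟨_, l, rfl⟩, hl⟩ := QuotientGroup.mk_out_eq_mul (ratHom c).range h
      show evalPt (x * ((Quotient.out (QuotientGroup.mk h : Q)) ≫ i)) f = _
      rw [hl, MonObj.mul_comp, ← _root_.mul_assoc]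
      show evalPt (x * (h ≫ i) * ((l ≫ c) ≫ i)) f = _
      rw [Category.assoc, (isRTransInv_iff_rat (c ≫ i) f).1 hf]
    let P : Polynomial (Fn G) := ∏ q : Q, (Polynomial.X - Polynomial.C (F q))
    have hP : ∀ x : VecGrp.pt k k ⟶ G, P.map (evalPt x).toRingHom =
        ∏ q : Q, (Polynomial.X - Polynomial.C (evalPt (x * (q.out ≫ i)) f)) := fun x => by
      rw [Polynomial.map_prod]
      refine Finset.prod_congr rfl fun q _ => ?_
      rw [Polynomial.map_sub, Polynomial.map_X, Polynomial.map_C]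
      congr 2
      show evalPt x (F q) = _
      rw [← hF x q.out, QuotientGroup.out_eq']
    have hinv : ∀ n, AGF.IsRTransInv i (P.coeff n) := fun n => (isRTransInv_iff_rat i _).2 fun x t => by
      have e : P.map (evalPt (x * (t ≫ i))).toRingHom = P.map (evalPt x).toRingHom := by
        rw [hP, hP]
        refine Fintype.prod_equiv (MulAction.toPerm t) _ _ fun q => ?_
        congr 2
        rw [← hF x _, QuotientGroup.out_eq']
        show _ = evalPt x (F (t • q))
        conv_rhs => rw [← QuotientGroup.out_eq' q, MulAction.Quotient.smul_mk, smul_eq_mul, hF]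
        rw [MonObj.mul_comp, _root_.mul_assoc]
      simpa [Polynomial.coeff_map] using congrArg (Polynomial.coeff · n) e
    have e : P.map (evalPt g).toRingHom = P.map (evalPt (1 : VecGrp.pt k k ⟶ G)).toRingHom :=
      Polynomial.ext fun n => by
        simp only [Polynomial.coeff_map]
        exact evalPt_one_of_isRTransInv (hg _ (hinv n))
    have h0 := congrArg (Polynomial.eval (evalPt g f)) e
    rw [hP, hP, Polynomial.eval_prod, Polynomial.eval_prod, Finset.prod_eq_zero
      (i := (QuotientGroup.mk 1 : Q)) (Finset.mem_univ _) (by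
        rw [Polynomial.eval_sub, Polynomial.eval_X, Polynomial.eval_C, ← hF g, QuotientGroup.out_eq', hF,
          MonObj.one_comp, _root_.mul_one, sub_self]), eq_comm, Finset.prod_eq_zero_iff] at h0
    obtain ⟨q, -, hq⟩ := h0
    rw [Polynomial.eval_sub, Polynomial.eval_X, Polynomial.eval_C, _root_.one_mul, sub_eq_zero] at hq
    exact ⟨q, hq⟩
  let W : Q → Subspace k L' := fun q =>
    LinearMap.ker (((evalPt g).toLinearMap - (evalPt (q.out ≫ i)).toLinearMap).comp L'.subtype)
  obtain ⟨q, hq⟩ := Subspace.exists_eq_top_of_iUnion_eq_univ (p := W) (Set.eq_univ_of_forall fun f => by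
    obtain ⟨q, hq⟩ := hroot f.1 f.2
    refine Set.mem_iUnion.2 ⟨q, ?_⟩
    show evalPt g f.1 - evalPt (q.out ≫ i) f.1 = 0
    rw [hq, sub_self])
  have hfix := fixes_of_agree (c ≫ i) (q.out ≫ i) g fun f hf => by
    have := (hq.ge (Submodule.mem_top (x := (⟨f, hf⟩ : L'))) : evalPt g f - evalPt (q.out ≫ i) f = 0)
    exact (sub_eq_zero.1 this).symm
  set g' := (q.out ≫ i)⁻¹ * g with hg'
  have hA : ∀ (x : VecGrp.pt k k ⟶ G) (t : VecGrp.pt k k ⟶ L),
      x * (t ≫ c ≫ i) ∈ (ratHom j).range ↔ x ∈ (ratHom j).range := by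
    intro x t
    rw [hc, ← Category.assoc]
    exact Subgroup.mul_mem_cancel_right _ ⟨t ≫ i₀, rfl⟩
  have hextInv : ∀ (f₀ : Fn G₀) (F : Fn G), AGF.IsRTransInv i₀ f₀ →
      (∀ y : VecGrp.pt k k ⟶ G₀, evalPt (y ≫ j) F = evalPt y f₀) →
      (∀ x, x ∉ (ratHom j).range → evalPt x F = 0) → AGF.IsRTransInv (c ≫ i) F := by
    intro f₀ F hf₀ hy hx
    refine (isRTransInv_iff_rat _ F).2 fun x t => ?_
    by_cases hxA : x ∈ (ratHom j).range
    · obtain ⟨y, rfl⟩ := hxA
      rw [hc, ← Category.assoc, ratHom_apply, ← MonObj.mul_comp, hy, hy, (isRTransInv_iff_rat i₀ f₀).1 hf₀]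
    · rw [hx _ hxA, hx _ (fun h => hxA ((hA x t).1 h))]
  have hg'A : g' ∈ (ratHom j).range := by
    by_contra hne
    obtain ⟨E, hE1, hE0⟩ := exists_extension j (1 : Fn G₀)
    have h1 := evalPt_one_of_isRTransInv (hfix E (hextInv 1 E (by show _ = _; rw [map_one, map_one]) hE1 hE0))
    rw [hE0 g' hne, ← MonObj.one_comp j, hE1, map_one] at h1
    exact zero_ne_one h1
  obtain ⟨y, hy⟩ := hg'A
  obtain ⟨l, hl⟩ := hobs y fun f₀ hf₀ => by
    obtain ⟨F, hF1, hF0⟩ := exists_extension j f₀
    have h1 := (isRTransInv_iff _ F).1 (hfix F (hextInv f₀ F hf₀ hF1 hF0)) k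
    have key : ∀ x : VecGrp.pt k k ⟶ G₀, evalPt (x * y) f₀ = evalPt x f₀ := fun x => by
      have h2 := h1 (x ≫ j) (𝟙 _)
      rw [Category.id_comp, ← hy, ratHom_apply, ← MonObj.mul_comp, hF1, hF1] at h2
      exact h2
    have := fn_isReduced_of_smooth G₀
    have e : pull (𝟙 G₀ * (toUnit G₀ ≫ lTrans.toUnit' ≫ y)) f₀ = f₀ := by
      refine fn_ext_ratPts G₀ fun x => ?_
      rw [← evalPt_comp_apply, MonObj.comp_mul, Category.comp_id, cst_comp, key]
    refine (isRTransInv_ratPt_iff _ _).2 fun B _ _ z => ?_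
    conv_rhs => rw [← e]
    rw [← evalPt_comp_apply, MonObj.comp_mul, Category.comp_id]
    congr 3
    rw [← Category.assoc, ← Category.assoc, constPt_unique ((z ≫ toUnit G₀) ≫ lTrans.toUnit')]
    rfl
  refine ⟨q.out * (l ≫ c), ?_⟩
  rw [MonObj.mul_comp, Category.assoc, hc, ← Category.assoc, hl]
  show _ * (ratHom j y) = g
  rw [hy, hg', mul_inv_cancel_left]

end Groth.Agf

end
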