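import Groth.Agent.Agf.Observable
import Mathlib.RingTheory.Spectrum.Prime.Chevalley
import Mathlib.RingTheory.Ideal.AssociatedPrime.Localization

/-!
The image of `G → Spec k[G]^H`: it is open, and its complement has codimension at least two.
-/

universe u

open CategoryTheory MonoidalCategory CartesianMonoidalCategory MonObj GrpObj AlgebraicGeometry
open scoped TensorProduct

noncomputable section

namespace Groth.Agf

/-- A constructible subset has a closed point outside any open set not containing it (Jacobson case). -/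
theorem exists_closedPoint_of_isConstructible {B : Type u} [CommRing B] [IsJacobsonRing B]
    {s U : Set (PrimeSpectrum B)} (hs : Topology.IsConstructible s) (hU : IsOpen U) {p : PrimeSpectrum B}
    (hp : p ∈ s) (hpU : p ∉ U) : ∃ m ∈ s, m ∉ U ∧ m.asIdeal.IsMaximal := by
  obtain ⟨S, rfl⟩ := PrimeSpectrum.exists_constructibleSetData_iff.2 hs
  simp only [PrimeSpectrum.ConstructibleSetData.toSet, Set.mem_iUnion] at hp
  obtain ⟨C, hC, hpC⟩ := hp
  have hlc : IsLocallyClosed (C.toSet ∩ Uᶜ) :=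
    ((PrimeSpectrum.isClosed_zeroLocus _).isLocallyClosed.inter
      (PrimeSpectrum.isClosed_zeroLocus _).isOpen_compl.isLocallyClosed).inter
      hU.isClosed_compl.isLocallyClosed
  obtain ⟨m, ⟨hm, hmU⟩, hm'⟩ := nonempty_inter_closedPoints (Z := C.toSet ∩ Uᶜ) ⟨p, hpC, hpU⟩ hlc
  exact ⟨m, Set.mem_iUnion₂.2 ⟨C, hC, hm⟩, hmU, (PrimeSpectrum.isClosed_singleton_iff_isMaximal m).1 hm'⟩

/-- A constructible set containing a minimal prime contains a neighbourhood of it. -/
theorem mem_interior_of_minimal {B : Type u} [CommRing B] [IsNoetherianRing B] {s : Set (PrimeSpectrum B)}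
    (hs : Topology.IsConstructible s) {P : PrimeSpectrum B} (hP : P.asIdeal ∈ minimalPrimes B) (hPs : P ∈ s) :
    P ∈ interior s := by
  obtain ⟨S, rfl⟩ := PrimeSpectrum.exists_constructibleSetData_iff.2 hs
  simp only [PrimeSpectrum.ConstructibleSetData.toSet, Set.mem_iUnion] at hPs
  obtain ⟨C, hC, hPg, hPf⟩ := hPs
  let O : Set (PrimeSpectrum B) :=
    (PrimeSpectrum.zeroLocus {C.f})ᶜ \ ⋃ Q ∈ minimalPrimes B \ {P.asIdeal}, PrimeSpectrum.zeroLocus (Q : Set B)
  refine mem_interior.2 ⟨O, ?_, ?_, hPf, ?_⟩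
  · rintro q ⟨hqf, hq⟩
    refine Set.mem_iUnion₂.2 ⟨C, hC, ?_, hqf⟩
    obtain ⟨Q, hQ, hQq⟩ := Ideal.exists_minimalPrimes_le (bot_le : ⊥ ≤ q.asIdeal)
    have : Q = P.asIdeal := by
      by_contra hne
      exact hq (Set.mem_iUnion₂.2 ⟨Q, ⟨hQ, hne⟩, hQq⟩)
    exact fun x hx => (this ▸ hQq) (hPg hx)
  · exact (PrimeSpectrum.isClosed_zeroLocus _).isOpen_compl.sdiff
      (((minimalPrimes.finite_of_isNoetherianRing B).subset Set.sdiff_subset).isClosed_biUnion
        fun Q _ => PrimeSpectrum.isClosed_zeroLocus _)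
  · simp only [Set.mem_iUnion, not_exists]
    rintro Q ⟨hQ, hne⟩ hQP
    exact hne (le_antisymm hQP (hP.2 ⟨hQ.1.1, bot_le⟩ hQP))

section Codim

variable {B A : Type u} [CommRing B] [CommRing A] [IsNoetherianRing B] [IsNoetherianRing A] [IsReduced A]

/-- If every element of `A` dividing into `B` lies in `B`, primes of height at most one are contractions,
given that contractions form an open set. -/
theorem two_le_height_of_not_mem_range (φ : B →+* A) (hφ : Function.Injective φ)
    (hopen : IsOpen (Set.range (PrimeSpectrum.comap φ)))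
    (hsat : ∀ (a c : B) (f : A), φ a ∈ nonZeroDivisors A → φ a * f = φ c → f ∈ φ.range)
    (P : PrimeSpectrum B) (hP : P ∉ Set.range (PrimeSpectrum.comap φ)) : (2 : ℕ∞) ≤ P.asIdeal.height := by
  by_contra hlt
  rw [not_le] at hlt
  have hout : ∀ q : PrimeSpectrum A, ¬ P.asIdeal ≤ q.asIdeal.comap φ := fun q h =>
    hP (((PrimeSpectrum.le_iff_specializes P (PrimeSpectrum.comap φ q)).1 h).mem_open hopen ⟨q, rfl⟩)
  have hfin := minimalPrimes.finite_of_isNoetherianRing A
  obtain ⟨a, haP, ha⟩ : ∃ a ∈ P.asIdeal, ∀ q ∈ minimalPrimes A, φ a ∉ q := by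
    by_contra hc
    push Not at hc
    have : (P.asIdeal : Set B) ⊆ ⋃ q ∈ (↑hfin.toFinset : Set (Ideal A)), (q.comap φ : Ideal B) := fun x hx => by
      obtain ⟨q, hq, hxq⟩ := hc x hx
      exact Set.mem_iUnion₂.2 ⟨q, hfin.mem_toFinset.2 hq, hxq⟩
    obtain ⟨q, hq, hle⟩ := (Ideal.subset_union_prime (⊥ : Ideal A) ⊥
      (fun q hq _ _ => by
        have := (hfin.mem_toFinset.1 hq).1.1
        exact Ideal.IsPrime.comap φ)).1 this
    exact hout ⟨q, (hfin.mem_toFinset.1 hq).1.1⟩ hle
  have hnzd : φ a ∈ nonZeroDivisors A := by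
    refine mem_nonZeroDivisors_iff_right.2 fun b hb => ?_
    refine (IsReduced.eq_zero b ?_)
    rw [← mem_nilradical]
    change b ∈ Ideal.radical ⊥
    rw [← Ideal.sInf_minimalPrimes, Submodule.mem_sInf]
    intro q hq
    exact (hq.1.1.mem_or_mem (hb ▸ q.zero_mem)).resolve_right (ha q hq)
  have hmin : P.asIdeal ∈ (Ideal.span {a}).minimalPrimes := by
    refine ⟨⟨P.2, (Ideal.span_singleton_le_iff_mem _).2 haP⟩, fun Q ⟨hQp, hQa⟩ hQP => ?_⟩
    by_contra hne
    have := hQp
    have h1 : Q.height + 1 ≤ P.asIdeal.height :=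
      Ideal.height_add_one_le_of_lt_of_isPrime (lt_of_le_not_ge hQP hne)
    have h0 : Q.height = 0 := by
      have h2 : Q.height + 1 < 2 := h1.trans_lt hlt
      cases hh : Q.height with
      | top => simp [hh] at h2
      | coe n =>
        rw [hh] at h2
        have : n + 1 < 2 := by exact_mod_cast h2
        have : n = 0 := by omega
        simp [this]
    have hQmin : Q ∈ minimalPrimes B := Ideal.height_eq_zero_iff.1 h0
    obtain ⟨q', hq', hq'Q⟩ := Ideal.exists_comap_eq_of_mem_minimalPrimes_of_injective hφ Q hQmin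
    obtain ⟨q, hq, hqq'⟩ := Ideal.exists_minimalPrimes_le (bot_le : ⊥ ≤ q')
    have : Q ≤ q.comap φ := by
      have := hq.1.1
      exact hQmin.2 ⟨Ideal.IsPrime.comap φ, bot_le⟩ (hq'Q ▸ Ideal.comap_mono hqq')
    exact ha q hq (this ((Ideal.span_singleton_le_iff_mem _).1 hQa))
  have hass : IsAssociatedPrime P.asIdeal (B ⧸ Ideal.span {a}) :=
    Module.associatedPrimes.minimalPrimes_annihilator_subset_associatedPrimes B (B ⧸ Ideal.span {a})
      (by rwa [Ideal.annihilator_quotient])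
  obtain ⟨-, x, hx⟩ := hass
  obtain ⟨c, rfl⟩ := Ideal.Quotient.mk_surjective x
  have hc : c ∉ Ideal.span {a} := by
    intro hc
    refine P.2.ne_top ?_
    rw [hx, Ideal.Quotient.eq_zero_iff_mem.2 hc, eq_top_iff]
    refine le_trans ?_ Ideal.le_radical
    intro z _
    simp [Submodule.mem_colon_singleton]
  have hpow : ∀ p ∈ P.asIdeal, ∃ n : ℕ, p ^ n * c ∈ Ideal.span {a} := by
    intro p hp
    rw [hx] at hp
    obtain ⟨n, hn⟩ := hp
    refine ⟨n, ?_⟩
    rw [Submodule.mem_colon_singleton, Submodule.mem_bot] at hn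
    exact Ideal.Quotient.eq_zero_iff_mem.1 hn
  obtain ⟨f, hf⟩ : ∃ f, φ a * f = φ c := by
    let J := Submodule.colon (Ideal.span {φ a}) {φ c}
    have hJ : J = ⊤ := by
      by_contra hne
      obtain ⟨q, hq, hJq⟩ := Ideal.exists_le_maximal J hne
      obtain ⟨p, hp, hpq⟩ := Set.not_subset.1 (hout ⟨q, hq.isPrime⟩)
      obtain ⟨n, hn⟩ := hpow p hp
      refine hpq (hq.isPrime.mem_of_pow_mem n (hJq ?_))
      rw [Submodule.mem_colon_singleton, smul_eq_mul, ← map_pow, ← map_mul]
      obtain ⟨z, hz⟩ := Ideal.mem_span_singleton'.1 hn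
      rw [← hz, map_mul]
      exact Ideal.mul_mem_left _ _ (Ideal.mem_span_singleton_self _)
    have h1 : (1 : A) ∈ J := hJ ▸ Submodule.mem_top
    rw [Submodule.mem_colon_singleton, one_smul, Ideal.mem_span_singleton] at h1
    obtain ⟨f, hf⟩ := h1
    exact ⟨f, hf.symm⟩
  obtain ⟨g, rfl⟩ := hsat a c f hnzd hf
  exact hc (Ideal.mem_span_singleton.2 ⟨g, hφ (by rw [map_mul]; exact hf.symm)⟩)

end Codim

variable {k : Type u} [Field k] {G H : Over (Spec (CommRingCat.of k))} [GrpObj G] [GrpObj H] [IsAffine G.left]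
  [IsAffine H.left]

omit [GrpObj H] in
/-- Quotients of invariant functions are invariant. -/
theorem isRTransInv_of_mul_eq (i : H ⟶ G) {a c f : Fn G} (ha : a ∈ nonZeroDivisors (Fn G))
    (hai : AGF.IsRTransInv i a) (hci : AGF.IsRTransInv i c) (hf : a * f = c) : AGF.IsRTransInv i f := by
  rw [isRTransInv_iff] at hai hci ⊢
  intro B _ _ x t
  let T := Fn G ⊗[k] Fn H
  let X : VecGrp.pt k T ⟶ G := ptOf G Algebra.TensorProduct.includeLeft
  let Y : VecGrp.pt k T ⟶ H := ptOf H Algebra.TensorProduct.includeRight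
  have e : evalPt (X * (Y ≫ i)) f = evalPt X f := by
    have h1 := hci T X Y
    rw [← hf, map_mul, map_mul, hai T X Y] at h1
    have hinj : Function.Injective fun z : T => (a ⊗ₜ[k] (1 : Fn H)) * z := by
      have h : (fun z : T => (a ⊗ₜ[k] (1 : Fn H)) * z) = (LinearMap.mulLeft k a).rTensor (Fn H) := by
        funext z
        induction z using TensorProduct.induction_on with
        | zero => simp
        | tmul u v =>
          exact (Algebra.TensorProduct.tmul_mul_tmul a u (1 : Fn H) v).trans (by rw [_root_.one_mul]; rfl)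
        | add u v hu hv => simp only [mul_add, map_add, hu, hv]
      rw [h]
      exact Module.Flat.rTensor_preserves_injective_linearMap _ fun u v huv =>
        (mem_nonZeroDivisors_iff_right.1 ha (u - v) (by rw [sub_mul, mul_comm u, mul_comm v]; exact sub_eq_zero.2 huv)
          |> sub_eq_zero.1)
    simp only [X, evalPt_ptOf] at h1 ⊢
    exact hinj h1
  let ψ : T →ₐ[k] B := Algebra.TensorProduct.lift (evalPt x) (evalPt t) fun _ _ => Commute.all _ _
  have hψ₁ : ψ.comp Algebra.TensorProduct.includeLeft = evalPt x := Algebra.TensorProduct.lift_comp_includeLeft _ _ _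
  have hψ₂ : (ψ.restrictScalars k).comp Algebra.TensorProduct.includeRight = evalPt t :=
    Algebra.TensorProduct.lift_comp_includeRight _ _ _
  have hX : VecGrp.ptMap ψ ≫ X = x := pt_ext ((evalPt_ptMap ψ X).trans (by rw [evalPt_ptOf]; exact hψ₁))
  have hY : VecGrp.ptMap ψ ≫ Y = t := pt_ext ((evalPt_ptMap ψ Y).trans (by rw [evalPt_ptOf]; exact hψ₂))
  have h2 := congrArg ψ e
  rw [← AlgHom.comp_apply, ← AlgHom.comp_apply, ← evalPt_ptMap, ← evalPt_ptMap, MonObj.comp_mul,
    ← Category.assoc, hX, hY] at h2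
  exact h2

omit [GrpObj H] in
theorem algebraMap_mem_rTransInv (i : H ⟶ G) (c : k) : algebraMap k (Fn G) c ∈ AGF.rTransInv i := by
  show AGF.IsRTransInv i _
  rw [isRTransInv_iff]
  intros
  simp

/-- Invariant functions form a `k`-algebra. -/
def rTransInvAlg (i : H ⟶ G) : Subalgebra k (Fn G) :=
  { AGF.rTransInv i with algebraMap_mem' := algebraMap_mem_rTransInv i }

omit [GrpObj H] in
theorem rTransInvAlg_finiteType (i : H ⟶ G) (hfg : AGF.SubringFGOver k G (AGF.rTransInv i)) :
    Algebra.FiniteType k (rTransInvAlg i) := by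
  obtain ⟨s, hs, hle⟩ := hfg
  refine ⟨(Subalgebra.fg_top _).2 ⟨s, le_antisymm ?_ ?_⟩⟩
  · exact Algebra.adjoin_le hs
  · intro f hf
    rw [← Subalgebra.mem_toSubring, Algebra.adjoin_eq_ring_closure]
    exact hle hf

variable [LocallyOfFiniteType G.hom] [IsAlgClosed k]

omit [GrpObj H] in
theorem exists_ratPt_of_mem_range (i : H ⟶ G) {m : PrimeSpectrum (rTransInvAlg i)} (hm : m.asIdeal.IsMaximal)
    (h : m ∈ Set.range (PrimeSpectrum.comap (rTransInvAlg i).val.toRingHom)) :
    ∃ g : VecGrp.pt k k ⟶ G, RingHom.ker ((evalPt g).comp (rTransInvAlg i).val) = m.asIdeal := by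
  obtain ⟨p, rfl⟩ := h
  have := fn_finiteType (k := k) G
  have : IsJacobsonRing (Fn G) := isJacobsonRing_of_finiteType (A := k)
  obtain ⟨M, hM, hpM⟩ := Ideal.exists_le_maximal p.asIdeal p.isPrime.ne_top
  let : Field (Fn G ⧸ M) := Ideal.Quotient.field M
  have : Module.Finite k (Fn G ⧸ M) := finite_of_finite_type_of_isJacobsonRing k (Fn G ⧸ M)
  let e : k ≃ₐ[k] Fn G ⧸ M := AlgEquiv.ofBijective (Algebra.ofId k _)
    (IsAlgClosed.algebraMap_bijective_of_isIntegral (k := k) (K := Fn G ⧸ M))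
  refine ⟨ptOf G (e.symm.toAlgHom.comp (Ideal.Quotient.mkₐ k M)),
    (hm.eq_of_le (RingHom.ker_ne_top _) ?_).symm⟩
  intro x hx
  have : (x : Fn G) ∈ M := hpM hx
  simp [RingHom.mem_ker, Ideal.Quotient.eq_zero_iff_mem.2 this]

omit [GrpObj H] in
omit [IsAlgClosed k] in
theorem isConstructible_range (i : H ⟶ G) (hfg : AGF.SubringFGOver k G (AGF.rTransInv i)) :
    Topology.IsConstructible (Set.range (PrimeSpectrum.comap (rTransInvAlg i).val.toRingHom)) := by
  have := rTransInvAlg_finiteType i hfg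
  have := fn_finiteType (k := k) G
  have : IsNoetherianRing (rTransInvAlg i) := Algebra.FiniteType.isNoetherianRing k _
  refine PrimeSpectrum.isConstructible_range_comap ((RingHom.FinitePresentation.of_finiteType).1 ?_)
  exact RingHom.FiniteType.of_comp_finiteType (f := algebraMap k (rTransInvAlg i))
    (g := (rTransInvAlg i).val.toRingHom)
    (by rw [AlgHom.toRingHom_eq_coe, AlgHom.comp_algebraMap]; exact RingHom.finiteType_algebraMap.2 ‹_›)

theorem isOpen_range_comap (i : H ⟶ G) (hfg : AGF.SubringFGOver k G (AGF.rTransInv i)) :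
    IsOpen (Set.range (PrimeSpectrum.comap (rTransInvAlg i).val.toRingHom)) := by
  let B := rTransInvAlg i
  let R := Set.range (PrimeSpectrum.comap B.val.toRingHom)
  have := rTransInvAlg_finiteType i hfg
  have : IsNoetherianRing B := Algebra.FiniteType.isNoetherianRing k _
  have : IsJacobsonRing B := isJacobsonRing_of_finiteType (A := k)
  have hR : Topology.IsConstructible R := isConstructible_range i hfg
  -- translations
  let τ : (VecGrp.pt k k ⟶ G) → (B →+* B) := fun z =>
    ((pull ((toUnit G ≫ (lTrans.toUnit' (k := k)) ≫ z) * 𝟙 G)).comp B.val).toRingHom.codRestrict B.toSubring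
      (fun b => lTrans_isRTransInv i z b.2)
  have hτ : ∀ z (b : B), ((τ z b : B) : Fn G) = lTrans z (b : Fn G) := fun _ _ => rfl
  have hτR : ∀ z q, q ∈ R → PrimeSpectrum.comap (τ z) q ∈ R := by
    rintro z _ ⟨q, rfl⟩
    refine ⟨PrimeSpectrum.comap (pull ((toUnit G ≫ (lTrans.toUnit' (k := k)) ≫ z) * 𝟙 G)).toRingHom q, ?_⟩
    ext b
    rfl
  have hττ : ∀ z b, τ z⁻¹ (τ z b) = b := by
    intro z b
    refine Subtype.ext (fn_ext fun C _ _ y => ?_)
    rw [hτ, hτ, evalPt_lTrans, evalPt_lTrans, ← _root_.mul_assoc]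
    simp [cst, ← MonObj.comp_mul]
  rw [← subset_interior_iff_isOpen]
  intro p hp
  by_contra hpi
  obtain ⟨m, hmR, hmi, hm⟩ := exists_closedPoint_of_isConstructible hR isOpen_interior hp hpi
  obtain ⟨g₁, hg₁⟩ := exists_ratPt_of_mem_range i hm hmR
  have : Nontrivial B := ⟨⟨0, 1, fun h => p.isPrime.ne_top (Ideal.eq_top_of_isUnit_mem _ (p.asIdeal.zero_mem)
    (h ▸ isUnit_one))⟩⟩
  obtain ⟨P, hP⟩ : (minimalPrimes B).Nonempty := by
    obtain ⟨Q, hQ, -⟩ := Ideal.exists_minimalPrimes_le (bot_le : ⊥ ≤ p.asIdeal)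
    exact ⟨Q, hQ⟩
  have hPR : (⟨P, hP.1.1⟩ : PrimeSpectrum B) ∈ R := by
    obtain ⟨q, hq, e⟩ := Ideal.exists_comap_eq_of_mem_minimalPrimes_of_injective
      (f := B.val.toRingHom) Subtype.val_injective P hP
    exact ⟨⟨q, hq⟩, PrimeSpectrum.ext e⟩
  have hPi := mem_interior_of_minimal hR (P := ⟨P, hP.1.1⟩) hP hPR
  obtain ⟨m₀, hm₀, hm₀'⟩ := nonempty_inter_closedPoints ⟨_, hPi⟩ isOpen_interior.isLocallyClosed
  obtain ⟨g₀, hg₀⟩ := exists_ratPt_of_mem_range i ((PrimeSpectrum.isClosed_singleton_iff_isMaximal m₀).1 hm₀')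
    (interior_subset hm₀)
  let z := g₀ * g₁⁻¹
  have hz : PrimeSpectrum.comap (τ z) m = m₀ := by
    refine PrimeSpectrum.ext ?_
    rw [PrimeSpectrum.comap_asIdeal, ← hg₁, ← hg₀]
    ext b
    rw [Ideal.mem_comap, RingHom.mem_ker, RingHom.mem_ker]
    show evalPt g₁ (lTrans z (b : Fn G)) = 0 ↔ evalPt g₀ (b : Fn G) = 0
    rw [evalPt_lTrans, cst_self, inv_mul_cancel_right]
  refine hmi (mem_interior.2 ⟨PrimeSpectrum.comap (τ z) ⁻¹' interior R, fun q hq => ?_,
    isOpen_interior.preimage (PrimeSpectrum.continuous_comap _), show PrimeSpectrum.comap (τ z) m ∈ interior R from hz ▸ hm₀⟩)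
  have := hτR z⁻¹ _ (interior_subset hq)
  rw [← PrimeSpectrum.comap_comp_apply] at this
  convert this
  symm
  rw [show (τ z).comp (τ z⁻¹) = RingHom.id _ from RingHom.ext fun b => by simpa using hττ z⁻¹ b,
    PrimeSpectrum.comap_id]

end Groth.Agf
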