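import Mathlib
import Groth.Agent.NeronArea.JacobianCriterion

/-! Smoothness of the plane curve `A(t) + B(t) w = 0` over a field. -/

set_option autoImplicit false
universe u

namespace Groth.Agf.PlaneLinear

open Polynomial

variable {k : Type u} [Field k]

/-- The equation `A(X₀) + B(X₀) X₁`. -/
noncomputable def eqn (A B : k[X]) : MvPolynomial (Fin 2) k :=
  aeval (MvPolynomial.X (0 : Fin 2)) A + aeval (MvPolynomial.X (0 : Fin 2)) B * MvPolynomial.X 1

theorem pderiv_zero_eqn (A B : k[X]) :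
    MvPolynomial.pderiv 0 (eqn A B) = eqn (derivative A) (derivative B) := by
  simp [eqn, Derivation.comp_aeval_eq, mul_comm]

theorem pderiv_one_eqn (A B : k[X]) :
    MvPolynomial.pderiv 1 (eqn A B) = aeval (MvPolynomial.X (0 : Fin 2)) B := by
  simp [eqn, Derivation.comp_aeval_eq]

theorem aeval_eqn {S : Type*} [CommRing S] [Algebra k S] (v : Fin 2 → S) (A B : k[X]) :
    MvPolynomial.aeval v (eqn A B) = aeval (v 0) A + aeval (v 0) B * v 1 := by
  simp [eqn, ← Polynomial.aeval_algHom_apply]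

/-- A singular point over an algebraically closed extension obstructs formal smoothness. -/
theorem not_formallySmooth {L : Type u} [Field L] [Algebra k L] (A B : k[X]) (hne : A ≠ 0 ∨ B ≠ 0)
    (a w : L) (hA : aeval a A = 0) (hB : aeval a B = 0)
    (hd : aeval a (derivative A) + aeval a (derivative B) * w = 0) :
    ¬ Algebra.FormallySmooth k (MvPolynomial (Fin 2) k ⧸ Ideal.span {eqn A B}) := by
  classical
  intro hsm
  let τ : L[X] := C a + X
  have hev : ∀ P : k[X], (aeval τ P).eval 0 = aeval a P := by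
    intro P
    have := (Polynomial.aeval_algHom_apply ((Polynomial.aeval (0 : L)).restrictScalars k) τ P).symm
    simpa [τ] using this
  have hder : ∀ P : k[X], derivative (aeval τ P) = aeval τ (derivative P) := by
    intro P
    have e : ∀ Q : k[X], aeval τ Q = (Q.map (algebraMap k L)).comp τ := fun Q => by
      rw [Polynomial.comp_eq_aeval, Polynomial.aeval_map_algebraMap]
    rw [e, e, derivative_comp, ← derivative_map]
    simp [τ]
  have hinj : ∀ P : k[X], aeval τ P = 0 → P = 0 := by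
    intro P hP
    rw [← Polynomial.aeval_map_algebraMap L, ← Polynomial.comp_eq_aeval, Polynomial.comp_eq_zero_iff] at hP
    rcases hP with h | ⟨-, h⟩
    · exact (Polynomial.map_eq_zero_iff (algebraMap k L).injective).1 h
    · exact absurd (congrArg (fun q => coeff q 1) h) (by simp [τ])
  obtain ⟨c, hc⟩ : ∃ c : L, aeval τ A + aeval τ B * (C w + C c * X) ≠ 0 := by
    by_contra! h
    have h0 := h 0
    have h1 := h 1
    simp only [map_zero, zero_mul, add_zero, map_one, one_mul] at h0 h1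
    have hB' : aeval τ B = 0 := by
      have : aeval τ B * X = 0 := by linear_combination h1 - h0
      simpa [Polynomial.X_ne_zero] using this
    rw [hB', zero_mul, add_zero] at h0
    exact hne.elim (fun h => h (hinj A h0)) (fun h => h (hinj B hB'))
  set ω : L[X] := C w + C c * X with hω
  set g := aeval τ A + aeval τ B * ω with hg
  obtain ⟨r, hgr, hr⟩ := g.exists_eq_pow_rootMultiplicity_mul_and_not_dvd hc 0
  set j := g.rootMultiplicity 0
  rw [map_zero, sub_zero] at hgr hr
  have hr0 : r.eval 0 ≠ 0 := by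
    intro h; exact hr (X_dvd_iff.2 (by rwa [coeff_zero_eq_eval_zero]))
  have hj : 2 ≤ j := by
    have h0 : g.eval 0 = 0 := by simp [hg, hev, hA, hB]
    have h1 : (derivative g).eval 0 = 0 := by
      simp [hg, hω, hev, hder, hA, hB, hd]
    by_contra hlt
    rw [hgr] at h0 h1
    interval_cases j
    · simp [hr0] at h0
    · simp [derivative_mul, hr0] at h1
  let J : Ideal L[X] := Ideal.span {X ^ (j + 1)}
  let I : Ideal (L[X] ⧸ J) := (Ideal.span {X ^ j}).map (Ideal.Quotient.mk J)
  have hI : IsNilpotent I := by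
    refine ⟨2, ?_⟩
    rw [← Ideal.map_pow, Ideal.span_singleton_pow, Ideal.zero_eq_bot, Ideal.map_eq_bot_iff_le_ker,
      Ideal.mk_ker, Ideal.span_singleton_le_iff_mem, Ideal.mem_span_singleton, ← pow_mul]
    exact pow_dvd_pow _ (by omega)
  let φ : MvPolynomial (Fin 2) k →ₐ[k] (L[X] ⧸ J) ⧸ I :=
    MvPolynomial.aeval ![Ideal.Quotient.mkₐ k I (Ideal.Quotient.mkₐ k J τ),
      Ideal.Quotient.mkₐ k I (Ideal.Quotient.mkₐ k J ω)]
  have hφ : ∀ x ∈ Ideal.span {eqn A B}, φ x = 0 := by
    intro x hx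
    obtain ⟨y, rfl⟩ := Ideal.mem_span_singleton.1 hx
    rw [map_mul]
    refine mul_eq_zero_of_left ?_ _
    show MvPolynomial.aeval _ (eqn A B) = 0
    refine (aeval_eqn (S := (L[X] ⧸ J) ⧸ I) _ A B).trans ?_
    simp only [Matrix.cons_val_zero, Matrix.cons_val_one, Polynomial.aeval_algHom_apply]
    rw [← map_mul, ← map_add, ← map_mul, ← map_add, ← hg, Ideal.Quotient.mkₐ_eq_mk, Ideal.Quotient.mkₐ_eq_mk,
      Ideal.Quotient.eq_zero_iff_mem]
    refine Ideal.mem_map_of_mem (Ideal.Quotient.mk J) ?_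
    exact Ideal.mem_span_singleton.2 ⟨r, hgr⟩
  obtain ⟨f, hf⟩ := Algebra.FormallySmooth.exists_lift I hI (Ideal.Quotient.liftₐ _ φ hφ)
  let mk := Ideal.Quotient.mkₐ k (Ideal.span {eqn A B})
  have key : ∀ (i : Fin 2) (s : L[X]), φ (MvPolynomial.X i) = Ideal.Quotient.mkₐ k I (Ideal.Quotient.mkₐ k J s) →
      ∃ z : L[X], f (mk (MvPolynomial.X i)) = Ideal.Quotient.mkₐ k J (s + X ^ j * z) := by
    intro i s hs
    obtain ⟨t, ht⟩ := Ideal.Quotient.mk_surjective (f (mk (MvPolynomial.X i)))
    have h1 : Ideal.Quotient.mk I (f (mk (MvPolynomial.X i))) = φ (MvPolynomial.X i) :=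
      AlgHom.congr_fun hf (mk (MvPolynomial.X i))
    rw [hs, ← ht] at h1
    have h2 : t - s ∈ Ideal.span {X ^ j} := by
      have := Ideal.Quotient.eq.1 h1
      simp only [Ideal.Quotient.mkₐ_eq_mk, ← map_sub] at this
      rw [Ideal.mem_map_iff_of_surjective _ Ideal.Quotient.mk_surjective] at this
      obtain ⟨y, hy, hyt⟩ := this
      rw [Ideal.Quotient.eq, Ideal.mem_span_singleton] at hyt
      rw [Ideal.mem_span_singleton] at hy ⊢
      have := dvd_sub hy ((pow_dvd_pow X (Nat.le_succ j)).trans hyt)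
      simpa using this
    obtain ⟨z, hz⟩ := Ideal.mem_span_singleton.1 h2
    exact ⟨z, by rw [← hz, add_sub_cancel, ← ht]; rfl⟩
  obtain ⟨z₀, hz₀⟩ := key 0 τ (by simp [φ])
  obtain ⟨z₁, hz₁⟩ := key 1 ω (by simp [φ])
  have hF : f (mk (eqn A B)) = 0 := by
    rw [show mk (eqn A B) = 0 from Ideal.Quotient.eq_zero_iff_mem.2 (Ideal.subset_span rfl), map_zero]
  rw [show f (mk (eqn A B)) = MvPolynomial.aeval ![f (mk (MvPolynomial.X 0)), f (mk (MvPolynomial.X 1))] (eqn A B)
    from AlgHom.congr_fun (MvPolynomial.algHom_ext (f := f.comp mk) (fun i => by fin_cases i <;> simp)) _,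
    aeval_eqn] at hF
  simp only [Matrix.cons_val_zero, Matrix.cons_val_one] at hF
  rw [hz₀, hz₁, Polynomial.aeval_algHom_apply, Polynomial.aeval_algHom_apply, ← map_mul, ← map_add,
    Ideal.Quotient.mkₐ_eq_mk, Ideal.Quotient.eq_zero_iff_mem, Ideal.mem_span_singleton] at hF
  have hT : ∀ P : k[X], ∃ e : L[X],
      aeval (τ + X ^ j * z₀) P = aeval τ P + aeval τ (derivative P) * (X ^ j * z₀) + e * (X ^ j * z₀) ^ 2 := by
    intro P
    obtain ⟨e, he⟩ := (P.map (algebraMap k L[X])).binomExpansion τ (X ^ j * z₀)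
    refine ⟨e, ?_⟩
    simpa only [derivative_map, eval_map_algebraMap] using he
  obtain ⟨eA, heA⟩ := hT A
  obtain ⟨eB, heB⟩ := hT B
  rw [heA, heB] at hF
  have hX : (X : L[X]) ∣ z₀ * (aeval τ (derivative A) + aeval τ (derivative B) * ω) + z₁ * aeval τ B := by
    refine X_dvd_iff.2 ?_
    rw [coeff_zero_eq_eval_zero]
    simp [hev, hB, hω, hd]
  obtain ⟨q, hq⟩ := hX
  have e2 : (X : L[X]) ^ j = X * X ^ (j - 1) := by
    rw [← pow_succ']; congr 1; omega
  have : X ^ (j + 1) ∣ X ^ j * r := by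
    refine (dvd_add_left (a := X ^ (j + 1)) (b := X ^ j * r) (c := X ^ (j + 1) *
      (q + X ^ (j - 1) * (z₀ ^ 2 * eA + z₀ ^ 2 * eB * (ω + X ^ j * z₁) + z₀ * z₁ * aeval τ (derivative B))))
      (dvd_mul_right _ _)).1 ?_
    convert hF using 1
    rw [← hgr, hg]
    linear_combination (-(X : L[X]) ^ j) * hq -
      (X : L[X]) ^ j * (z₀ ^ 2 * eA + z₀ ^ 2 * eB * (ω + X ^ j * z₁) + z₀ * z₁ * aeval τ (derivative B)) * e2
  rw [pow_succ, mul_dvd_mul_iff_left (pow_ne_zero _ X_ne_zero)] at this
  exact hr this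

/-- Without singular points over an algebraic closure the curve is smooth. -/
theorem smooth (L : Type u) [Field L] [Algebra k L] [IsAlgClosed L] (A B : k[X])
    (h : ∀ a w : L, aeval a A = 0 → aeval a B = 0 →
      aeval a (derivative A) + aeval a (derivative B) * w ≠ 0) :
    Algebra.Smooth k (MvPolynomial (Fin 2) k ⧸ Ideal.span {eqn A B}) := by
  classical
  let P := MvPolynomial (Fin 2) k
  set F : P := eqn A B with hF
  have hone : (1 : P) ∈ Ideal.span {F, MvPolynomial.pderiv 0 F, MvPolynomial.pderiv 1 F} := by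
    rw [← Ideal.eq_top_iff_one]
    by_contra hne
    obtain ⟨M, hM, hle⟩ := Ideal.exists_le_maximal _ hne
    letI : Field (P ⧸ M) := Ideal.Quotient.field M
    haveI : Algebra.FiniteType k (P ⧸ M) := Algebra.FiniteType.of_surjective (Ideal.Quotient.mkₐ k M) Ideal.Quotient.mk_surjective
    haveI : Module.Finite k (P ⧸ M) := finite_of_finite_type_of_isJacobsonRing k _
    let φ : P →ₐ[k] L := (IsAlgClosed.lift : P ⧸ M →ₐ[k] L).comp (Ideal.Quotient.mkₐ k M)
    have hz : ∀ x ∈ M, φ x = 0 := fun x hx => by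
      simp [φ, Ideal.Quotient.eq_zero_iff_mem.2 hx]
    have hφ : ∀ A B : k[X], φ (eqn A B) = aeval (φ (MvPolynomial.X 0)) A + aeval (φ (MvPolynomial.X 0)) B * φ (MvPolynomial.X 1) :=
      fun A B => by simp [eqn, ← Polynomial.aeval_algHom_apply]
    have e0 := hz _ (hle (Ideal.subset_span (Set.mem_insert _ _)))
    have e1 := hz _ (hle (Ideal.subset_span (Set.mem_insert_of_mem _ (Set.mem_insert _ _))))
    have e2 := hz _ (hle (Ideal.subset_span (Set.mem_insert_of_mem _ (Set.mem_insert_of_mem _ rfl))))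
    rw [hF, hφ] at e0
    rw [hF, pderiv_zero_eqn, hφ] at e1
    rw [hF, pderiv_one_eqn, ← Polynomial.aeval_algHom_apply] at e2
    rw [e2, zero_mul, add_zero] at e0
    exact h _ _ e0 e2 e1
  obtain ⟨c₀, c₁, c₂, hc⟩ := Submodule.mem_span_triple.1 hone
  simp only [smul_eq_mul] at hc
  have key : Algebra.Smooth k (P ⧸ Ideal.span (Set.range fun _ : Unit => F)) := by
    let Pr : Algebra.Presentation k (P ⧸ Ideal.span (Set.range fun _ : Unit => F)) (Fin 2) Unit :=
      Algebra.Presentation.naive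
    let π := Ideal.Quotient.mkₐ k (Ideal.span (Set.range fun _ : Unit => F))
    have hπ : MvPolynomial.aeval Pr.val = π := by
      refine MvPolynomial.algHom_ext fun i => ?_
      rw [MvPolynomial.aeval_X]; rfl
    have hπF : π F = 0 := Ideal.Quotient.eq_zero_iff_mem.2 (Ideal.subset_span ⟨(), rfl⟩)
    refine { formallySmooth := ?_, finitePresentation := ?_ }
    · refine (Groth.NeronArea.Jacobian.formallySmooth_and_stablyFree Pr
        (Matrix.of fun _ i => π (![c₁, c₂] i)) ?_).1
      ext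
      simp only [Matrix.mul_apply, Matrix.of_apply, Fin.sum_univ_two, Matrix.one_apply_eq, Pr,
        Algebra.Presentation.naive_relation] at hπ ⊢
      simp only [hπ]
      have := congrArg π hc
      simpa [hπF] using this
    · exact Algebra.FinitePresentation.quotient (Submodule.fg_span (Set.finite_range _))
  rwa [Set.range_const] at key

end Groth.Agf.PlaneLinear
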