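import Mathlib.LinearAlgebra.Eigenspace.Triangularizable
import Mathlib.LinearAlgebra.Eigenspace.Minpoly
import Mathlib.FieldTheory.IsAlgClosed.Basic
import Mathlib.RingTheory.Artinian.Module

/-!
`sl₂` acting on a vector space: primitive vectors, and splitting off the invariants of a finite-dimensional
representation by means of the Casimir element.
-/

universe u v

namespace Groth.Agf

/-- Three elements of a ring satisfying the relations of `sl₂`. -/
structure IsTri {A : Type*} [Ring A] (e h f : A) : Prop where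
  ef : e * f - f * e = h
  he : h * e - e * h = 2 * e
  hf : h * f - f * h = -(2 * f)

theorem IsTri.symm {A : Type*} [Ring A] {e h f : A} (T : IsTri e h f) : IsTri f (-h) e :=
  ⟨by rw [← T.ef]; noncomm_ring, by
    have := T.hf
    linear_combination (norm := noncomm_ring) -this, by
    have := T.he
    linear_combination (norm := noncomm_ring) -this⟩

variable {k : Type u} [Field k] {V : Type v} [AddCommGroup V] [Module k V] {E H F : Module.End k V}

theorem tri_he_apply (T : IsTri E H F) (v : V) : H (E v) = E (H v) + (2 : k) • E v := by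
  have := congrArg (fun a => a v) T.he
  simp only [two_mul, LinearMap.sub_apply, LinearMap.add_apply, Module.End.mul_apply] at this
  rw [two_smul, ← this]; abel

theorem tri_hf_apply (T : IsTri E H F) (v : V) : H (F v) = F (H v) - (2 : k) • F v := by
  have := congrArg (fun a => a v) T.hf
  simp only [two_mul, LinearMap.sub_apply, LinearMap.add_apply, LinearMap.neg_apply,
    Module.End.mul_apply] at this
  rw [two_smul]; linear_combination (norm := abel) this

theorem tri_ef_apply (T : IsTri E H F) (v : V) : E (F v) = F (E v) + H v := by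
  have := congrArg (fun a => a v) T.ef
  simp only [LinearMap.sub_apply, Module.End.mul_apply] at this
  rw [← this]; abel

theorem H_pow_F (T : IsTri E H F) {v : V} {μ : k} (hv : H v = μ • v) (j : ℕ) :
    H ((F ^ j) v) = (μ - 2 * j) • (F ^ j) v := by
  induction j with
  | zero => simpa using hv
  | succ j ih =>
    rw [pow_succ', Module.End.mul_apply, tri_hf_apply T, ih, map_smul]
    push_cast
    module

theorem E_pow_F (T : IsTri E H F) {v : V} {μ : k} (hv : H v = μ • v) (he : E v = 0) (j : ℕ) :
    E ((F ^ (j + 1)) v) = ((j + 1) * (μ - j)) • (F ^ j) v := by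
  induction j with
  | zero => simp [tri_ef_apply T, he, hv]
  | succ j ih =>
    rw [pow_succ' F (j + 1), Module.End.mul_apply, tri_ef_apply T, ih, map_smul, H_pow_F T hv,
      ← Module.End.mul_apply, ← pow_succ']
    push_cast
    module

variable [CharZero k]

/-- A primitive vector in a finite-dimensional stable subspace has natural weight. -/
theorem exists_nat_of_primitive (T : IsTri E H F) {v : V} {μ : k} (hv : H v = μ • v) (he : E v = 0) (h0 : v ≠ 0)
    (W : Submodule k V) [FiniteDimensional k W] (hW : ∀ j : ℕ, (F ^ j) v ∈ W) :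
    ∃ m : ℕ, μ = m ∧ (F ^ (m + 1)) v = 0 := by
  have hex : ∃ N, (F ^ N) v = 0 := by
    by_contra! hne
    have hinj : Function.Injective fun j : ℕ => μ - 2 * (j : k) := fun a b hab => by simpa using hab
    have hli : LinearIndependent k fun j : ℕ => (⟨(F ^ j) v, hW j⟩ : W) := by
      refine LinearIndependent.of_comp W.subtype ?_
      exact H.eigenvectors_linearIndependent' _ hinj (fun j => (F ^ j) v)
        fun j => Module.End.hasEigenvector_iff.2 ⟨Module.End.mem_eigenspace_iff.2 (H_pow_F T hv j), hne j⟩
    exact not_finite_iff_infinite.2 inferInstance hli.finite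
  obtain ⟨j, hj, hj'⟩ := Nat.exists_not_and_succ_of_not_zero_of_exists (p := fun N => (F ^ N) v = 0)
    (by simpa using h0) hex
  refine ⟨j, ?_, hj'⟩
  have := E_pow_F T hv he j
  rw [hj', map_zero, eq_comm, smul_eq_zero_iff_left hj, mul_eq_zero, sub_eq_zero] at this
  exact this.resolve_left (Nat.cast_add_one_ne_zero j)

/-- The Casimir element. -/
def casimir (E H F : Module.End k V) : Module.End k V := 4 * (F * E) + H * H + 2 * H

omit [CharZero k] in
theorem casimir_symm (T : IsTri E H F) : casimir F (-H) E = casimir E H F := by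
  have := T.ef
  rw [casimir, casimir]
  linear_combination (norm := noncomm_ring) (4 : ℤ) • this

omit [CharZero k] in
theorem casimir_comm_E (T : IsTri E H F) : casimir E H F * E = E * casimir E H F := by
  have h1 := T.ef
  have h2 := T.he
  rw [casimir]
  linear_combination (norm := noncomm_ring) -(4 : ℤ) • congrArg (· * E) h1 + congrArg (H * ·) h2 +
    congrArg (· * H) h2

omit [CharZero k] in
theorem casimir_comm_F (T : IsTri E H F) : casimir E H F * F = F * casimir E H F := by
  rw [← casimir_symm T]
  exact casimir_comm_E T.symm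

variable [IsAlgClosed k] [FiniteDimensional k V]

omit [IsAlgClosed k] in
theorem eigenvalue_neg_even (T : IsTri E H F) (hC : IsNilpotent (casimir E H F)) {μ : k}
    (hμ : H.HasEigenvalue μ) : ∃ j : ℕ, μ = -(2 * (j : k)) := by
  classical
  have hfin : {a : k | H.HasEigenvalue a}.Finite := Module.End.finite_hasEigenvalue H
  have hinj : Function.Injective fun j : ℕ => μ + 2 * (j : k) := fun a b hab => by simpa using hab
  have hJ : {j : ℕ | H.HasEigenvalue (μ + 2 * (j : k))}.Finite := hfin.preimage hinj.injOn
  obtain ⟨j, hj, hmax⟩ := hJ.toFinset.exists_maximal ⟨0, by simp [hμ]⟩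
  simp only [Set.Finite.mem_toFinset, Set.mem_ofPred_eq] at hj hmax
  obtain ⟨v, hv, h0⟩ := hj.exists_hasEigenvector
  rw [Module.End.mem_eigenspace_iff] at hv
  have he : E v = 0 := by
    by_contra hne
    have : H.HasEigenvalue (μ + 2 * ((j + 1 : ℕ) : k)) := by
      refine Module.End.hasEigenvalue_of_hasEigenvector (x := E v) ⟨Module.End.mem_eigenspace_iff.2 ?_, hne⟩
      rw [tri_he_apply T, hv, map_smul]
      push_cast
      module
    exact absurd (hmax this (Nat.le_succ j)) (Nat.not_succ_le_self j)
  obtain ⟨m, hm, -⟩ := exists_nat_of_primitive T hv he h0 ⊤ fun _ => trivial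
  rw [hm] at hv
  have hCv : casimir E H F v = ((m : k) * (m + 2)) • v := by
    simp only [casimir, two_mul, LinearMap.add_apply, Module.End.mul_apply, he, hv, map_smul, map_zero]
    module
  obtain ⟨N, hN⟩ := hC
  have hpow : ∀ N : ℕ, ((casimir E H F) ^ N) v = ((m : k) * (m + 2)) ^ N • v := by
    intro N
    induction N with
    | zero => simp
    | succ N ih => rw [pow_succ', Module.End.mul_apply, ih, map_smul, hCv, smul_smul, pow_succ]
  have := hpow N
  rw [hN, LinearMap.zero_apply, eq_comm, smul_eq_zero_iff_left h0] at this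
  have hm0 : m = 0 := by
    have := eq_zero_of_pow_eq_zero this
    norm_cast at this
    rcases Nat.mul_eq_zero.1 this with h | h <;> omega
  exact ⟨j, by rw [hm0] at hm; linear_combination hm⟩

/-- A finite-dimensional representation with nilpotent Casimir is trivial. -/
theorem eq_zero_of_casimir_nilpotent (T : IsTri E H F) (hC : IsNilpotent (casimir E H F)) : E = 0 ∧ F = 0 := by
  have h0 : ∀ μ, H.HasEigenvalue μ → μ = 0 := by
    intro μ hμ
    obtain ⟨j, hj⟩ := eigenvalue_neg_even T hC hμ
    obtain ⟨i, hi⟩ := eigenvalue_neg_even (μ := -μ) T.symm (by rwa [casimir_symm T]) (by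
      obtain ⟨v, hv, hv0⟩ := hμ.exists_hasEigenvector
      rw [Module.End.mem_eigenspace_iff] at hv
      exact Module.End.hasEigenvalue_of_hasEigenvector (x := v)
        ⟨Module.End.mem_eigenspace_iff.2 (by simp [hv]), hv0⟩)
    have h2 : ((i + j : ℕ) : k) = ((0 : ℕ) : k) := by
      push_cast
      linear_combination ((1 : k) / 2) * hi + ((1 : k) / 2) * hj
    have := Nat.cast_injective h2
    have : j = 0 := by omega
    simp [hj, this]
  have htop : H.maxGenEigenspace 0 = ⊤ := by
    rw [eq_top_iff, ← Module.End.iSup_maxGenEigenspace_eq_top H]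
    refine iSup_le fun μ => ?_
    by_cases hμ : μ = 0
    · rw [hμ]
    · suffices H.maxGenEigenspace μ = ⊥ by rw [this]; exact bot_le
      by_contra hne
      have hgen : H.HasUnifEigenvalue μ ⊤ := hne
      exact hμ (h0 μ (hgen.lt zero_lt_one))
  have hnil : ∀ v : V, ∃ N : ℕ, (H ^ N) v = 0 := by
    intro v
    have : v ∈ H.maxGenEigenspace 0 := htop ▸ trivial
    rw [Module.End.mem_maxGenEigenspace] at this
    simpa using this
  have key : ∀ (N : ℕ) (a : k), a ≠ 0 → ∀ (A : Module.End k V), (∀ v, H (A v) = A (H v) + a • A v) →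
      ∀ v, (H ^ N) v = 0 → A v = 0 := by
    intro N a ha A hA
    induction N with
    | zero => intro v hv; simp only [pow_zero, Module.End.one_apply] at hv; simp [hv]
    | succ N ih =>
      intro v hv
      rw [pow_succ, Module.End.mul_apply] at hv
      have h1 := hA v
      rw [ih _ hv, zero_add] at h1
      by_contra hne
      exact ha (h0 a (Module.End.hasEigenvalue_of_hasEigenvector ⟨Module.End.mem_eigenspace_iff.2 h1, hne⟩))
  refine ⟨LinearMap.ext fun v => ?_, LinearMap.ext fun v => ?_⟩
  · obtain ⟨N, hN⟩ := hnil v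
    exact key N 2 two_ne_zero E (tri_he_apply T) v hN
  · obtain ⟨N, hN⟩ := hnil v
    exact key N (-2) (neg_ne_zero.2 two_ne_zero) F (fun w => by rw [tri_hf_apply T, neg_smul, sub_eq_add_neg]) v hN

/-- The invariants are a direct complement of `EV + FV`. -/
theorem isCompl_invariants (T : IsTri E H F) :
    IsCompl (LinearMap.ker E ⊓ LinearMap.ker F) (LinearMap.range E ⊔ LinearMap.range F) := by
  let C := casimir E H F
  obtain ⟨N, hN⟩ := Filter.eventually_atTop.1 (LinearMap.eventually_isCompl_ker_pow_range_pow C)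
  let M := N + 1
  have hM : IsCompl (LinearMap.ker (C ^ M)) (LinearMap.range (C ^ M)) := hN M (Nat.le_succ N)
  let K := LinearMap.ker (C ^ M)
  have hcE : ∀ n : ℕ, C ^ n * E = E * C ^ n := fun n => ((show Commute C E from casimir_comm_E T).pow_left n).eq
  have hcF : ∀ n : ℕ, C ^ n * F = F * C ^ n := fun n => ((show Commute C F from casimir_comm_F T).pow_left n).eq
  have hH : ∀ v, H v = E (F v) - F (E v) := fun v => by rw [tri_ef_apply T]; abel
  have hKE : ∀ v ∈ K, E v ∈ K := fun v hv => by
    rw [LinearMap.mem_ker] at hv ⊢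
    rw [← Module.End.mul_apply, hcE, Module.End.mul_apply, hv, map_zero]
  have hKF : ∀ v ∈ K, F v ∈ K := fun v hv => by
    rw [LinearMap.mem_ker] at hv ⊢
    rw [← Module.End.mul_apply, hcF, Module.End.mul_apply, hv, map_zero]
  have hKH : ∀ v ∈ K, H v ∈ K := fun v hv => hH v ▸ K.sub_mem (hKE _ (hKF v hv)) (hKF _ (hKE v hv))
  have hres : ∀ (n : ℕ) (w : K), (((casimir (E.restrict hKE) (H.restrict hKH) (F.restrict hKF)) ^ n) w : V) =
      (C ^ n) (w : V) := by
    intro n
    induction n with
    | zero => simp
    | succ n ih =>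
      intro w
      have h4 : ∀ u : V, (4 : Module.End k V) u = (4 : ℕ) • u := fun u => Module.End.ofNat_apply _ _
      have h2 : ∀ u : V, (2 : Module.End k V) u = (2 : ℕ) • u := fun u => Module.End.ofNat_apply _ _
      have h4' : ∀ u : K, (4 : Module.End k K) u = (4 : ℕ) • u := fun u => Module.End.ofNat_apply _ _
      have h2' : ∀ u : K, (2 : Module.End k K) u = (2 : ℕ) • u := fun u => Module.End.ofNat_apply _ _
      rw [pow_succ, pow_succ, Module.End.mul_apply, Module.End.mul_apply, ih]
      simp [C, casimir, h4, h2, h4', h2']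
  have hTK : IsTri (E.restrict hKE) (H.restrict hKH) (F.restrict hKF) :=
    ⟨LinearMap.ext fun w => Subtype.ext (by simp [← hH]),
      LinearMap.ext fun w => Subtype.ext (by simp [two_mul, tri_he_apply T, two_smul]),
      LinearMap.ext fun w => Subtype.ext (by simp [two_mul, tri_hf_apply T, two_smul])⟩
  obtain ⟨hE0, hF0⟩ := eq_zero_of_casimir_nilpotent hTK
    ⟨M, LinearMap.ext fun w => Subtype.ext (by rw [hres]; exact w.2)⟩
  have hKle : K ≤ LinearMap.ker E ⊓ LinearMap.ker F := fun v hv =>
    ⟨congrArg Subtype.val (LinearMap.congr_fun hE0 ⟨v, hv⟩), congrArg Subtype.val (LinearMap.congr_fun hF0 ⟨v, hv⟩)⟩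
  have hC0 : ∀ v ∈ LinearMap.ker E ⊓ LinearMap.ker F, C v = 0 := by
    rintro v ⟨h1, h2⟩
    rw [SetLike.mem_coe, LinearMap.mem_ker] at h1 h2
    have : H v = 0 := by simp [hH, h1, h2]
    simp [C, casimir, h1, this]
  have hle : LinearMap.ker E ⊓ LinearMap.ker F ≤ K := fun v hv => by
    rw [LinearMap.mem_ker, pow_succ, Module.End.mul_apply, hC0 v hv, map_zero]
  have himg : ∀ v, C v ∈ LinearMap.range E ⊔ LinearMap.range F := by
    intro v
    have hHm : ∀ w, H w ∈ LinearMap.range E ⊔ LinearMap.range F := fun w =>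
      hH w ▸ Submodule.sub_mem _ (Submodule.mem_sup_left ⟨_, rfl⟩) (Submodule.mem_sup_right ⟨_, rfl⟩)
    simp only [C, casimir, LinearMap.add_apply, Module.End.mul_apply, Module.End.ofNat_apply]
    exact Submodule.add_mem _ (Submodule.add_mem _ (nsmul_mem (Submodule.mem_sup_right (LinearMap.mem_range_self F (E v))) 4) (hHm _))
      (nsmul_mem (hHm _) 2)
  have hsup : LinearMap.range E ⊔ LinearMap.range F = LinearMap.range (C ^ M) := by
    refine le_antisymm (sup_le ?_ ?_) ?_
    · rintro _ ⟨v, rfl⟩
      obtain ⟨a, ha, b, ⟨c, rfl⟩, rfl⟩ := Submodule.mem_sup.1 (hM.sup_eq_top ▸ trivial : v ∈ K ⊔ LinearMap.range (C ^ M))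
      refine ⟨E c, ?_⟩
      rw [map_add, (hKle ha).1, zero_add, ← Module.End.mul_apply, hcE]
      rfl
    · rintro _ ⟨v, rfl⟩
      obtain ⟨a, ha, b, ⟨c, rfl⟩, rfl⟩ := Submodule.mem_sup.1 (hM.sup_eq_top ▸ trivial : v ∈ K ⊔ LinearMap.range (C ^ M))
      refine ⟨F c, ?_⟩
      rw [map_add, (hKle ha).2, zero_add, ← Module.End.mul_apply, hcF]
      rfl
    · rintro _ ⟨v, rfl⟩
      rw [pow_succ', Module.End.mul_apply]
      exact himg _
  rw [hsup, le_antisymm hle hKle]
  exact hM

end Groth.Agf
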