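import Groth.Agent.Agf.Sl2Fin
import Mathlib.Algebra.Polynomial.Module.AEval
import Mathlib.Algebra.Module.PID
import Mathlib.Algebra.Polynomial.Derivative

/-!
Every nilpotent endomorphism of a finite-dimensional vector space over a field of characteristic zero is the
raising operator of an `sl₂`-triple with diagonalisable `h` (built on `k[X]/(X^d)`).
-/

universe u v

open Polynomial

noncomputable section

namespace Groth.Agf

variable {k : Type u} [Field k]

/-- Multiplication by `X`. -/
def modelE (k : Type u) [Field k] : Module.End k k[X] := LinearMap.mulLeft k X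
/-- The weight operator `2 X d/dX - (d-1)`. -/
def modelH (k : Type u) [Field k] (d : ℕ) : Module.End k k[X] :=
  2 * (modelE k * derivative) - ((d : k) - 1) • (1 : Module.End k k[X])
/-- The lowering operator. -/
def modelF (k : Type u) [Field k] (d : ℕ) : Module.End k k[X] :=
  (d : k) • (derivative : Module.End k k[X]) - derivative * modelE k * derivative

/-- The submodule `(X^d)`. -/
def modelI (k : Type u) [Field k] (d : ℕ) : Submodule k k[X] :=
  Submodule.restrictScalars k (Submodule.span k[X] {(X : k[X]) ^ d})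

theorem mem_modelI {d : ℕ} {p : k[X]} : p ∈ modelI k d ↔ X ^ d ∣ p :=
  Ideal.mem_span_singleton

theorem modelE_mem (d : ℕ) : modelI k d ≤ (modelI k d).comap (modelE k) := fun _ hp => by
  rw [Submodule.mem_comap, mem_modelI]
  exact dvd_mul_of_dvd_right (mem_modelI.1 hp) X

theorem deriv_X_pow_mul (d : ℕ) (q : k[X]) :
    X * derivative (X ^ d * q) = X ^ d * ((d : k) • q + X * derivative q) := by
  rw [derivative_mul, derivative_X_pow]
  cases d with
  | zero => simp
  | succ d => simp [Algebra.smul_def, pow_succ]; ring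

theorem modelH_mem (d : ℕ) : modelI k d ≤ (modelI k d).comap (modelH k d) := fun p hp => by
  obtain ⟨q, rfl⟩ := mem_modelI.1 hp
  rw [Submodule.mem_comap, mem_modelI]
  refine ⟨2 • ((d : k) • q + X * derivative q) - ((d : k) - 1) • q, ?_⟩
  simp only [modelH, modelE, two_mul, LinearMap.sub_apply, LinearMap.add_apply, LinearMap.smul_apply,
    Module.End.mul_apply, Module.End.one_apply, LinearMap.mulLeft_apply, deriv_X_pow_mul, two_nsmul]
  simp only [Algebra.smul_def]
  ring

theorem modelF_mem (d : ℕ) : modelI k d ≤ (modelI k d).comap (modelF k d) := fun p hp => by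
  obtain ⟨q, rfl⟩ := mem_modelI.1 hp
  rw [Submodule.mem_comap, mem_modelI]
  refine ⟨-derivative ((d : k) • q + X * derivative q), ?_⟩
  simp only [modelF, modelE, LinearMap.sub_apply, LinearMap.smul_apply, Module.End.mul_apply,
    LinearMap.mulLeft_apply, deriv_X_pow_mul]
  cases d with
  | zero => simp
  | succ d =>
    simp only [Algebra.smul_def, Polynomial.algebraMap_eq, derivative_mul, derivative_add, derivative_C,
      derivative_X_pow, derivative_X, derivative_one, Nat.add_sub_cancel, Nat.cast_add, Nat.cast_one, map_add, map_one]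
    ring

theorem model_tri (d : ℕ) : IsTri (modelE k) (modelH k d) (modelF k d) := by
  refine ⟨?_, ?_, ?_⟩ <;> refine LinearMap.ext fun p => ?_ <;>
    simp only [modelH, modelF, modelE, two_mul, LinearMap.sub_apply, LinearMap.add_apply, LinearMap.smul_apply,
      LinearMap.neg_apply, Module.End.mul_apply, Module.End.one_apply, LinearMap.mulLeft_apply, map_sub, map_add,
      map_smul, derivative_mul, derivative_X, derivative_one, one_mul] <;>
    simp only [Polynomial.smul_eq_C_mul, map_sub, map_one] <;> ring

theorem modelH_monomial (d j : ℕ) :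
    modelH k d (X ^ j) = ((2 * j : k) - ((d : k) - 1)) • X ^ j := by
  have h := deriv_X_pow_mul j (1 : k[X])
  simp only [mul_one, derivative_one, mul_zero, add_zero] at h
  simp only [modelH, modelE, two_mul, LinearMap.sub_apply, LinearMap.add_apply, LinearMap.smul_apply,
    Module.End.mul_apply, Module.End.one_apply, LinearMap.mulLeft_apply, h]
  simp only [Polynomial.smul_eq_C_mul, map_sub, map_add]
  ring

theorem monomial_span_top : ⨆ j : ℕ, Submodule.span k {(X : k[X]) ^ j} = ⊤ := by
  rw [eq_top_iff]
  intro p _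
  rw [p.as_sum_range_C_mul_X_pow]
  refine Submodule.sum_mem _ fun j _ => Submodule.mem_iSup_of_mem j ?_
  exact Submodule.mem_span_singleton.2 ⟨p.coeff j, by rw [Polynomial.smul_eq_C_mul]⟩

variable [CharZero k] {V : Type v} [AddCommGroup V] [Module k V] [FiniteDimensional k V]

omit [CharZero k] in
theorem exists_tri_of_nilpotent (e : Module.End k V) (he : IsNilpotent e) :
    ∃ h f : Module.End k V, IsTri e h f ∧ ⨆ μ : k, h.eigenspace μ = ⊤ := by
  classical
  obtain ⟨N, hN⟩ := he
  have htors : Module.IsTorsion' (Module.AEval' e) (Submonoid.powers (X : k[X])) := fun {x} => by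
    obtain ⟨v, rfl⟩ := (Module.AEval'.of e).surjective x
    refine ⟨⟨X ^ N, N, rfl⟩, ?_⟩
    show (X ^ N : k[X]) • Module.AEval'.of e v = 0
    rw [Module.AEval'.X_pow_smul_of, hN]
    simp
  have : Module.Finite k[X] (Module.AEval' e) := inferInstance
  obtain ⟨n, d, ⟨Ψ⟩⟩ := Module.torsion_by_prime_power_decomposition Polynomial.irreducible_X htors
  let I : Fin n → Submodule k k[X] := fun i => modelI k (d i)
  let Q := ∀ i, k[X] ⧸ I i
  let mE : ∀ i, Module.End k (k[X] ⧸ I i) := fun i => Submodule.mapQ _ _ (modelE k) (modelE_mem (d i))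
  let mH : ∀ i, Module.End k (k[X] ⧸ I i) := fun i => Submodule.mapQ _ _ (modelH k (d i)) (modelH_mem (d i))
  let mF : ∀ i, Module.End k (k[X] ⧸ I i) := fun i => Submodule.mapQ _ _ (modelF k (d i)) (modelF_mem (d i))
  let E : Module.End k Q := LinearMap.pi fun i => mE i ∘ₗ LinearMap.proj i
  let H : Module.End k Q := LinearMap.pi fun i => mH i ∘ₗ LinearMap.proj i
  let F : Module.End k Q := LinearMap.pi fun i => mF i ∘ₗ LinearMap.proj i
  let Φ₀ : (DirectSum (Fin n) fun i => k[X] ⧸ Submodule.span k[X] {(X : k[X]) ^ d i}) ≃ₗ[k[X]]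
      (∀ i, k[X] ⧸ Submodule.span k[X] {(X : k[X]) ^ d i}) :=
    DirectSum.linearEquivFunOnFintype k[X] (Fin n) _
  let Φ : V ≃ₗ[k] Q := (Module.AEval'.of e).trans (((Ψ.trans Φ₀).restrictScalars k).trans
    (LinearEquiv.piCongrRight fun i => (Submodule.Quotient.restrictScalarsEquiv k _).symm))
  have hE : ∀ v, Φ (e v) = E (Φ v) := by
    intro v
    funext i
    show (Submodule.Quotient.restrictScalarsEquiv k _).symm ((Φ₀ (Ψ (Module.AEval'.of e (e v)))) i) =
      Submodule.mapQ _ _ (modelE k) (modelE_mem (d i))
        ((Submodule.Quotient.restrictScalarsEquiv k _).symm ((Φ₀ (Ψ (Module.AEval'.of e v))) i))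
    rw [← Module.AEval'.X_smul_of, map_smul, map_smul, Pi.smul_apply]
    generalize Φ₀ (Ψ (Module.AEval'.of e v)) i = q
    obtain ⟨p, rfl⟩ := Submodule.Quotient.mk_surjective _ q
    rfl
  have hpi : IsTri E H F := by
    have key : ∀ i : Fin n, ∀ p : k[X],
        (modelE k (modelF k (d i) p) - modelF k (d i) (modelE k p) = modelH k (d i) p) ∧
        (modelH k (d i) (modelE k p) - modelE k (modelH k (d i) p) = modelE k p + modelE k p) ∧
        (modelH k (d i) (modelF k (d i) p) - modelF k (d i) (modelH k (d i) p) =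
          -(modelF k (d i) p + modelF k (d i) p)) := fun i p => by
      have T := model_tri (k := k) (d i)
      exact ⟨by simpa using LinearMap.congr_fun T.ef p, by simpa [two_mul] using LinearMap.congr_fun T.he p,
        by simpa [two_mul] using LinearMap.congr_fun T.hf p⟩
    refine ⟨?_, ?_, ?_⟩ <;> refine LinearMap.ext fun w => funext fun i => ?_ <;>
      obtain ⟨p, hp⟩ := Submodule.Quotient.mk_surjective _ (w i)
    · show mE i (mF i (w i)) - mF i (mE i (w i)) = mH i (w i)
      simp only [mE, mF, mH, ← hp, Submodule.mapQ_apply, ← Submodule.Quotient.mk_sub]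
      exact congrArg _ (key i p).1
    · rw [two_mul]
      show mH i (mE i (w i)) - mE i (mH i (w i)) = mE i (w i) + mE i (w i)
      simp only [mE, mH, ← hp, Submodule.mapQ_apply, ← Submodule.Quotient.mk_sub, ← Submodule.Quotient.mk_add]
      exact congrArg _ (key i p).2.1
    · rw [two_mul]
      show mH i (mF i (w i)) - mF i (mH i (w i)) = -(mF i (w i) + mF i (w i))
      simp only [mF, mH, ← hp, Submodule.mapQ_apply, ← Submodule.Quotient.mk_sub, ← Submodule.Quotient.mk_add,
        ← Submodule.Quotient.mk_neg]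
      exact congrArg _ (key i p).2.2
  let c : Module.End k Q ≃+* Module.End k V := Φ.symm.conjRingEquiv
  have hc : ∀ A v, c A v = Φ.symm (A (Φ v)) := fun A v => rfl
  refine ⟨c H, c F, ?_, ?_⟩
  · have hce : c E = e := LinearMap.ext fun v => by rw [hc, ← hE, LinearEquiv.symm_apply_apply]
    rw [← hce]
    exact ⟨by rw [← map_mul, ← map_mul, ← map_sub, hpi.ef],
      by rw [← map_mul, ← map_mul, ← map_sub, hpi.he, map_mul, map_ofNat],
      by rw [← map_mul, ← map_mul, ← map_sub, hpi.hf, map_neg, map_mul, map_ofNat]⟩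
  · rw [eq_top_iff]
    intro v _
    have hv : v = ∑ i, Φ.symm (LinearMap.single k (fun i => k[X] ⧸ I i) i (Φ v i)) := by
      rw [← map_sum, LinearEquiv.eq_symm_apply]
      exact (Finset.univ_sum_single (Φ v)).symm
    rw [hv]
    refine Submodule.sum_mem _ fun i _ => ?_
    obtain ⟨p, hp⟩ := Submodule.Quotient.mk_surjective _ (Φ v i)
    rw [← hp]
    have hle : (⊤ : Submodule k k[X]) ≤ (⨆ μ : k, (c H).eigenspace μ).comap
        ((Φ.symm.toLinearMap ∘ₗ LinearMap.single k (fun i => k[X] ⧸ I i) i) ∘ₗ (I i).mkQ) := by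
      rw [← monomial_span_top, iSup_le_iff]
      intro j
      rw [Submodule.span_le, Set.singleton_subset_iff, SetLike.mem_coe, Submodule.mem_comap]
      refine Submodule.mem_iSup_of_mem ((2 * j : k) - ((d i : k) - 1)) (Module.End.mem_eigenspace_iff.2 ?_)
      simp only [LinearMap.comp_apply, LinearEquiv.coe_coe, hc, LinearEquiv.apply_symm_apply, Submodule.mkQ_apply]
      refine Eq.trans ?_ (map_smul Φ.symm _ _)
      congr 1
      funext i'
      show mH i' (LinearMap.single k (fun i => k[X] ⧸ I i) i (Submodule.Quotient.mk (X ^ j)) i') =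
        ((2 * j : k) - ((d i : k) - 1)) • LinearMap.single k (fun i => k[X] ⧸ I i) i (Submodule.Quotient.mk (X ^ j)) i'
      rw [LinearMap.single_apply]
      rcases eq_or_ne i' i with rfl | hne
      · rw [Pi.single_eq_same]
        simp only [mH, Submodule.mapQ_apply, modelH_monomial]
        rfl
      · rw [Pi.single_eq_of_ne hne, map_zero, smul_zero]
    exact hle (x := p) trivial

end Groth.Agf
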