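import Groth.Prelude.Def_W4bk4grossh1223Act
import Mathlib.RingTheory.Nilpotent.GeometricallyReduced
import Mathlib.LinearAlgebra.TensorProduct.RightExactness
import Mathlib.LinearAlgebra.TensorProduct.Basis
import Mathlib.RingTheory.Flat.Basic
import Mathlib.RingTheory.IntegralClosure.IntegrallyClosed
import Mathlib.RingTheory.IntegralClosure.IsIntegralClosure.Basic

/-! Tensor products over a field and families of rational points; invariants in a domain. -/

set_option autoImplicit false
universe u

open CategoryTheory MonObj AlgebraicGeometry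
open scoped TensorProduct

namespace Groth.Agf

variable {k : Type u} [Field k]

/-- The evaluation `K ⊗ A → K` at a rational point. -/
noncomputable def evalAt (K : Type u) [CommRing K] [Algebra k K] {A : Type u} [CommRing A] [Algebra k A]
    (σ : A →ₐ[k] k) : K ⊗[k] A →ₐ[K] K :=
  (Algebra.TensorProduct.rid k K K).toAlgHom.comp (Algebra.TensorProduct.map (AlgHom.id K K) σ)

@[simp] theorem evalAt_tmul (K : Type u) [CommRing K] [Algebra k K] {A : Type u} [CommRing A] [Algebra k A]
    (σ : A →ₐ[k] k) (c : K) (a : A) : evalAt K σ (c ⊗ₜ a) = σ a • c := by simp [evalAt]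

theorem mem_map_of_forall_evalAt_eq_zero {K : Type u} [CommRing K] [Algebra k K] {A : Type u} [CommRing A]
    [Algebra k A] (S : Set (A →ₐ[k] k)) (x : K ⊗[k] A) (hx : ∀ σ ∈ S, evalAt K σ x = 0) :
    x ∈ Ideal.map (Algebra.TensorProduct.includeRight : A →ₐ[k] K ⊗[k] A) (⨅ σ ∈ S, RingHom.ker σ) := by
  classical
  let b := Module.Free.chooseBasis k K
  obtain ⟨c, hc⟩ := TensorProduct.eq_repr_basis_left b x
  subst hc
  refine Ideal.sum_mem _ fun i _ => ?_
  have hi : c i ∈ (⨅ σ ∈ S, RingHom.ker σ : Ideal A) := by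
    simp only [Ideal.mem_iInf, RingHom.mem_ker]
    intro σ hσ
    have h := congrArg b.repr (hx σ hσ)
    simp only [Finsupp.sum, map_sum, evalAt_tmul, map_smul, map_zero, Module.Basis.repr_self] at h
    have h' := DFunLike.congr_fun h i
    by_contra hne
    simp [Finsupp.finsetSum_apply, Finsupp.single_apply] at h'
    exact hne (h' (fun h0 => hne (by simp [h0])))
  have : b i ⊗ₜ[k] c i = (b i ⊗ₜ[k] (1 : A)) * Algebra.TensorProduct.includeRight (c i) := by simp
  show b i ⊗ₜ[k] c i ∈ _
  rw [this]
  exact Ideal.mul_mem_left _ _ (Ideal.mem_map_of_mem _ hi)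

theorem map_iInf_ker_eq {K : Type u} [Field K] [Algebra k K] {A : Type u} [CommRing A] [Algebra k A]
    (S : Set (A →ₐ[k] k)) :
    Ideal.map (Algebra.TensorProduct.includeRight : A →ₐ[k] K ⊗[k] A) (⨅ σ ∈ S, RingHom.ker σ) =
      ⨅ σ ∈ S, RingHom.ker ((Algebra.TensorProduct.rid k K K).toAlgHom.comp
        (Algebra.TensorProduct.map (AlgHom.id K K) σ)) := by
  refine le_antisymm ?_ fun x hx => mem_map_of_forall_evalAt_eq_zero S x ?_
  · rw [Ideal.map_le_iff_le_comap]
    intro a ha
    simp only [Ideal.mem_iInf, RingHom.mem_ker, Ideal.mem_comap] at ha ⊢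
    intro σ hσ
    simp [ha σ hσ]
  · simp only [Ideal.mem_iInf, RingHom.mem_ker] at hx
    exact hx

theorem isReduced_tensor_of_separating {K : Type u} [Field K] [Algebra k K] {A : Type u} [CommRing A]
    [Algebra k A] (S : Set (A →ₐ[k] k)) (hS : ∀ a : A, (∀ s ∈ S, s a = 0) → a = 0) :
    IsReduced (K ⊗[k] A) := by
  constructor
  intro x hx
  have h := mem_map_of_forall_evalAt_eq_zero S x fun σ _ => (hx.map (evalAt K σ)).eq_zero
  have h0 : (⨅ σ ∈ S, RingHom.ker σ : Ideal A) = ⊥ := by
    rw [eq_bot_iff]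
    intro a ha
    simp only [Ideal.mem_iInf, RingHom.mem_ker] at ha
    exact hS a ha
  rw [h0, Ideal.map_bot] at h
  simpa using h

theorem iInf_ker_tensor_eq {A A' : Type u} [CommRing A] [Algebra k A] [CommRing A'] [Algebra k A']
    (S : Set (A →ₐ[k] k)) (S' : Set (A' →ₐ[k] k)) :
    (⨅ σ ∈ S, ⨅ σ' ∈ S', RingHom.ker ((Algebra.TensorProduct.lmul' (S := k) k).comp
        (Algebra.TensorProduct.map σ σ'))) =
      Ideal.map (Algebra.TensorProduct.includeLeft : A →ₐ[k] A ⊗[k] A') (⨅ σ ∈ S, RingHom.ker σ) ⊔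
        Ideal.map (Algebra.TensorProduct.includeRight : A' →ₐ[k] A ⊗[k] A') (⨅ σ' ∈ S', RingHom.ker σ') := by
  classical
  refine le_antisymm ?_ ?_
  · intro x hx
    simp only [Ideal.mem_iInf, RingHom.mem_ker] at hx
    set N' : Ideal A' := ⨅ σ' ∈ S', RingHom.ker σ' with hN'
    let W : Submodule k A' := N'.restrictScalars k
    let q := W.mkQ
    let b := Module.Free.chooseBasis k (A' ⧸ W)
    choose c hc using fun j => Submodule.mkQ_surjective W (b j)
    obtain ⟨a, ha⟩ := TensorProduct.eq_repr_basis_right b (LinearMap.lTensor A q x)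
    set y : A ⊗[k] A' := a.sum fun j aj => aj ⊗ₜ[k] c j with hy
    have hxy : LinearMap.lTensor A q (x - y) = 0 := by
      rw [map_sub, ← ha, hy]
      simp [Finsupp.sum, map_sum, q, hc]
    have hker : x - y ∈ Ideal.map (Algebra.TensorProduct.includeRight : A' →ₐ[k] A ⊗[k] A') N' := by
      have hex := lTensor_exact A (LinearMap.exact_subtype_mkQ W) (Submodule.mkQ_surjective W)
      obtain ⟨z, hz⟩ := (hex (x - y)).1 hxy
      rw [← hz]
      clear hz
      induction z using TensorProduct.induction_on with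
      | zero => simp
      | tmul u v =>
        rw [LinearMap.lTensor_tmul,
          show u ⊗ₜ[k] (W.subtype v) = (u ⊗ₜ[k] (1 : A')) * Algebra.TensorProduct.includeRight (W.subtype v) by simp]
        exact Ideal.mul_mem_left _ _ (Ideal.mem_map_of_mem _ v.2)
      | add u v hu hv => rw [map_add]; exact Ideal.add_mem _ hu hv
    have hyL : y ∈ Ideal.map (Algebra.TensorProduct.includeLeft : A →ₐ[k] A ⊗[k] A') (⨅ σ ∈ S, RingHom.ker σ) := by
      refine Ideal.sum_mem _ fun j _ => ?_
      have hj : a j ∈ (⨅ σ ∈ S, RingHom.ker σ : Ideal A) := by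
        simp only [Ideal.mem_iInf, RingHom.mem_ker]
        intro σ hσ
        have hsum : (a.sum fun j aj => σ aj • c j) ∈ N' := by
          rw [hN']
          simp only [Ideal.mem_iInf, RingHom.mem_ker]
          intro σ' hσ'
          have hd : (Algebra.TensorProduct.lmul' (S := k) k).comp (Algebra.TensorProduct.map σ σ') (x - y) = 0 := by
            have : Ideal.map (Algebra.TensorProduct.includeRight : A' →ₐ[k] A ⊗[k] A') N' ≤
                RingHom.ker ((Algebra.TensorProduct.lmul' (S := k) k).comp (Algebra.TensorProduct.map σ σ')) := by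
              rw [Ideal.map_le_iff_le_comap]
              intro t ht
              simp only [hN', Ideal.mem_iInf, RingHom.mem_ker] at ht
              simp [ht σ' hσ']
            exact this hker
          rw [map_sub, hx σ hσ σ' hσ', zero_sub, neg_eq_zero, hy] at hd
          simpa [Finsupp.sum, map_sum, mul_comm, Algebra.smul_def] using hd
        have h0 : q (a.sum fun j aj => σ aj • c j) = 0 := (Submodule.Quotient.mk_eq_zero W).2 hsum
        simp only [Finsupp.sum, map_sum, map_smul, q, hc] at h0
        by_cases hjs : j ∈ a.support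
        · exact linearIndependent_iff'.1 b.linearIndependent a.support (fun i => σ (a i)) h0 j hjs
        · rw [Finsupp.notMem_support_iff.1 hjs, map_zero]
      show a j ⊗ₜ[k] c j ∈ _
      rw [show a j ⊗ₜ[k] c j = (Algebra.TensorProduct.includeLeft : A →ₐ[k] A ⊗[k] A') (a j) * ((1 : A) ⊗ₜ[k] c j) by simp]
      exact Ideal.mul_mem_right _ _ (Ideal.mem_map_of_mem _ hj)
    exact Submodule.mem_sup.2 ⟨y, hyL, x - y, hker, add_sub_cancel y x⟩
  · refine sup_le ?_ ?_ <;>
    · rw [Ideal.map_le_iff_le_comap]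
      intro t ht
      simp only [Ideal.mem_iInf, RingHom.mem_ker, Ideal.mem_comap] at ht ⊢
      intro σ hσ σ' hσ'
      first
      | simp [ht σ hσ]
      | simp [ht σ' hσ']

/-- In `B ⊗ A`, multiplication by `1 ⊗ b` is injective for a nonzero divisor `b`. -/
theorem tmul_mul_injective {B A : Type u} [CommRing B] [Algebra k B] [CommRing A] [IsDomain A] [Algebra k A]
    {b : A} (hb : b ≠ 0) : Function.Injective (fun x : B ⊗[k] A => x * ((1 : B) ⊗ₜ[k] b)) := by
  have h : (fun x : B ⊗[k] A => x * ((1 : B) ⊗ₜ[k] b)) = (LinearMap.mulRight k b).lTensor B := by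
    funext x
    induction x using TensorProduct.induction_on with
    | zero => simp
    | tmul u v => simp
    | add u v hu hv => simp only [add_mul, map_add, hu, hv]
  rw [h]
  exact Module.Flat.lTensor_preserves_injective_linearMap _ (mul_left_injective₀ hb)

variable {G H : Over (Spec (CommRingCat.of k))} [GrpObj G] [GrpObj H]

omit [GrpObj H] in
theorem isIntegrallyClosed_fixedSubalgebra {A : Type u} [CommRing A] [IsDomain A] [Algebra k A]
    [IsIntegrallyClosed A] (ρ : VecGrp.GMod G A) (hρ : ρ.IsMult) (i : H ⟶ G) :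
    IsIntegrallyClosed ↥(ρ.fixedSubalgebra hρ i) := by
  set S := ρ.fixedSubalgebra hρ i
  let F := FractionRing S
  let E := FractionRing A
  have hinj : Function.Injective ((algebraMap A E).comp S.val.toRingHom) :=
    (IsFractionRing.injective A E).comp Subtype.val_injective
  let φ : F →+* E := IsFractionRing.lift hinj
  rw [isIntegrallyClosed_iff (K := F)]
  intro x hx
  have hφ : ∀ s : S, φ (algebraMap S F s) = algebraMap A E (s : A) := fun s => IsFractionRing.lift_algebraMap hinj s
  have hint : IsIntegral A (φ x) := by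
    obtain ⟨p, hp, hpx⟩ := hx
    refine ⟨p.map S.val.toRingHom, hp.map _, ?_⟩
    rw [Polynomial.eval₂_map]
    have : (algebraMap A E).comp S.val.toRingHom = φ.comp (algebraMap S F) := RingHom.ext fun s => (hφ s).symm
    rw [this, ← Polynomial.hom_eval₂, hpx, map_zero]
  obtain ⟨a, ha⟩ := IsIntegrallyClosed.isIntegral_iff.1 hint
  obtain ⟨c, b, hb, hxcb⟩ := IsFractionRing.div_surjective (A := S) x
  have hb0 : (b : A) ≠ 0 := by simpa using nonZeroDivisors.ne_zero hb
  have hbF : algebraMap S F b ≠ 0 := IsFractionRing.to_map_ne_zero_of_mem_nonZeroDivisors hb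
  have hab : a * (b : A) = c := by
    apply IsFractionRing.injective A E
    rw [map_mul, ha, ← hφ, ← hφ, ← map_mul, ← hxcb, div_mul_cancel₀ _ hbF]
  have haS : a ∈ S := by
    intro B _ _ h
    have hB := b.2 B h
    have hC := c.2 B h
    rw [← hab] at hC
    apply tmul_mul_injective (B := B) hb0
    have e : ((1 : B) ⊗ₜ[k] a) * ((1 : B) ⊗ₜ[k] (b : A)) = ((1 : B) ⊗ₜ[k] (a * (b : A))) := by simp
    dsimp only
    conv_lhs => rw [← hB, ← (hρ B (h ≫ i)).1, e, hC]
    rw [e]
  refine ⟨⟨a, haS⟩, ?_⟩
  apply φ.injective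
  rw [hφ, ha]

end Groth.Agf
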