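import Groth.Agent.Agf.Sl2Model
import Mathlib.RingTheory.MvPolynomial.Homogeneous
import Mathlib.RingTheory.MvPolynomial.EulerIdentity
import Mathlib.RingTheory.Derivation.Lie
import Mathlib.Algebra.MvPolynomial.Derivation
import Mathlib.Algebra.MvPolynomial.PDeriv
import Mathlib.RingTheory.Polynomial.Basic
import Mathlib.RingTheory.Adjoin.FG

/-!
Weitzenböck's theorem in characteristic zero: the kernel of a linear locally nilpotent derivation of a polynomial
ring is finitely generated (via `sl₂`-invariants and the Casimir element).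
-/

universe u v

open MvPolynomial

noncomputable section

namespace Groth.Agf

variable {k : Type u} [Field k] {τ : Type} [Fintype τ]

omit [Fintype τ] in
/-- A derivation with linear coefficients preserves the degree. -/
theorem mkDerivation_isHomogeneous [Fintype τ] (g : τ → MvPolynomial τ k) (hg : ∀ i, (g i).IsHomogeneous 1)
    {p : MvPolynomial τ k} {d : ℕ} (hp : p.IsHomogeneous d) : (mkDerivation k g p).IsHomogeneous d := by
  classical
  have hsum : ∀ q, (∑ i, g i • pderiv i : Derivation k (MvPolynomial τ k) (MvPolynomial τ k)) q =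
      ∑ i, g i * pderiv i q := fun q =>
    (congrFun (map_sum Derivation.coeFnAddMonoidHom (fun i => g i • pderiv i) Finset.univ) q).trans
      (Finset.sum_apply q _ _)
  have hD : mkDerivation k g = ∑ i, g i • pderiv i := derivation_ext fun j => by
    rw [mkDerivation_X, hsum, Finset.sum_eq_single j]
    · simp
    · intro i _ hne
      simp [pderiv_X_of_ne (Ne.symm hne)]
    · simp
  rcases Nat.eq_zero_or_pos d with rfl | hd
  · rw [totalDegree_eq_zero_iff_eq_C.1 (Nat.le_zero.1 hp.totalDegree_le), derivation_C]
    exact isHomogeneous_zero _ _ _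
  · rw [hD, hsum]
    refine IsHomogeneous.sum _ _ _ fun i _ => ?_
    have := (hg i).mul (hp.pderiv (i := i))
    rwa [Nat.add_sub_cancel' hd] at this

theorem finite_homogeneousSubmodule (d : ℕ) : FiniteDimensional k (homogeneousSubmodule τ k d) :=
  Submodule.finiteDimensional_of_le (S₂ := restrictTotalDegree τ k d)
    fun _ hp => (mem_restrictTotalDegree _ _ _).2 (IsHomogeneous.totalDegree_le ((mem_homogeneousSubmodule d _).1 hp))

omit [Fintype τ] in
theorem homogeneousComponent_mul_right {s : MvPolynomial τ k} {e : ℕ} (hs : s.IsHomogeneous e) (a : MvPolynomial τ k)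
    (d : ℕ) : homogeneousComponent d (a * s) = if e ≤ d then homogeneousComponent (d - e) a * s else 0 := by
  classical
  conv_lhs => rw [← sum_homogeneousComponent a, Finset.sum_mul, map_sum]
  simp_rw [homogeneousComponent_of_mem ((homogeneousComponent_isHomogeneous _ a).mul hs)]
  split_ifs with h
  · rw [Finset.sum_eq_single (d - e)]
    · rw [if_pos (by omega)]
    · intro j _ hj
      rw [if_neg (by omega)]
    · intro hj
      rw [if_pos (by omega), homogeneousComponent_eq_zero _ a (by simp only [Finset.mem_range, not_lt] at hj; omega),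
        zero_mul]
  · exact Finset.sum_eq_zero fun j _ => by rw [if_neg (by omega)]

section Invariants

variable (gE gH gF : τ → MvPolynomial τ k)

/-- The invariants of a pair of derivations. -/
def sl2Inv : Subalgebra k (MvPolynomial τ k) where
  carrier := {p | mkDerivation k gE p = 0 ∧ mkDerivation k gF p = 0}
  mul_mem' := fun ha hb => ⟨by simp [ha.1, hb.1], by simp [ha.2, hb.2]⟩
  add_mem' := fun ha hb => ⟨by simp [ha.1, hb.1], by simp [ha.2, hb.2]⟩
  algebraMap_mem' := fun c => ⟨Derivation.map_algebraMap _ c, Derivation.map_algebraMap _ c⟩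

omit [Fintype τ] in
theorem mem_sl2Inv {p : MvPolynomial τ k} :
    p ∈ sl2Inv gE gF ↔ mkDerivation k gE p = 0 ∧ mkDerivation k gF p = 0 := Iff.rfl

variable [CharZero k] [IsAlgClosed k]
  (hgE : ∀ i, (gE i).IsHomogeneous 1) (hgH : ∀ i, (gH i).IsHomogeneous 1) (hgF : ∀ i, (gF i).IsHomogeneous 1)
  (T : IsTri (A := Module.End k (MvPolynomial τ k)) (mkDerivation k gE).toLinearMap (mkDerivation k gH).toLinearMap
    (mkDerivation k gF).toLinearMap)
include hgE hgH hgF T

theorem isCompl_component (d : ℕ) :
    ∃ (hE : ∀ p ∈ homogeneousSubmodule τ k d, mkDerivation k gE p ∈ homogeneousSubmodule τ k d)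
      (hF : ∀ p ∈ homogeneousSubmodule τ k d, mkDerivation k gF p ∈ homogeneousSubmodule τ k d),
      IsCompl (LinearMap.ker ((mkDerivation k gE).toLinearMap.restrict hE) ⊓
          LinearMap.ker ((mkDerivation k gF).toLinearMap.restrict hF))
        (LinearMap.range ((mkDerivation k gE).toLinearMap.restrict hE) ⊔
          LinearMap.range ((mkDerivation k gF).toLinearMap.restrict hF)) := by
  have := finite_homogeneousSubmodule (k := k) (τ := τ) d
  refine ⟨fun p hp => mkDerivation_isHomogeneous gE hgE hp, fun p hp => mkDerivation_isHomogeneous gF hgF hp, ?_⟩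
  have hH : ∀ p ∈ homogeneousSubmodule τ k d, mkDerivation k gH p ∈ homogeneousSubmodule τ k d := fun p hp =>
    mkDerivation_isHomogeneous gH hgH hp
  refine isCompl_invariants (H := (mkDerivation k gH).toLinearMap.restrict hH) ?_
  refine ⟨?_, ?_, ?_⟩ <;> refine LinearMap.ext fun w => Subtype.ext ?_
  · exact LinearMap.congr_fun T.ef (w : MvPolynomial τ k)
  · have := LinearMap.congr_fun T.he (w : MvPolynomial τ k)
    rw [two_mul] at this ⊢
    exact this
  · have := LinearMap.congr_fun T.hf (w : MvPolynomial τ k)
    rw [two_mul] at this ⊢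
    exact this

theorem eq_zero_of_inv_of_range {p : MvPolynomial τ k} (hp : p ∈ sl2Inv gE gF)
    (h : ∃ a b, p = mkDerivation k gE a + mkDerivation k gF b) : p = 0 := by
  classical
  obtain ⟨a, b, hab⟩ := h
  have hcomm : ∀ (g : τ → MvPolynomial τ k), (∀ i, (g i).IsHomogeneous 1) → ∀ (q : MvPolynomial τ k) d,
      homogeneousComponent d (mkDerivation k g q) = mkDerivation k g (homogeneousComponent d q) := by
    intro g hg q d
    conv_lhs => rw [← sum_homogeneousComponent q, map_sum, map_sum]
    simp_rw [homogeneousComponent_of_mem (mkDerivation_isHomogeneous g hg (homogeneousComponent_isHomogeneous _ q))]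
    rw [Finset.sum_ite_eq]
    split_ifs with h
    · rfl
    · rw [homogeneousComponent_eq_zero _ q (by simp only [Finset.mem_range, not_lt] at h; omega), map_zero]
  rw [← sum_homogeneousComponent p]
  refine Finset.sum_eq_zero fun d _ => ?_
  obtain ⟨hE, hF, hc⟩ := isCompl_component gE gH gF hgE hgH hgF T d
  let w : homogeneousSubmodule τ k d := ⟨_, homogeneousComponent_mem d p⟩
  let wa : homogeneousSubmodule τ k d := ⟨_, homogeneousComponent_mem d a⟩
  let wb : homogeneousSubmodule τ k d := ⟨_, homogeneousComponent_mem d b⟩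
  have : w = 0 := (Submodule.mem_bot k).1 (hc.disjoint.le_bot (x := w) ⟨⟨?_, ?_⟩, ?_⟩)
  · exact congrArg Subtype.val this
  · refine Subtype.ext ?_
    show mkDerivation k gE (homogeneousComponent d p) = 0
    rw [← hcomm gE hgE, hp.1, map_zero]
  · refine Subtype.ext ?_
    show mkDerivation k gF (homogeneousComponent d p) = 0
    rw [← hcomm gF hgF, hp.2, map_zero]
  · refine Submodule.mem_sup.2 ⟨_, ⟨wa, rfl⟩, _, ⟨wb, rfl⟩, Subtype.ext ?_⟩
    show mkDerivation k gE (homogeneousComponent d a) + mkDerivation k gF (homogeneousComponent d b) =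
      homogeneousComponent d p
    rw [← hcomm gE hgE, ← hcomm gF hgF, ← map_add, ← hab]

theorem exists_decomp {d : ℕ} {a : MvPolynomial τ k} (ha : a.IsHomogeneous d) :
    ∃ r, r.IsHomogeneous d ∧ r ∈ sl2Inv gE gF ∧ ∃ x y, a = r + (mkDerivation k gE x + mkDerivation k gF y) := by
  obtain ⟨hE, hF, hc⟩ := isCompl_component gE gH gF hgE hgH hgF T d
  have : (⟨a, ha⟩ : homogeneousSubmodule τ k d) ∈ _ ⊔ _ := hc.sup_eq_top ▸ Submodule.mem_top
  obtain ⟨r, hr, t, ht, hrt⟩ := Submodule.mem_sup.1 this
  obtain ⟨_, ⟨x, rfl⟩, _, ⟨y, rfl⟩, rfl⟩ := Submodule.mem_sup.1 ht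
  exact ⟨r.1, r.2, ⟨congrArg Subtype.val hr.1, congrArg Subtype.val hr.2⟩, x.1, y.1,
    (congrArg Subtype.val hrt).symm⟩

/-- Hilbert's finiteness argument. -/
theorem sl2Inv_fg : (sl2Inv gE gF).FG := by
  classical
  let R := sl2Inv gE gF
  let Gs : Set (MvPolynomial τ k) := {p | p ∈ R ∧ ∃ d, 0 < d ∧ p.IsHomogeneous d}
  have hI : (Ideal.span Gs).FG := IsNoetherian.noetherian _
  obtain ⟨s, hs, hspan⟩ := (Submodule.fg_span_iff_fg_span_finset_subset Gs).1 hI
  refine ⟨s, le_antisymm (Algebra.adjoin_le fun p hp => (hs hp).1) ?_⟩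
  have hcomp : ∀ p ∈ R, ∀ d, homogeneousComponent d p ∈ R := by
    intro p hp d
    have key : ∀ (g : τ → MvPolynomial τ k), (∀ i, (g i).IsHomogeneous 1) → mkDerivation k g p = 0 →
        mkDerivation k g (homogeneousComponent d p) = 0 := by
      intro g hg h0
      rcases le_or_gt d p.totalDegree with hd | hd
      · have := congrArg (homogeneousComponent d) h0
        rw [← sum_homogeneousComponent p, map_sum, map_sum, map_zero,
          Finset.sum_eq_single d
            (fun j _ hj => by
              rw [homogeneousComponent_of_mem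
                (mkDerivation_isHomogeneous g hg (homogeneousComponent_isHomogeneous j p)), if_neg (Ne.symm hj)])
            (fun hn => absurd (Finset.mem_range.2 (Nat.lt_succ_of_le hd)) hn)] at this
        rwa [homogeneousComponent_of_mem (mkDerivation_isHomogeneous g hg (homogeneousComponent_isHomogeneous d p)),
          if_pos rfl] at this
      · rw [homogeneousComponent_eq_zero _ p hd, map_zero]
    exact ⟨key gE hgE hp.1, key gF hgF hp.2⟩
  have main : ∀ d, ∀ p ∈ R, p.IsHomogeneous d → p ∈ Algebra.adjoin k (s : Set (MvPolynomial τ k)) := by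
    intro d
    induction d using Nat.strong_induction_on with
    | _ d ih =>
      intro p hp hpd
      rcases Nat.eq_zero_or_pos d with rfl | hd
      · rw [totalDegree_eq_zero_iff_eq_C.1 (Nat.le_zero.1 hpd.totalDegree_le)]
        exact Subalgebra.algebraMap_mem _ _
      have hmem : p ∈ Submodule.span (MvPolynomial τ k) (s : Set (MvPolynomial τ k)) :=
        hspan ▸ Submodule.subset_span ⟨hp, d, hd, hpd⟩
      obtain ⟨a, ha⟩ := Submodule.mem_span_finset'.1 hmem
      choose e he0 he using fun q : s => (hs q.2).2
      have hsum : p = ∑ q : s, homogeneousComponent d (a q * (q : MvPolynomial τ k)) := by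
        have := congrArg (homogeneousComponent d) ha
        rw [homogeneousComponent_of_mem hpd, if_pos rfl, map_sum] at this
        exact this.symm
      have hdec : ∀ q : s, ∃ r ∈ Algebra.adjoin k (s : Set (MvPolynomial τ k)), ∃ x y,
          homogeneousComponent d (a q * (q : MvPolynomial τ k)) = r + (mkDerivation k gE x + mkDerivation k gF y) := by
        intro q
        rw [homogeneousComponent_mul_right (he q)]
        split_ifs with h
        · obtain ⟨r, hrd, hr, x, y, hxy⟩ := exists_decomp gE gH gF hgE hgH hgF T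
            (homogeneousComponent_isHomogeneous (d - e q) (a q))
          refine ⟨r * q.1, Subalgebra.mul_mem _ (ih _ (by have := he0 q; omega) r hr hrd) (Algebra.subset_adjoin q.2),
            x * q.1, y * q.1, ?_⟩
          rw [hxy, Derivation.leibniz, Derivation.leibniz, (hs q.2).1.1, (hs q.2).1.2]
          simp only [smul_eq_mul, mul_zero, zero_add]
          ring
        · exact ⟨0, Subalgebra.zero_mem _, 0, 0, by simp⟩
      choose r hr x y hxy using hdec
      have hadj : ∑ q : s, r q ∈ Algebra.adjoin k (s : Set (MvPolynomial τ k)) :=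
        Subalgebra.sum_mem _ fun q _ => hr q
      suffices p - ∑ q : s, r q = 0 by rw [sub_eq_zero.1 this]; exact hadj
      refine eq_zero_of_inv_of_range gE gH gF hgE hgH hgF T
        (Subalgebra.sub_mem _ hp (Algebra.adjoin_le (fun q hq => (hs hq).1) hadj)) ⟨∑ q, x q, ∑ q, y q, ?_⟩
      rw [hsum, ← Finset.sum_sub_distrib, map_sum, map_sum, ← Finset.sum_add_distrib]
      exact Finset.sum_congr rfl fun q _ => by rw [hxy q]; ring
  intro p hp
  rw [← sum_homogeneousComponent p]
  exact Subalgebra.sum_mem _ fun d _ => main d _ (hcomp p hp d) (homogeneousComponent_isHomogeneous d p)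

end Invariants

section Kernel

variable {n : ℕ}

/-- The linear form with coefficients `v`. -/
def lin : (Fin n → k) →ₗ[k] MvPolynomial (Fin n) k :=
  ∑ i, (LinearMap.proj i).smulRight (X i : MvPolynomial (Fin n) k)

theorem lin_apply (v : Fin n → k) : lin v = ∑ i, v i • (X i : MvPolynomial (Fin n) k) := by
  simp [lin]

theorem lin_single (j : Fin n) : lin (Pi.single j (1 : k)) = X j := by
  rw [lin_apply, Finset.sum_eq_single j] <;> simp +contextual

theorem lin_isHomogeneous (v : Fin n → k) : (lin v).IsHomogeneous 1 := by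
  rw [lin_apply]
  refine IsHomogeneous.sum _ _ _ fun i _ => ?_
  rw [smul_eq_C_mul]
  simpa using (isHomogeneous_C (Fin n) (v i)).mul (isHomogeneous_X k i)

/-- The derivation of a linear map. -/
def der (A : Module.End k (Fin n → k)) : Derivation k (MvPolynomial (Fin n) k) (MvPolynomial (Fin n) k) :=
  mkDerivation k fun j => lin (A (Pi.single j 1))

theorem der_lin (A : Module.End k (Fin n → k)) (v : Fin n → k) : der A (lin v) = lin (A v) := by
  have : (der A).toLinearMap ∘ₗ lin = lin ∘ₗ A := by
    refine LinearMap.pi_ext' fun j => LinearMap.ext_ring ?_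
    show der A (lin (Pi.single j 1)) = lin (A (Pi.single j 1))
    rw [lin_single, der, mkDerivation_X]
  exact LinearMap.congr_fun this v

/-- The coefficients of the derivation extended to `k[V ⊕ k²]`. -/
def extImg (A : Module.End k (Fin n → k)) (g : Fin 2 → MvPolynomial (Fin n ⊕ Fin 2) k) :
    Fin n ⊕ Fin 2 → MvPolynomial (Fin n ⊕ Fin 2) k :=
  Sum.elim (fun j => rename Sum.inl (lin (A (Pi.single j 1)))) g

theorem ext_rename (A : Module.End k (Fin n → k)) (g : Fin 2 → MvPolynomial (Fin n ⊕ Fin 2) k)
    (p : MvPolynomial (Fin n) k) :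
    mkDerivation k (extImg A g) (rename Sum.inl p) = rename Sum.inl (der A p) := by
  induction p using MvPolynomial.induction_on with
  | C c => simp [derivation_C]
  | add p q hp hq => simp only [map_add, hp, hq]
  | mul_X p i hp =>
    simp only [map_mul, rename_X, Derivation.leibniz, hp, der, mkDerivation_X, map_add, smul_eq_mul]
    simp [extImg]

/-- Images of `x, y` under `E`, `H`, `F`. -/
def gxE (k : Type u) [Field k] (n : ℕ) : Fin 2 → MvPolynomial (Fin n ⊕ Fin 2) k := ![0, X (Sum.inr 0)]
/-- See `gxE`. -/
def gxH (k : Type u) [Field k] (n : ℕ) : Fin 2 → MvPolynomial (Fin n ⊕ Fin 2) k :=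
  ![X (Sum.inr 0), -X (Sum.inr 1)]
/-- See `gxE`. -/
def gxF (k : Type u) [Field k] (n : ℕ) : Fin 2 → MvPolynomial (Fin n ⊕ Fin 2) k := ![X (Sum.inr 1), 0]

theorem der_add (A B : Module.End k (Fin n → k)) : der (A + B) = der A + der B :=
  derivation_ext fun j => by simp [der]

theorem der_neg (A : Module.End k (Fin n → k)) : der (-A) = -der A :=
  derivation_ext fun j => by simp [der]

theorem der_comm (A B : Module.End k (Fin n → k)) (p : MvPolynomial (Fin n) k) :
    der A (der B p) - der B (der A p) = der (A * B - B * A) p := by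
  have : ⁅der A, der B⁆ = der (A * B - B * A) := derivation_ext fun j => by
    have hX : ∀ C, der C (X j) = lin (C (Pi.single j (1 : k))) := fun C => mkDerivation_X _ _ _
    rw [Derivation.commutator_apply, hX, hX, der_lin, der_lin, hX, ← map_sub]
    rfl
  rw [← this, Derivation.commutator_apply]

theorem der_tri {e h f : Module.End k (Fin n → k)} (T : IsTri e h f) :
    IsTri (A := Module.End k (MvPolynomial (Fin n) k)) (der e).toLinearMap (der h).toLinearMap (der f).toLinearMap := by
  refine ⟨LinearMap.ext fun p => ?_, LinearMap.ext fun p => ?_, LinearMap.ext fun p => ?_⟩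
  · show der e (der f p) - der f (der e p) = der h p
    rw [der_comm, T.ef]
  · rw [two_mul]
    show der h (der e p) - der e (der h p) = der e p + der e p
    rw [der_comm, T.he, two_mul, der_add]
    rfl
  · rw [two_mul]
    show der h (der f p) - der f (der h p) = -(der f p + der f p)
    rw [der_comm, T.hf, two_mul, der_neg, der_add]
    rfl

theorem ext_tri {e h f : Module.End k (Fin n → k)} (T : IsTri e h f) :
    IsTri (A := Module.End k (MvPolynomial (Fin n ⊕ Fin 2) k)) (mkDerivation k (extImg e (gxE k n))).toLinearMap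
      (mkDerivation k (extImg h (gxH k n))).toLinearMap (mkDerivation k (extImg f (gxF k n))).toLinearMap := by
  let DE := mkDerivation k (extImg e (gxE k n))
  let DH := mkDerivation k (extImg h (gxH k n))
  let DF := mkDerivation k (extImg f (gxF k n))
  have hD : ∀ (A : Module.End k (Fin n → k)) g j,
      mkDerivation k (extImg A g) (X (Sum.inl j)) = rename Sum.inl (der A (X j)) := by
    intro A g j
    rw [← ext_rename A g, rename_X]
  have D := der_tri T
  have h1 : ⁅DE, DF⁆ = DH := derivation_ext fun j => by
    rcases j with j | j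
    · simp only [DE, DH, DF, Derivation.commutator_apply, hD, ext_rename]
      rw [← map_sub]
      exact congrArg _ (LinearMap.congr_fun D.ef (X j))
    · fin_cases j <;> simp [DE, DH, DF, Derivation.commutator_apply, extImg, gxE, gxH, gxF]
  have h2 : ⁅DH, DE⁆ = DE + DE := derivation_ext fun j => by
    rcases j with j | j
    · simp only [DE, DH, Derivation.commutator_apply, hD, ext_rename, Derivation.add_apply]
      rw [← map_sub, ← map_add]
      refine congrArg _ ?_
      have := LinearMap.congr_fun D.he (X j)
      rw [two_mul] at this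
      exact this
    · fin_cases j <;> simp [DE, DH, Derivation.commutator_apply, extImg, gxE, gxH]
  have h3 : ⁅DH, DF⁆ = -(DF + DF) := derivation_ext fun j => by
    rcases j with j | j
    · simp only [DF, DH, Derivation.commutator_apply, hD, ext_rename, Derivation.add_apply, Derivation.neg_apply]
      rw [← map_sub, ← map_add, ← map_neg]
      refine congrArg _ ?_
      have := LinearMap.congr_fun D.hf (X j)
      rw [two_mul] at this
      exact this
    · fin_cases j <;> simp [DF, DH, Derivation.commutator_apply, extImg, gxF, gxH, sub_eq_add_neg]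
  refine ⟨LinearMap.ext fun p => ?_, LinearMap.ext fun p => ?_, LinearMap.ext fun p => ?_⟩
  · show DE (DF p) - DF (DE p) = DH p
    rw [← h1, Derivation.commutator_apply]
  · rw [two_mul]
    show DH (DE p) - DE (DH p) = DE p + DE p
    rw [← Derivation.commutator_apply, h2]
    rfl
  · rw [two_mul]
    show DH (DF p) - DF (DH p) = -(DF p + DF p)
    rw [← Derivation.commutator_apply, h3]
    rfl

theorem extImg_isHomogeneous (A : Module.End k (Fin n → k)) {g : Fin 2 → MvPolynomial (Fin n ⊕ Fin 2) k}
    (hg : ∀ i, (g i).IsHomogeneous 1) : ∀ i, (extImg A g i).IsHomogeneous 1 := by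
  rintro (j | j)
  · exact (lin_isHomogeneous _).rename_isHomogeneous
  · exact hg j

/-- Restriction to the fixed point `(x, y) = (0, 1)`. -/
def atPoint (k : Type u) [Field k] (n : ℕ) : MvPolynomial (Fin n ⊕ Fin 2) k →ₐ[k] MvPolynomial (Fin n) k :=
  aeval (Sum.elim X ![0, 1])

theorem atPoint_rename (p : MvPolynomial (Fin n) k) : atPoint k n (rename Sum.inl p) = p := by
  rw [atPoint, aeval_rename, Sum.elim_comp_inl, aeval_X_left_apply]

theorem atPoint_ext_E (e : Module.End k (Fin n → k)) (p : MvPolynomial (Fin n ⊕ Fin 2) k) :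
    atPoint k n (mkDerivation k (extImg e (gxE k n)) p) = der e (atPoint k n p) := by
  induction p using MvPolynomial.induction_on with
  | C c => simp [atPoint, derivation_C]
  | add p q hp hq => simp only [map_add, hp, hq]
  | mul_X p i hp =>
    have hx : atPoint k n (extImg e (gxE k n) i) = der e (atPoint k n (X i)) := by
      rcases i with j | j
      · rw [show (extImg e (gxE k n) (Sum.inl j)) = rename Sum.inl (lin (e (Pi.single j 1))) from rfl, atPoint_rename]
        simp [atPoint, der]
      · fin_cases j <;> simp [atPoint, extImg, gxE]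
    simp only [map_mul, map_add, Derivation.leibniz, smul_eq_mul, mkDerivation_X, hp, hx]

variable [CharZero k]

/-- A primitive vector is the restriction of an invariant. -/
theorem exists_inv_of_primitive {e h f : Module.End k (Fin n → k)} (T : IsTri e h f) {v : MvPolynomial (Fin n) k}
    {μ : k} (hv : der h v = μ • v) (he : der e v = 0) :
    ∃ P ∈ sl2Inv (extImg e (gxE k n)) (extImg f (gxF k n)), atPoint k n P = v := by
  classical
  rcases eq_or_ne v 0 with rfl | h0
  · exact ⟨0, Subalgebra.zero_mem _, map_zero _⟩
  let D := der_tri T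
  let W : Submodule k (MvPolynomial (Fin n) k) :=
    ⨆ d : Fin (v.totalDegree + 1), homogeneousSubmodule (Fin n) k d
  have : FiniteDimensional k W := by
    have : ∀ d : Fin (v.totalDegree + 1), FiniteDimensional k (homogeneousSubmodule (Fin n) k (d : ℕ)) :=
      fun d => finite_homogeneousSubmodule _
    exact Submodule.finiteDimensional_iSup _
  have hW : ∀ j : ℕ, ((der f).toLinearMap ^ j) v ∈ W := by
    intro j
    induction j with
    | zero =>
      simp only [pow_zero, Module.End.one_apply]
      rw [← sum_homogeneousComponent v]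
      exact Submodule.sum_mem _ fun d hd => Submodule.mem_iSup_of_mem (⟨d, Finset.mem_range.1 hd⟩ : Fin _)
        (homogeneousComponent_mem d v)
    | succ j ih =>
      rw [pow_succ', Module.End.mul_apply]
      refine (show W ≤ W.comap (der f).toLinearMap from iSup_le fun d p hp => Submodule.mem_iSup_of_mem d ?_) ih
      exact mkDerivation_isHomogeneous _ (fun i => lin_isHomogeneous _) hp
  obtain ⟨m, rfl, hm⟩ := exists_nat_of_primitive D hv he h0 W hW
  let w : ℕ → MvPolynomial (Fin n ⊕ Fin 2) k := fun j => rename Sum.inl (((der f).toLinearMap ^ j) v)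
  let c : ℕ → k := fun j => (-1) ^ j / (j.factorial : k)
  let x : MvPolynomial (Fin n ⊕ Fin 2) k := X (Sum.inr 0)
  let y : MvPolynomial (Fin n ⊕ Fin 2) k := X (Sum.inr 1)
  have hc : ∀ j, c (j + 1) * (j + 1 : k) = -c j := by
    intro j
    have h1 : (j.factorial : k) ≠ 0 := Nat.cast_ne_zero.2 j.factorial_ne_zero
    have h2 : ((j + 1 : ℕ) : k) ≠ 0 := Nat.cast_ne_zero.2 j.succ_ne_zero
    push_cast at h2
    simp only [c, Nat.factorial_succ, pow_succ]
    push_cast
    field_simp
  let P := ∑ j ∈ Finset.range (m + 1), c j • (w j * (x ^ j * y ^ (m - j)))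
  refine ⟨P, ⟨?_, ?_⟩, ?_⟩
  · -- `E P = 0`
    have hEw : ∀ j, mkDerivation k (extImg e (gxE k n)) (w (j + 1)) = (((j : k) + 1) * ((m : k) - j)) • w j := fun j => by
      rw [ext_rename]
      show rename Sum.inl ((der e).toLinearMap _) = _
      rw [E_pow_F D hv he, map_smul]
    have hEx : mkDerivation k (extImg e (gxE k n)) x = 0 := by simp [x, extImg, gxE]
    have hEy : mkDerivation k (extImg e (gxE k n)) y = x := by simp [x, y, extImg, gxE]
    have hterm : ∀ j, mkDerivation k (extImg e (gxE k n)) (w j * (x ^ j * y ^ (m - j))) =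
        mkDerivation k (extImg e (gxE k n)) (w j) * (x ^ j * y ^ (m - j)) +
          ((m - j : ℕ) : k) • (w j * (x ^ (j + 1) * y ^ (m - j - 1))) := fun j => by
      simp only [Derivation.leibniz, Derivation.leibniz_pow, hEx, hEy, smul_eq_mul, nsmul_eq_mul, mul_zero,
        Algebra.smul_def, map_natCast, eq_natCast]
      ring
    simp only [P, map_sum, Derivation.map_smul, hterm, smul_add, Finset.sum_add_distrib]
    rw [Finset.sum_range_succ', Finset.sum_range_succ]
    have hEw0 : mkDerivation k (extImg e (gxE k n)) (w 0) = 0 := by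
      rw [ext_rename]; simp [he]
    simp only [hEw0, zero_mul, smul_zero, add_zero, Nat.sub_self, Nat.cast_zero, zero_smul, ← Finset.sum_add_distrib]
    refine Finset.sum_eq_zero fun j hj => ?_
    rw [Finset.mem_range] at hj
    rw [hEw, smul_mul_assoc, smul_smul, smul_smul, Nat.sub_add_eq]
    have : c (j + 1) * (((j : k) + 1) * ((m : k) - j)) + c j * ((m - j : ℕ) : k) = 0 := by
      rw [Nat.cast_sub hj.le]
      linear_combination ((m : k) - j) * hc j
    rw [← add_smul, this, zero_smul]
  · -- `F P = 0`
    have hFw : ∀ j, mkDerivation k (extImg f (gxF k n)) (w j) = w (j + 1) := fun j => by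
      rw [ext_rename]
      simp only [w, pow_succ', Module.End.mul_apply]
      rfl
    have hFx : mkDerivation k (extImg f (gxF k n)) x = y := by simp [x, y, extImg, gxF]
    have hFy : mkDerivation k (extImg f (gxF k n)) y = 0 := by simp [y, extImg, gxF]
    have hterm : ∀ j, mkDerivation k (extImg f (gxF k n)) (w j * (x ^ j * y ^ (m - j))) =
        w (j + 1) * (x ^ j * y ^ (m - j)) + (j : k) • (w j * (x ^ (j - 1) * y ^ (m - j + 1))) := fun j => by
      simp only [Derivation.leibniz, Derivation.leibniz_pow, hFx, hFy, hFw, smul_eq_mul, nsmul_eq_mul, mul_zero,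
        Algebra.smul_def, map_natCast, eq_natCast]
      ring
    simp only [P, map_sum, Derivation.map_smul, hterm, smul_add, Finset.sum_add_distrib]
    rw [Finset.sum_range_succ, Finset.sum_range_succ' (fun j => c j • (j : k) • _)]
    have hwm : w (m + 1) = 0 := by simp only [w, hm, map_zero]
    simp only [hwm, zero_mul, smul_zero, add_zero, Nat.cast_zero, zero_smul, ← Finset.sum_add_distrib]
    refine Finset.sum_eq_zero fun j hj => ?_
    rw [Finset.mem_range] at hj
    rw [smul_smul, Nat.add_sub_cancel, Nat.cast_add, Nat.cast_one, hc, show m - (j + 1) + 1 = m - j by omega,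
      neg_smul, add_neg_cancel]
  · simp only [P, map_sum, map_smul, map_mul, map_pow, w, atPoint_rename]
    rw [Finset.sum_eq_single 0]
    · simp [c, x, y, atPoint]
    · intro j _ hj
      simp [x, atPoint, zero_pow hj]
    · simp

variable [IsAlgClosed k]

/-- **Weitzenböck's theorem.** -/
theorem fg_ker_der (e : Module.End k (Fin n → k)) (he : IsNilpotent e) :
    ∃ S : Subalgebra k (MvPolynomial (Fin n) k), S.FG ∧ ∀ p, p ∈ S ↔ der e p = 0 := by
  classical
  obtain ⟨h, f, T, htop⟩ := exists_tri_of_nilpotent e he
  have hfg : (sl2Inv (extImg e (gxE k n)) (extImg f (gxF k n))).FG := by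
    refine sl2Inv_fg _ (extImg h (gxH k n)) _ (extImg_isHomogeneous _ ?_) (extImg_isHomogeneous _ ?_)
      (extImg_isHomogeneous _ ?_) (ext_tri T) <;>
      intro i <;> fin_cases i <;> simp [gxE, gxH, gxF, isHomogeneous_X, isHomogeneous_zero, IsHomogeneous.neg]
  refine ⟨_, hfg.map (atPoint k n), fun p => ⟨?_, fun hp => ?_⟩⟩
  · rintro ⟨P, hP, rfl⟩
    show der e (atPoint k n P) = 0
    rw [← atPoint_ext_E, hP.1, map_zero]
  let D := der_tri T
  have hmul : ∀ (a b : MvPolynomial (Fin n) k), a ∈ ⨆ μ : k, Module.End.eigenspace (der h).toLinearMap μ →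
      b ∈ ⨆ μ : k, Module.End.eigenspace (der h).toLinearMap μ →
      a * b ∈ ⨆ μ : k, Module.End.eigenspace (der h).toLinearMap μ := by
    intro a b ha hb
    induction ha using Submodule.iSup_induction' with
    | mem μ a ha =>
      induction hb using Submodule.iSup_induction' with
      | mem ν b hb =>
        rw [Module.End.mem_eigenspace_iff] at ha hb
        refine Submodule.mem_iSup_of_mem (ν + μ) (Module.End.mem_eigenspace_iff.2 ?_)
        show der h (a * b) = _
        change der h a = _ at ha
        change der h b = _ at hb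
        rw [Derivation.leibniz, ha, hb, smul_eq_mul, smul_eq_mul, mul_smul_comm, mul_smul_comm, mul_comm b a,
          ← add_smul]
      | zero => rw [mul_zero]; exact Submodule.zero_mem _
      | add x y _ _ hx hy => rw [mul_add]; exact Submodule.add_mem _ hx hy
    | zero => rw [zero_mul]; exact Submodule.zero_mem _
    | add x y _ _ hx hy => rw [add_mul]; exact Submodule.add_mem _ hx hy
  have hall : ∀ q : MvPolynomial (Fin n) k, q ∈ ⨆ μ : k, Module.End.eigenspace (der h).toLinearMap μ := by
    intro q
    induction q using MvPolynomial.induction_on with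
    | C c => exact Submodule.mem_iSup_of_mem 0 (Module.End.mem_eigenspace_iff.2 (by simp [derivation_C]))
    | add p q hp hq => exact Submodule.add_mem _ hp hq
    | mul_X q i hq =>
      refine hmul _ _ hq ?_
      rw [← lin_single i]
      have hle : (⨆ μ : k, h.eigenspace μ) ≤ (⨆ μ : k, Module.End.eigenspace (der h).toLinearMap μ).comap lin := by
        refine iSup_le fun μ v hv => Submodule.mem_iSup_of_mem μ (Module.End.mem_eigenspace_iff.2 ?_)
        rw [Module.End.mem_eigenspace_iff] at hv
        show der h (lin v) = _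
        rw [der_lin, hv, map_smul]
      exact hle (htop ▸ Submodule.mem_top : Pi.single i (1 : k) ∈ ⨆ μ : k, h.eigenspace μ)
  obtain ⟨c, hc, hsum⟩ := (Submodule.mem_iSup_iff_exists_finsupp _ _).1 (hall p)
  rw [← hsum]
  refine Subalgebra.sum_mem _ fun μ hμ => ?_
  have hz : ∀ ν, (der h) (c ν) = ν • c ν := fun ν => Module.End.mem_eigenspace_iff.1 (hc ν)
  have hEc : ∀ ν, der e (c ν) ∈ Module.End.eigenspace (der h).toLinearMap (ν + 2) := fun ν => by
    refine Module.End.mem_eigenspace_iff.2 ?_
    show (der h).toLinearMap ((der e).toLinearMap (c ν)) = _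
    rw [tri_he_apply D, show (der h).toLinearMap (c ν) = ν • c ν from hz ν, map_smul, ← add_smul]
    rfl
  have he0 : der e (c μ) = 0 := by
    refine (Submodule.mem_bot k).1 (((Module.End.eigenspaces_iSupIndep (der h).toLinearMap) (μ + 2)).le_bot
      ⟨hEc μ, ?_⟩)
    have hs : der e (c μ) = -∑ ν ∈ c.support.erase μ, der e (c ν) := by
      rw [eq_neg_iff_add_eq_zero, Finset.add_sum_erase _ (fun ν => der e (c ν)) hμ, ← map_sum]
      exact (congrArg (der e) hsum).trans hp
    rw [hs]
    refine Submodule.neg_mem _ (Submodule.sum_mem _ fun ν hν => ?_)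
    exact Submodule.mem_iSup_of_mem (ν + 2)
      (Submodule.mem_iSup_of_mem (by simpa using (Finset.ne_of_mem_erase hν)) (hEc ν))
  obtain ⟨P, hP, hPv⟩ := exists_inv_of_primitive T (hz μ) he0
  exact ⟨P, hP, hPv⟩

end Kernel

end Groth.Agf
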