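import Groth.Agent.Calg2.CompleteStructure
import Groth.Agent.Purity.GaloisCover
import Mathlib

/-!
# Invariants of a finite group on a complete Noetherian local ring

`A` complete Noetherian local, `k` a field inside mapping onto the residue field, `G` finite fixing `k`:
the invariants are local Noetherian complete and `A` is finite over them.
-/

set_option autoImplicit false
universe u v w

open IsLocalRing MvPowerSeries Groth.SGA7.PS
open scoped Pointwise

namespace Groth.Agf.WildFinite

variable {A : Type u} [CommRing A] {G : Type w} [Group G] [MulSemiringAction G A]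

theorem isUnit_of_isUnit_coe {b : FixedPoints.subring A G} (h : IsUnit (b : A)) : IsUnit b := by
  obtain ⟨c, hc⟩ := h.exists_right_inv
  refine IsUnit.of_mul_eq_one ⟨c, fun σ => ?_⟩ (Subtype.ext hc)
  apply h.mul_left_cancel
  rw [hc]
  conv_lhs => rw [show (b : A) = σ • (b : A) from (b.2 σ).symm, ← smul_mul', hc, smul_one]

variable [IsLocalRing A]

theorem isLocalRing : IsLocalRing (FixedPoints.subring A G) :=
  haveI : IsLocalHom (FixedPoints.subring A G).subtype := ⟨fun _ h => isUnit_of_isUnit_coe h⟩
  RingHom.domain_isLocalRing (FixedPoints.subring A G).subtype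

theorem maximalIdeal_eq : letI := isLocalRing (A := A) (G := G)
    maximalIdeal (FixedPoints.subring A G) =
      Ideal.comap (FixedPoints.subring A G).subtype (maximalIdeal A) := by
  letI := isLocalRing (A := A) (G := G)
  ext b
  exact ⟨fun h hu => h (isUnit_of_isUnit_coe hu), fun h hu => h (hu.map (FixedPoints.subring A G).subtype)⟩

theorem smul_mem_maximalIdeal {a : A} (h : a ∈ maximalIdeal A) (σ : G) : σ • a ∈ maximalIdeal A := fun hu =>
  h (by simpa using hu.map (MulSemiringAction.toRingHom G A σ⁻¹))

theorem map_maximalIdeal_le (σ : G) :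
    (maximalIdeal A).map (MulSemiringAction.toRingHom G A σ) ≤ maximalIdeal A :=
  Ideal.map_le_iff_le_comap.2 fun _ ha => smul_mem_maximalIdeal ha σ

/-- The invariant coefficients of the orbit polynomials of generators of the maximal ideal. -/
theorem exists_coeff [IsNoetherianRing A] [Finite G] :
    ∃ (n : ℕ) (c : Fin n → A), (∀ i, c i ∈ maximalIdeal A) ∧ (∀ i (σ : G), σ • c i = c i) ∧
      ∃ N, maximalIdeal A ^ N ≤ Ideal.span (Set.range c) := by
  classical
  haveI := Fintype.ofFinite G
  obtain ⟨s, hs⟩ := (IsNoetherian.noetherian (maximalIdeal A) : (maximalIdeal A).FG)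
  let F : A → Polynomial A := fun a => ∏ σ : G, (Polynomial.X - Polynomial.C (σ • a))
  let T : Finset A := s.biUnion fun a => (Finset.range (Fintype.card G)).image (F a).coeff
  have hmem : ∀ x ∈ T, x ∈ maximalIdeal A ∧ ∀ σ : G, σ • x = x := by
    intro x hx
    simp only [T, Finset.mem_biUnion, Finset.mem_image, Finset.mem_range] at hx
    obtain ⟨a, ha, j, hj, rfl⟩ := hx
    refine ⟨?_, fun τ => ?_⟩
    · have h1 : (F a).map (residue A) = Polynomial.X ^ Fintype.card G := by
        simp only [F, Polynomial.map_prod, Polynomial.map_sub, Polynomial.map_X, Polynomial.map_C]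
        rw [Finset.prod_congr rfl (g := fun _ => Polynomial.X) fun σ _ => ?_]
        · rw [Finset.prod_const, Finset.card_univ]
        · rw [residue_eq_zero_iff _ |>.2 (smul_mem_maximalIdeal (hs ▸ Submodule.subset_span ha) σ),
            map_zero, sub_zero]
      rw [← residue_eq_zero_iff, ← Polynomial.coeff_map, h1, Polynomial.coeff_X_pow, if_neg hj.ne]
    · have : (F a).map (MulSemiringAction.toRingHom G A τ) = F a := by
        simp only [F, Polynomial.map_prod, Polynomial.map_sub, Polynomial.map_X, Polynomial.map_C]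
        exact Fintype.prod_equiv (Equiv.mulLeft τ) _ _ fun σ => by
          rw [Equiv.coe_mulLeft, mul_smul]; rfl
      have := congrArg (fun P => P.coeff j) this
      rwa [Polynomial.coeff_map] at this
  let J : Ideal A := Ideal.span (Set.range fun i => (T.equivFin.symm i : A))
  have hTJ : ∀ x ∈ T, x ∈ J := fun x hx => Ideal.subset_span ⟨T.equivFin ⟨x, hx⟩, by simp⟩
  refine ⟨T.card, fun i => T.equivFin.symm i, fun i => (hmem _ (T.equivFin.symm i).2).1,
    fun i => (hmem _ (T.equivFin.symm i).2).2, ?_⟩
  refine Ideal.exists_pow_le_of_le_radical_of_fg ?_ (IsNoetherian.noetherian _)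
  rw [← hs, Submodule.span_le]
  intro a ha
  refine ⟨Fintype.card G, ?_⟩
  have hdeg : (F a).natDegree = Fintype.card G := by
    simp only [F]
    rw [Polynomial.natDegree_prod_of_monic _ _ fun σ _ => Polynomial.monic_X_sub_C _]
    simp
  have hmon : (F a).Monic := Polynomial.monic_prod_of_monic _ _ fun σ _ => Polynomial.monic_X_sub_C _
  have h0 : (F a).eval a = 0 := by
    simp only [F, Polynomial.eval_prod]
    exact Finset.prod_eq_zero (Finset.mem_univ (1 : G)) (by simp)
  rw [Polynomial.eval_eq_sum_range, hdeg, Finset.sum_range_succ,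
    show (F a).coeff (Fintype.card G) = 1 by rw [← hdeg]; exact hmon.coeff_natDegree, one_mul,
    add_eq_zero_iff_eq_neg] at h0
  rw [← neg_mem_iff, ← h0]
  exact Ideal.sum_mem _ fun j hj => J.mul_mem_right _
    (hTJ _ (Finset.mem_biUnion.2 ⟨a, ha, Finset.mem_image.2 ⟨j, hj, rfl⟩⟩))

variable [IsNoetherianRing A] [IsAdicComplete (maximalIdeal A) A] [Finite G]
  (k : Type v) [Field k] [Algebra k A]

include k in
theorem finite_noetherian (hk : Function.Surjective (residue A ∘ algebraMap k A))
    (hGk : ∀ (σ : G) (c : k), σ • algebraMap k A c = algebraMap k A c) :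
    Module.Finite (FixedPoints.subring A G) A ∧ IsNoetherianRing (FixedPoints.subring A G) := by
  classical
  obtain ⟨n, c, hc, hfix, N, hN⟩ := exists_coeff (A := A) (G := G)
  let Λ := (algebraMap k A).range
  let P := MvPowerSeries (Fin n) Λ
  haveI : IsNoetherianRing Λ := isNoetherianRing_range _
  haveI : IsNoetherianRing P := inferInstance
  let φ : P →+* A := (Calg6.evalAdic (k := Λ) (maximalIdeal A) c hc).toRingHom
  have hfixΛ : ∀ (σ : G) (l : Λ), σ • (l : A) = l := by
    rintro σ ⟨_, ⟨x, rfl⟩⟩
    exact hGk σ x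
  have hfixφ : ∀ (σ : G) (f : P), σ • φ f = φ f := by
    intro σ f
    refine sub_eq_zero.1 (IsHausdorff.haus' (I := maximalIdeal A) _ fun m => ?_)
    rw [SModEq.zero, smul_eq_mul, Ideal.mul_top]
    have h1 : φ f - MvPolynomial.aeval c (truncTotal m f) ∈ maximalIdeal A ^ m := by
      rw [← Ideal.Quotient.eq]
      show Ideal.Quotient.mk _ (Calg6.evalAdic (k := Λ) (maximalIdeal A) c hc f) = _
      rw [Calg6.evalAdic, IsAdicComplete.mk_liftAlgHom]
      rfl
    have h2 : σ • MvPolynomial.aeval c (truncTotal m f) = MvPolynomial.aeval c (truncTotal m f) := by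
      generalize truncTotal m f = q
      induction q using MvPolynomial.induction_on with
      | C l => rw [MvPolynomial.aeval_C]; exact hfixΛ σ l
      | add a b ha hb => rw [map_add, smul_add, ha, hb]
      | mul_X a i ha => rw [map_mul, smul_mul', ha, MvPolynomial.aeval_X, hfix]
    have h3 : σ • (φ f - MvPolynomial.aeval c (truncTotal m f)) ∈ maximalIdeal A ^ m := by
      have h := Ideal.mem_map_of_mem (MulSemiringAction.toRingHom G A σ) h1
      rw [Ideal.map_pow] at h
      exact Ideal.pow_right_mono (map_maximalIdeal_le σ) m h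
    rw [smul_sub, h2] at h3
    simpa using sub_mem h3 h1
  letI : Algebra P A := φ.toAlgebra
  haveI : IsAdicComplete (varIdeal (Fin n) Λ) P := Calg6.isAdicComplete_varIdeal
  have hmap : (varIdeal (Fin n) Λ).map (algebraMap P A) = Ideal.span (Set.range c) := by
    rw [varIdeal, Ideal.map_span, ← Set.range_comp]
    congr 1
    exact congrArg Set.range (funext (Calg6.evalAdic_X (k := Λ) (maximalIdeal A) c hc))
  haveI : IsHausdorff ((varIdeal (Fin n) Λ).map (algebraMap P A)) A := by
    refine IsHausdorff.of_isLocalRing (R := A) _ _ fun h => ?_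
    rw [hmap] at h
    exact (maximalIdeal.isMaximal A).ne_top
      (top_le_iff.1 (h.ge.trans (Ideal.span_le.2 (Set.range_subset_iff.2 hc))))
  haveI : IsScalarTower Λ P A := IsScalarTower.of_algebraMap_eq fun l =>
    ((Calg6.evalAdic (k := Λ) (maximalIdeal A) c hc).commutes l).symm
  haveI : Module.Finite P (A ⧸ (varIdeal (Fin n) Λ).map (algebraMap P A)) := by
    haveI : Module.Finite Λ (A ⧸ (varIdeal (Fin n) Λ).map (algebraMap P A)) :=
      Calg2.CompleteStructure.finite_quotient_of_pow_le (fun x => let ⟨y, hy⟩ := hk x; ⟨⟨_, y, rfl⟩, hy⟩)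
        _ N (hmap.symm ▸ hN)
    exact Module.Finite.of_restrictScalars_finite Λ P _
  haveI hfinP : Module.Finite P A :=
    Calg2.CompleteStructure.finite_of_finite_quotient (varIdeal (Fin n) Λ)
  let ψ : P →+* FixedPoints.subring A G := φ.codRestrict _ fun f σ => hfixφ σ f
  letI : Algebra P (FixedPoints.subring A G) := ψ.toAlgebra
  haveI : IsScalarTower P (FixedPoints.subring A G) A := IsScalarTower.of_algebraMap_eq fun _ => rfl
  refine ⟨Module.Finite.of_restrictScalars_finite P _ A, ?_⟩
  let ι : FixedPoints.subring A G →ₗ[P] A :=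
    { toFun := fun b => b, map_add' := fun _ _ => rfl, map_smul' := fun f b => rfl }
  haveI : Module.Finite P (FixedPoints.subring A G) := Module.Finite.of_injective ι Subtype.val_injective
  exact IsNoetherianRing.of_finite P _

include k in
theorem isAdicComplete (hk : Function.Surjective (residue A ∘ algebraMap k A))
    (hGk : ∀ (σ : G) (c : k), σ • algebraMap k A c = algebraMap k A c) :
    IsAdicComplete (Ideal.comap (FixedPoints.subring A G).subtype (maximalIdeal A))
      (FixedPoints.subring A G) := by
  classical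
  obtain ⟨hfin, hnoeth⟩ := finite_noetherian k hk hGk
  haveI := isLocalRing (A := A) (G := G)
  let B := FixedPoints.subring A G
  rw [← maximalIdeal_eq]
  obtain ⟨n, c, hc, hfix, N, hN⟩ := exists_coeff (A := A) (G := G)
  let I := maximalIdeal B
  have hI : I.map (algebraMap B A) ≤ maximalIdeal A := by
    rw [Ideal.map_le_iff_le_comap]
    exact maximalIdeal_eq.le
  have hcI : Ideal.span (Set.range c) ≤ I.map (algebraMap B A) := by
    refine Ideal.span_le.2 (Set.range_subset_iff.2 fun i => ?_)
    exact Ideal.mem_map_of_mem (algebraMap B A) (show (⟨c i, hfix i⟩ : B) ∈ I by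
      rw [show I = _ from maximalIdeal_eq]; exact hc i)
  let S : Submodule B A := LinearMap.range (Algebra.linearMap B A)
  obtain ⟨j, hj⟩ := I.exists_pow_inf_eq_pow_smul S
  -- Artin-Rees
  have hAR : ∀ m : ℕ, ∀ b : B, (b : A) ∈ maximalIdeal A ^ (N * (m + j)) → b ∈ I ^ m := by
    intro m b hb
    have h1 : (b : A) ∈ (I ^ (m + j)).map (algebraMap B A) := by
      rw [Ideal.map_pow]
      refine Ideal.pow_right_mono hcI _ (Ideal.pow_right_mono hN _ ?_)
      rwa [← pow_mul]
    have h2 : (b : A) ∈ I ^ (m + j) • (⊤ : Submodule B A) ⊓ S := by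
      refine ⟨?_, b, rfl⟩
      rw [Ideal.smul_top_eq_map]
      exact h1
    rw [hj (m + j) (Nat.le_add_left _ _), Nat.add_sub_cancel] at h2
    have h3 : I ^ m • (I ^ j • (⊤ : Submodule B A) ⊓ S) ≤ I ^ m • S :=
      Submodule.smul_mono le_rfl inf_le_right
    have h4 := h3 h2
    rw [show S = (⊤ : Submodule B B).map (Algebra.linearMap B A) from (Submodule.map_top _).symm,
      ← Submodule.map_smul''] at h4
    obtain ⟨b', hb', hbb'⟩ := h4
    rw [smul_eq_mul, Ideal.mul_top] at hb'
    rwa [← (Subtype.ext hbb' : b' = b)]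
  haveI : IsHausdorff I B := inferInstance
  haveI : IsPrecomplete I B := by
    refine ⟨fun f hf => ?_⟩
    have hf' : ∀ {m l}, m ≤ l → (f m : A) ≡ f l [SMOD (maximalIdeal A ^ m • ⊤ : Submodule A A)] := by
      intro m l hml
      have h := SModEq.sub_mem.1 (hf hml)
      rw [smul_eq_mul, Ideal.mul_top] at h
      rw [SModEq.sub_mem, smul_eq_mul, Ideal.mul_top]
      have h' := Ideal.mem_map_of_mem (algebraMap B A) h
      rw [Ideal.map_pow] at h'
      exact Ideal.pow_right_mono hI m h'
    obtain ⟨L, hL⟩ := IsPrecomplete.prec' (I := maximalIdeal A) (fun m => (f m : A)) hf'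
    have hLm : ∀ m, (f m : A) - L ∈ maximalIdeal A ^ m := fun m => by
      have := SModEq.sub_mem.1 (hL m); rwa [smul_eq_mul, Ideal.mul_top] at this
    have hLB : ∀ σ : G, σ • L = L := fun σ => by
      refine sub_eq_zero.1 (IsHausdorff.haus' (I := maximalIdeal A) _ fun m => ?_)
      rw [SModEq.zero, smul_eq_mul, Ideal.mul_top]
      have h := Ideal.mem_map_of_mem (MulSemiringAction.toRingHom G A σ) (hLm m)
      rw [Ideal.map_pow] at h
      have h' := Ideal.pow_right_mono (map_maximalIdeal_le σ) m h
      rw [MulSemiringAction.toRingHom_apply, smul_sub, (f m).2 σ] at h'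
      simpa using sub_mem (hLm m) h'
    refine ⟨⟨L, hLB⟩, fun m => ?_⟩
    rw [SModEq.sub_mem, smul_eq_mul, Ideal.mul_top]
    have hM : m ≤ max m (N * (m + j)) := le_max_left _ _
    have h1 : f m - f (max m (N * (m + j))) ∈ I ^ m := by
      have := SModEq.sub_mem.1 (hf hM); rwa [smul_eq_mul, Ideal.mul_top] at this
    have h2 : f (max m (N * (m + j))) - ⟨L, hLB⟩ ∈ I ^ m :=
      hAR m _ (Ideal.pow_le_pow_right (le_max_right _ _) (hLm _))
    simpa using add_mem h1 h2
  exact {}

end Groth.Agf.WildFinite
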