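import Groth.Agent.Agf.WildFinite
import Groth.Agent.Agf.CyclicPurity
import Groth.Agent.S15802
import Groth.Agent.Calg8.IntegralDimEq
import Groth.Agent.Ega4Algebra1.RegularDescent

/-!
# The invariants of a wild quotient singularity

`A` regular, `G` with trivial inertia outside the closed point and fixing a field mapping onto the
residue field.
-/

set_option autoImplicit false
universe u v w

open IsLocalRing
open scoped Pointwise

namespace Groth.Agf.WildQuotBasic

variable (A : Type u) [CommRing A] [IsDomain A] (G : Type w) [Group G] [MulSemiringAction G A]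

theorem isIntegrallyClosed [IsIntegrallyClosed A] : IsIntegrallyClosed (FixedPoints.subring A G) := by
  let B := FixedPoints.subring A G
  let K := FractionRing A
  have hinj : Function.Injective (algebraMap B K) :=
    (IsFractionRing.injective A K).comp Subtype.val_injective
  refine (isIntegrallyClosed_iff (FractionRing B)).2 fun {x} hx => ?_
  obtain ⟨b₁, b₂, hb₂, rfl⟩ := IsFractionRing.div_surjective B x
  have hb₂0 : b₂ ≠ 0 := nonZeroDivisors.ne_zero hb₂
  let L : FractionRing B →ₐ[B] K := IsFractionRing.liftAlgHom (g := Algebra.ofId B K) hinj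
  have h1 : IsIntegral B (L (algebraMap B _ b₁ / algebraMap B _ b₂)) := hx.map L
  rw [map_div₀, L.commutes, L.commutes] at h1
  obtain ⟨a, ha⟩ := IsIntegrallyClosed.isIntegral_iff.1 (h1.tower_top (A := A))
  have hK2 : algebraMap B K b₂ ≠ 0 := (map_ne_zero_iff _ hinj).2 hb₂0
  rw [eq_div_iff hK2, IsScalarTower.algebraMap_apply B A K b₂, IsScalarTower.algebraMap_apply B A K b₁,
    ← map_mul] at ha
  have hab : a * (b₂ : A) = b₁ := IsFractionRing.injective A K ha
  have hfix : ∀ σ : G, σ • a = a := fun σ => by
    refine mul_right_cancel₀ (show (b₂ : A) ≠ 0 from fun h => hb₂0 (Subtype.ext h)) ?_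
    rw [hab]
    conv_rhs => rw [← b₁.2 σ, ← hab, smul_mul', b₂.2 σ]
  refine ⟨⟨a, hfix⟩, ?_⟩
  rw [eq_div_iff ((map_ne_zero_iff _ (IsFractionRing.injective B (FractionRing B))).2 hb₂0), ← map_mul]
  exact congrArg _ (Subtype.ext hab)

theorem faithfulSMul [IsLocalRing A] (hdim : 2 ≤ ringKrullDim A)
    (hram : ∀ P : Ideal A, P.IsPrime → P ≠ maximalIdeal A → P.inertia G = ⊥) : FaithfulSMul G A := by
  have hm0 : (⊥ : Ideal A) ≠ maximalIdeal A := fun h => by
    rw [ringKrullDim_eq_zero_of_isField (IsLocalRing.isField_iff_maximalIdeal_eq.2 h.symm)] at hdim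
    exact absurd hdim (by decide)
  refine ⟨fun {σ σ'} h => ?_⟩
  have h1 : σ'⁻¹ * σ ∈ (⊥ : Ideal A).inertia G := fun a => by
    show (σ'⁻¹ * σ) • a - a ∈ (⊥ : Ideal A)
    rw [mul_smul, h, inv_smul_smul, sub_self]; exact Submodule.zero_mem (⊥ : Ideal A)
  rw [hram ⊥ Ideal.isPrime_bot hm0, Subgroup.mem_bot] at h1
  exact (inv_mul_eq_one.1 h1).symm

/-- The invariants are not regular. -/
theorem not_regular [IsRegularLocalRing A] [IsAdicComplete (maximalIdeal A) A] [Finite G]
    [Nontrivial G] (hdim : 2 ≤ ringKrullDim A) (k : Type v) [Field k] [Algebra k A]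
    (hk : Function.Surjective (residue A ∘ algebraMap k A))
    (hGk : ∀ (σ : G) (c : k), σ • algebraMap k A c = algebraMap k A c)
    (hram : ∀ P : Ideal A, P.IsPrime → P ≠ maximalIdeal A → P.inertia G = ⊥) :
    ¬ IsRegularLocalRing (FixedPoints.subring A G) := by
  intro hreg
  obtain ⟨hfin, hnoeth⟩ := WildFinite.finite_noetherian (A := A) (G := G) k hk hGk
  haveI := Groth.PicAux.ufd_of_isRegularLocalRing A
  haveI := faithfulSMul A G hdim hram
  haveI : SMulCommClass G (FixedPoints.subring A G) A := ⟨fun σ b a => by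
    show σ • ((b : A) * a) = (b : A) * σ • a
    rw [smul_mul', b.2 σ]⟩
  have hres : Function.Surjective (residue A ∘ algebraMap (FixedPoints.subring A G) A) := fun x => by
    obtain ⟨c, hc⟩ := hk x
    exact ⟨⟨algebraMap k A c, fun σ => hGk σ c⟩, hc⟩
  have h := Groth.Agent.S15802.result (FixedPoints.subring A G) A Subtype.val_injective hres G
    fun a ha => ⟨⟨a, ha⟩, rfl⟩
  refine bot_ne_top (α := Subgroup G) ?_
  rw [← h, eq_comm, iSup_eq_bot]
  rintro ⟨P, hP, hP1⟩
  refine hram P hP fun hPm => ?_
  rw [hPm] at hP1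
  rw [← IsLocalRing.maximalIdeal_height_eq_ringKrullDim, hP1] at hdim
  exact absurd hdim (by decide)

/-- The localisations of the invariants away from the closed point are regular. -/
theorem isRegularLocalRing_localization [IsRegularLocalRing A] [Finite G]
    [Module.Finite (FixedPoints.subring A G) A] [IsNoetherianRing (FixedPoints.subring A G)]
    (hram : ∀ P : Ideal A, P.IsPrime → P ≠ maximalIdeal A → P.inertia G = ⊥)
    (P : Ideal (FixedPoints.subring A G)) [P.IsPrime] (hP : ¬ P.IsMaximal) :
    IsRegularLocalRing (Localization.AtPrime P) := by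
  classical
  let B := FixedPoints.subring A G
  obtain ⟨q, _, hq, hqP⟩ := Ideal.exists_ideal_over_prime_of_isIntegral P (⊥ : Ideal A) (by
    rw [Ideal.comap_bot_of_injective _ (show Function.Injective (algebraMap B A) from Subtype.val_injective)]
    exact bot_le)
  haveI : q.IsPrime := hq
  have hqm : q ≠ maximalIdeal A := fun h => hP (hqP ▸ h ▸
    Ideal.isMaximal_comap_of_isIntegral_of_isMaximal (maximalIdeal A))
  -- move the group into the universe of `A`
  let H := (MulSemiringAction.toRingAut G A).range
  haveI : Finite H := Finite.of_surjective _ (MulSemiringAction.toRingAut G A).rangeRestrict_surjective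
  haveI : SMulCommClass H B A := ⟨by
    rintro ⟨_, ⟨σ, rfl⟩⟩ b a
    show σ • ((b : A) * a) = (b : A) * σ • a
    rw [smul_mul', b.2 σ]⟩
  have hqH : q.inertia H = ⊥ := by
    refine eq_bot_iff.2 ?_
    rintro ⟨_, ⟨σ, rfl⟩⟩ hσ
    have : σ ∈ q.inertia G := fun a => hσ a
    rw [hram q hq hqm, Subgroup.mem_bot] at this
    subst this
    exact Subgroup.mem_bot.2 (Subtype.ext (map_one _))
  haveI het := CyclicPurity.isEtaleAt_of_inertia_eq_bot B A H Subtype.val_injective
    (fun a ha => ⟨⟨a, fun σ => ha ⟨_, σ, rfl⟩⟩, rfl⟩) q hqH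
  haveI : Algebra.FinitePresentation B A := Algebra.FinitePresentation.of_finiteType.mp inferInstance
  obtain ⟨_, ⟨g, rfl⟩, hgq, hg⟩ :=
    PrimeSpectrum.isTopologicalBasis_basic_opens.exists_subset_of_mem_open
      (show (⟨q, inferInstance⟩ : PrimeSpectrum A) ∈ Algebra.etaleLocus B A from het) Algebra.isOpen_etaleLocus
  haveI : Algebra.Etale B (Localization.Away g) := Algebra.basicOpen_subset_etaleLocus_iff_etale.mp hg
  let L := Localization.Away g
  have hdis : Disjoint (Submonoid.powers g : Set A) q := by
    rw [Set.disjoint_left]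
    rintro _ ⟨m, rfl⟩ h
    exact hgq (hq.mem_of_pow_mem m h)
  haveI hq' := IsLocalization.isPrime_of_isPrime_disjoint (Submonoid.powers g) L q hq hdis
  let q' := q.map (algebraMap A L)
  have hcomap : q'.comap (algebraMap A L) = q :=
    IsLocalization.comap_map_of_isPrime_disjoint (Submonoid.powers g) L hq hdis
  haveI : IsRegularLocalRing (Localization.AtPrime q') := by
    haveI := Ega4Algebra1.isRegularLocalRing_localization_atPrime A q
    haveI := IsLocalization.isLocalization_isLocalization_atPrime_isLocalization (Submonoid.powers g)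
      (Localization.AtPrime q') q'
    haveI : IsLocalization.AtPrime (Localization.AtPrime q') q := by
      convert this using 2
      exact hcomap.symm
    exact IsRegularLocalRing.of_ringEquiv
      (IsLocalization.algEquiv q.primeCompl (Localization.AtPrime q) (Localization.AtPrime q')).toRingEquiv
  haveI := Ega4Algebra1.isRegularLocalRing_comap_of_flat B L q'
  have hPq : q'.comap (algebraMap B L) = P := by
    rw [IsScalarTower.algebraMap_eq B A L, ← Ideal.comap_comap, hcomap, hqP]
  subst hPq
  assumption

end Groth.Agf.WildQuotBasic
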